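import Mathlib

/-!
# Numerical facts for the minimal index bounds
-/

set_option autoImplicit false

namespace Cfsg.Agent.MinIndex

theorem arith_sing {q k S n P : ℕ} (hq : 4 ≤ q) (hP : 1 ≤ P) (hk : q + 2 ≤ k)
    (hn : 1 + k * S ≤ n) (hS : (q - 1) * (q * P + P) ≤ S)
    (hs : (q - 1) * n + q ≤ (q - 1) * (q * (q * (q * P))) + q * (S + 1)) : False := by
  obtain ⟨r, rfl⟩ : ∃ r, q = r + 4 := ⟨q - 4, by omega⟩
  rw [show r + 4 - 1 = r + 3 by omega] at hS hs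
  have h1 : (r + 3) * (1 + (r + 4 + 2) * S) ≤ (r + 3) * n :=
    Nat.mul_le_mul_left _ (le_trans (Nat.add_le_add_left (Nat.mul_le_mul_right S hk) 1) hn)
  have h2 := Nat.mul_le_mul_left (r ^ 2 + 8 * r + 14) hS
  have h3 : (r + 4) * ((r + 4) * (r + 4)) ≤ (r ^ 2 + 8 * r + 14) * (r + 5) := by nlinarith
  have h4 := Nat.mul_le_mul_left ((r + 3) * P) h3
  nlinarith

theorem arith_ns {q k C m n Z P : ℕ} (hq : 2 ≤ q) (hC : q - 1 ≤ m * C)
    (hn : 1 + k * (C * (q - 1) * P) ≤ n)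
    (hs : (q - 1) * n + q ≤ (q - 1) * (q * (q * P)) + q * Z) (hZ : Z ≤ (q + 1) * P) :
    k * (q - 1) ^ 3 < m * (q * (q ^ 2 + 1)) := by
  obtain ⟨r, rfl⟩ : ∃ r, q = r + 2 := ⟨q - 2, by omega⟩
  simp only [show r + 2 - 1 = r + 1 by omega] at *
  have hm : 1 ≤ m := by
    rcases Nat.eq_zero_or_pos m with rfl | h
    · omega
    · exact h
  by_contra! hk
  have h1 : (r + 1) * n < (r + 2) * P * ((r + 2) ^ 2 + 1) := by nlinarith
  have h2 := Nat.mul_le_mul_left (r + 1) hn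
  have h3 : m * ((r + 1) * (1 + k * (C * (r + 1) * P))) < m * ((r + 2) * P * ((r + 2) ^ 2 + 1)) :=
    Nat.mul_lt_mul_of_pos_left (lt_of_le_of_lt h2 h1) hm
  have h4 := Nat.mul_le_mul_left (k * (r + 1) ^ 2 * P) hC
  have h5 := Nat.mul_le_mul_right P hk
  nlinarith

theorem arith_lines {q O m n Z P : ℕ} (hq : 4 ≤ q) (hP : 1 ≤ P)
    (hO : (q - 1) * (q * (q * (q * P))) ≤ O) (hm : O ≤ 2 * m)
    (hn : m * (q * (q * (q * (q * P)))) ≤ n)
    (hs : (q - 1) * n + q ≤ (q - 1) * (q * (q * (q * (q * (q * P))))) + q * Z)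
    (hZ : Z ≤ (q + 1) * (q * (q * (q * P)))) : False := by
  obtain ⟨r, rfl⟩ : ∃ r, q = r + 4 := ⟨q - 4, by omega⟩
  simp only [show r + 4 - 1 = r + 3 by omega] at *
  set T := (r + 4) * ((r + 4) * ((r + 4) * ((r + 4) * P))) with hT
  have hZ' : (r + 4) * Z ≤ (r + 5) * T := by
    refine (Nat.mul_le_mul_left (r + 4) hZ).trans (le_of_eq ?_)
    rw [hT]; ring
  have h1 : (r + 3) * m * T < ((r + 4) ^ 2 + 1) * T := by
    have := Nat.mul_le_mul_left (r + 3) hn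
    nlinarith
  have h2 : (r + 3) * m < (r + 4) ^ 2 + 1 := Nat.lt_of_mul_lt_mul_right h1
  have h3 := Nat.mul_le_mul_left (r + 3) (hO.trans hm)
  have h4 := Nat.mul_le_mul_left ((r + 3) * (r + 3) * ((r + 4) * ((r + 4) * (r + 4)))) hP
  have h6 : 2 * 1 ≤ (r + 3) * (r + 3) * (r + 4) := by nlinarith
  have h5 := Nat.mul_le_mul_right ((r + 4) * (r + 4)) h6
  nlinarith

end Cfsg.Agent.MinIndex
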