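import Cfsg.Agent.Lib.MinIndex.Pairing

/-!
# Orbits of a vector group inside a permutation action

`e : W → G` is additive-to-multiplicative, `X` a finite `G`-set.
* `stabW`, `orb`, `blocks`, `Ab` : stabilisers, orbits, their annihilators; `card_Ab`
* `kk φ` : number of orbits whose annihilator contains `φ`
* `bound` : `#blocks + k #O ≤ #X` when `k ≤ kk φ` on `O`, `0 ∉ O`
* `Norm g σ τ` : `g` normalises `e W`; `Ab_smul`, `kk_le_smul`
* `fix_of_lt_prime`, `fix_of_commutator` : fixing all blocks through `φ`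
-/

set_option autoImplicit false

namespace Cfsg.Agent.MinIndex

open LinearMap (BilinForm)
open scoped Pointwise

variable {F : Type*} [Field F] [Finite F] {W : Type*} [AddCommGroup W] [Module F W] [Fintype W]
variable {G : Type*} [Group G] {X : Type*} [MulAction G X]

/-- The standing data. -/
structure VecAct (F W G : Type*) [Field F] [AddCommGroup W] [Module F W] [Group G] where
  /-- the embedding -/
  e : W → G
  /-- the pairing -/
  B : BilinForm F W
  add : ∀ w w', e (w + w') = e w * e w'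
  nd : ∀ x, x ≠ 0 → ∃ y, B y x ≠ 0

variable (D : VecAct F W G)

omit [Finite F] [Fintype W] in
theorem VecAct.zero : D.e 0 = 1 := by
  have h := D.add 0 0
  rw [add_zero] at h
  exact mul_left_cancel (a := D.e 0) (by rw [← h, mul_one])

omit [Finite F] [Fintype W] in
theorem VecAct.neg (w : W) : D.e (-w) = (D.e w)⁻¹ :=
  eq_inv_of_mul_eq_one_left (by rw [← D.add, neg_add_cancel, D.zero])

omit [Finite F] [Fintype W] in
theorem VecAct.smul_comm' (w w' : W) (x : X) : D.e w • D.e w' • x = D.e w' • D.e w • x := by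
  rw [← mul_smul, ← mul_smul, ← D.add, ← D.add, add_comm]

/-- The stabiliser of a point, inside `W`. -/
def stabW (x : X) : AddSubgroup W where
  carrier := {w | D.e w • x = x}
  zero_mem' := by simp [D.zero]
  add_mem' {a b} (ha : _ = _) (hb : _ = _) := show _ = _ by rw [D.add, mul_smul, hb, ha]
  neg_mem' {a} (ha : _ = _) := show _ = _ by rw [D.neg, inv_smul_eq_iff, ha]

omit [Finite F] [Fintype W] in
theorem mem_stabW {x : X} {w : W} : w ∈ stabW D x ↔ D.e w • x = x := Iff.rfl

variable [Fintype X] [DecidableEq X]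

/-- The orbit of a point. -/
def orb (x : X) : Finset X := Finset.univ.image fun w : W => D.e w • x

omit [Finite F] [Fintype X] in
theorem mem_orb {x y : X} : y ∈ orb D x ↔ ∃ w, D.e w • x = y := by simp [orb]

omit [Finite F] [Fintype X] in
theorem self_mem_orb (x : X) : x ∈ orb D x := mem_orb D |>.2 ⟨0, by simp [D.zero]⟩

omit [Finite F] [Fintype X] in
theorem orb_eq {x y : X} (h : y ∈ orb D x) : orb D y = orb D x := by
  obtain ⟨w, rfl⟩ := (mem_orb D).1 h
  ext z
  simp only [mem_orb]
  constructor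
  · rintro ⟨v, rfl⟩; exact ⟨v + w, by rw [D.add, mul_smul]⟩
  · rintro ⟨v, rfl⟩; exact ⟨v + -w, by rw [D.add, mul_smul, D.neg, inv_smul_smul]⟩

omit [Finite F] [Fintype X] in
theorem stabW_eq {x y : X} (h : y ∈ orb D x) : stabW D y = stabW D x := by
  obtain ⟨w, rfl⟩ := (mem_orb D).1 h
  ext v
  rw [mem_stabW, mem_stabW, D.smul_comm', smul_left_cancel_iff]

/-- The orbits. -/
def blocks : Finset (Finset X) := Finset.univ.image (orb D)

omit [Finite F] in
theorem mem_blocks {b : Finset X} : b ∈ blocks (X := X) D ↔ ∃ x, orb D x = b := by simp [blocks]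

/-- The annihilator attached to an orbit. -/
noncomputable def Ab (b : Finset X) : AddSubgroup W := ⨅ x ∈ b, ann D.B (stabW D x)

omit [Fintype X] in
theorem Ab_orb (x : X) : Ab D (orb D x) = ann D.B (stabW D x) := by
  refine le_antisymm (iInf₂_le x (self_mem_orb D x)) (le_iInf₂ fun y hy => ?_)
  rw [stabW_eq D hy]

omit [Fintype X] in
theorem card_orb (x : X) : (orb D x).card = Nat.card (ann D.B (stabW D x)) := by
  classical
  have h1 : (orb D x).card * Nat.card (stabW D x) = Nat.card W := by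
    rw [Nat.card_eq_fintype_card (α := W), ← Finset.card_univ,
      Finset.card_eq_sum_card_image (fun w : W => D.e w • x) Finset.univ,
      Finset.sum_const_nat (m := Nat.card (stabW D x))]
    · rfl
    intro y hy
    obtain ⟨v, -, rfl⟩ := Finset.mem_image.1 hy
    rw [Nat.card_eq_fintype_card, ← Fintype.card_coe]
    refine Fintype.card_congr
      { toFun := fun w => ⟨w.1 + -v, ?_⟩
        invFun := fun r => ⟨r.1 + v, ?_⟩
        left_inv := fun w => by ext; simp
        right_inv := fun r => by ext; simp }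
    · have hw := (Finset.mem_filter.1 w.2).2
      rw [mem_stabW, add_comm, D.add, mul_smul, hw, D.neg, inv_smul_smul]
    · refine Finset.mem_filter.2 ⟨Finset.mem_univ _, ?_⟩
      rw [add_comm, D.add, mul_smul, (mem_stabW D).1 r.2]
  exact Nat.eq_of_mul_eq_mul_right Nat.card_pos (h1.trans (card_ann_mul D.nd _).symm)

theorem card_Ab {b : Finset X} (hb : b ∈ blocks D) : Nat.card (Ab D b) = b.card := by
  obtain ⟨x, rfl⟩ := (mem_blocks D).1 hb
  rw [Ab_orb, card_orb]

theorem card_eq_sum : Fintype.card X = ∑ b ∈ blocks (X := X) D, b.card := by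
  rw [← Finset.card_univ, Finset.card_eq_sum_card_image (orb D) Finset.univ]
  refine Finset.sum_congr rfl fun b hb => congrArg Finset.card ?_
  obtain ⟨x, rfl⟩ := (mem_blocks D).1 hb
  ext y
  simp only [Finset.mem_filter, Finset.mem_univ, true_and]
  exact ⟨fun h => h ▸ self_mem_orb D y, orb_eq D⟩

open scoped Classical in
/-- The number of orbits whose annihilator contains `φ`. -/
noncomputable def kk (X : Type*) [MulAction G X] [Fintype X] [DecidableEq X] (φ : W) : ℕ :=
  ((blocks (X := X) D).filter fun b => φ ∈ Ab D b).card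

open scoped Classical in
theorem bound {O : Finset W} (h0 : (0 : W) ∉ O) {k : ℕ} (hk : ∀ φ ∈ O, k ≤ kk D X φ) :
    (blocks (X := X) D).card + k * O.card ≤ Fintype.card X := by
  have h1 : k * O.card ≤ ∑ b ∈ blocks (X := X) D, (O.filter fun φ => φ ∈ Ab D b).card := by
    rw [Finset.sum_congr rfl fun b _ => Finset.card_filter _ _, Finset.sum_comm, mul_comm,
      ← smul_eq_mul]
    refine Finset.card_nsmul_le_sum _ _ _ fun φ hφ => ?_
    rw [← Finset.card_filter]
    exact hk φ hφ
  have h2 : ∀ b ∈ blocks (X := X) D, (O.filter fun φ => φ ∈ Ab D b).card + 1 ≤ b.card := by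
    intro b hb
    rw [← card_Ab D hb, Nat.card_eq_fintype_card, Fintype.card_subtype,
      ← Finset.card_insert_of_notMem (a := (0 : W)) (by simp [h0])]
    refine Finset.card_le_card (Finset.insert_subset (by simp [(Ab D b).zero_mem]) fun φ hφ => ?_)
    simp [(Finset.mem_filter.1 hφ).2]
  have h3 := Finset.sum_le_sum h2
  rw [Finset.sum_add_distrib, ← Finset.card_eq_sum_ones, ← card_eq_sum] at h3
  omega

/-! ### Normalising elements -/

/-- `g` normalises `e W`, acting as `σ`; `τ` is adjoint to it. -/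
structure Norm (g : G) (σ τ : W → W) : Prop where
  conj : ∀ w, g * D.e w * g⁻¹ = D.e (σ w)
  adj : ∀ φ r, D.B (τ φ) (σ r) = D.B φ r
  surj : Function.Surjective σ
  inj : Function.Injective τ

omit [Finite F] in
theorem smul_orb {g : G} {σ τ : W → W} (h : Norm D g σ τ) (x : X) :
    g • orb D x = orb D (g • x) := by
  ext y
  rw [Finset.mem_smul_finset]
  constructor
  · rintro ⟨z, hz, rfl⟩
    obtain ⟨w, rfl⟩ := (mem_orb D).1 hz
    exact (mem_orb D).2 ⟨σ w, by rw [← h.conj, ← mul_smul, ← mul_smul]; simp⟩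
  · intro hy
    obtain ⟨w, rfl⟩ := (mem_orb D).1 hy
    obtain ⟨v, rfl⟩ := h.surj w
    exact ⟨D.e v • x, (mem_orb D).2 ⟨v, rfl⟩, by rw [← h.conj, ← mul_smul, ← mul_smul]; simp⟩

theorem smul_mem_blocks {g : G} {σ τ : W → W} (h : Norm D g σ τ) {b : Finset X}
    (hb : b ∈ blocks D) : g • b ∈ blocks D := by
  obtain ⟨x, rfl⟩ := (mem_blocks D).1 hb
  exact (mem_blocks D).2 ⟨g • x, (smul_orb D h x).symm⟩

omit [Fintype X] in
theorem Ab_smul {g : G} {σ τ : W → W} (h : Norm D g σ τ) {b : Finset X} {φ : W}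
    (hφ : φ ∈ Ab D b) : τ φ ∈ Ab D (g • b) := by
  simp only [Ab, AddSubgroup.mem_iInf, mem_ann] at hφ ⊢
  intro y hy r hr
  obtain ⟨x, hx, rfl⟩ := Finset.mem_smul_finset.1 hy
  obtain ⟨v, rfl⟩ := h.surj r
  rw [h.adj]
  refine hφ x hx v ?_
  rw [mem_stabW] at hr ⊢
  rw [← h.conj, ← mul_smul] at hr
  simpa [mul_smul] using hr

theorem kk_le_smul {g : G} {σ τ : W → W} (h : Norm D g σ τ) (φ : W) :
    kk D X φ ≤ kk D X (τ φ) := by
  classical
  refine Finset.card_le_card_of_injOn (fun b => g • b) (fun b hb => ?_)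
    fun b _ c _ hbc => smul_left_cancel g hbc
  obtain ⟨hb, hφ⟩ := Finset.mem_filter.1 hb
  exact Finset.mem_filter.2 ⟨smul_mem_blocks D h hb, Ab_smul D h hφ⟩

/-! ### Fixing the orbits through `φ` -/

/-- `g` normalises and its adjoint fixes `φ`. -/
def Fixes (g : G) (φ : W) : Prop := ∃ σ τ : W → W, Norm D g σ τ ∧ τ φ = φ

theorem Fixes.mapsTo {g : G} {φ : W} (h : Fixes D g φ) {b : Finset X} (hb : b ∈ blocks D)
    (hφ : φ ∈ Ab D b) : g • b ∈ blocks D ∧ φ ∈ Ab D (g • b) := by
  obtain ⟨σ, τ, hn, e⟩ := h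
  exact ⟨smul_mem_blocks D hn hb, e ▸ Ab_smul D hn hφ⟩

/-- Elements of `p`-power order fix the blocks through `φ` if there are fewer than `p`. -/
theorem fix_of_lt_prime {p : ℕ} (hp : p.Prime) {g : G} {φ : W} (h : Fixes D g φ) {N : ℕ}
    (hg : g ^ p ^ N = 1) (hk : kk D X φ < p) {b : Finset X} (hb : b ∈ blocks D)
    (hφ : φ ∈ Ab D b) : g • b = b := by
  classical
  set f : Finset X → Finset X := fun c => g • c with hf
  have hit : ∀ i, f^[i] b ∈ blocks D ∧ φ ∈ Ab D (f^[i] b) := by
    intro i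
    induction i with
    | zero => exact ⟨hb, hφ⟩
    | succ i ih => rw [Function.iterate_succ_apply']; exact h.mapsTo D ih.1 ih.2
  have hper : Function.IsPeriodicPt f (p ^ N) b := by
    show f^[p ^ N] b = b
    rw [hf, smul_iterate, hg]; exact one_smul G b
  obtain ⟨j, -, hj⟩ := (Nat.dvd_prime_pow hp).1 hper.minimalPeriod_dvd
  have hle : Function.minimalPeriod f b ≤ kk D X φ := by
    refine (le_of_eq (Finset.card_range _).symm).trans
      (Finset.card_le_card_of_injOn (fun i => f^[i] b) (fun i _ => ?_) fun i hi k hk' he => ?_)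
    · exact Finset.mem_filter.2 (hit i)
    · simp only [Finset.coe_range, Set.mem_Iio] at hi hk'
      exact (Function.iterate_eq_iterate_iff_of_lt_minimalPeriod hi hk').1 he
  rcases Nat.eq_zero_or_pos j with rfl | hjp
  · rw [pow_zero] at hj
    have := Function.isPeriodicPt_minimalPeriod f b
    rw [hj] at this
    exact this
  · have : p ≤ p ^ j := Nat.le_self_pow hjp.ne' p
    omega

theorem comm_of_card_le_two {α : Type*} {s : Finset α} (hs : s.card ≤ 2) {f g : α → α}
    (hf : ∀ x ∈ s, f x ∈ s) (hg : ∀ x ∈ s, g x ∈ s) (hfi : Set.InjOn f s) (hgi : Set.InjOn g s)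
    {x : α} (hx : x ∈ s) : f (g x) = g (f x) := by
  classical
  obtain h | ⟨y, hy, hxy⟩ : (∀ y ∈ s, y = x) ∨ ∃ y ∈ s, y ≠ x := by
    by_cases h : ∀ y ∈ s, y = x
    · exact .inl h
    · push Not at h; exact .inr h
  · rw [h _ (hg x hx), h _ (hf x hx), h _ (hg x hx)]
  have hs' : ∀ z ∈ s, z = x ∨ z = y := by
    intro z hz
    by_contra! hne
    have : ({x, y, z} : Finset α).card ≤ s.card := Finset.card_le_card (by
      simp [Finset.insert_subset_iff, hx, hy, hz])
    rw [Finset.card_insert_of_notMem (by simp [hxy.symm, hne.1.symm]),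
      Finset.card_insert_of_notMem (by simp [hne.2.symm]), Finset.card_singleton] at this
    omega
  have ne : ∀ {u : α → α}, Set.InjOn u s → u x ≠ u y := fun hu e => hxy (hu hx hy e).symm
  have nf := ne hfi
  have ng := ne hgi
  rcases hs' _ (hg x hx) with h1 | h1 <;> rcases hs' _ (hf x hx) with h2 | h2 <;>
    rcases hs' _ (hg y hy) with h3 | h3 <;> rcases hs' _ (hf y hy) with h4 | h4 <;>
    simp_all

/-- Commutators fix the blocks through `φ` if there are at most two. -/
theorem fix_of_commutator {g h : G} {φ : W} (hg : Fixes D g φ) (hh : Fixes D h φ)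
    (hk : kk D X φ ≤ 2) {b : Finset X} (hb : b ∈ blocks D) (hφ : φ ∈ Ab D b) :
    (g * h * g⁻¹ * h⁻¹) • b = b := by
  classical
  set s := (blocks (X := X) D).filter fun b => φ ∈ Ab D b with hs
  have hm : ∀ {k : G}, Fixes D k φ → ∀ c ∈ s, k • c ∈ s := fun hk c hc => by
    obtain ⟨h1, h2⟩ := Finset.mem_filter.1 hc
    exact Finset.mem_filter.2 (hk.mapsTo D h1 h2)
  have hi : ∀ k : G, Set.InjOn (fun c : Finset X => k • c) s := fun k _ _ _ _ e => smul_left_cancel k e
  have hsur : ∀ {k : G}, Fixes D k φ → ∀ c ∈ s, ∃ c' ∈ s, k • c' = c := fun {k} hk c hc =>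
    Finset.surj_on_of_inj_on_of_card_le (fun c' _ => k • c') (fun c' hc' => hm hk c' hc')
      (fun _ _ h1 h2 e => hi k h1 h2 e) le_rfl c hc |>.imp fun c' ⟨h1, h2⟩ => ⟨h1, h2.symm⟩
  obtain ⟨c', hc', e1⟩ := hsur hh b (Finset.mem_filter.2 ⟨hb, hφ⟩)
  obtain ⟨c, hc, e2⟩ := hsur hg c' hc'
  have e3 : g • h • c = h • g • c :=
    comm_of_card_le_two hk (hm hg) (hm hh) (hi g) (hi h) hc
  rw [← e1, ← e2]
  simp [mul_smul, e3]

end Cfsg.Agent.MinIndex
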