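import Cfsg.Agent.Lib.MinIndex.OrthImages
import Cfsg.Agent.Lib.MinIndex.Arith

/-!
# Orbits of a root group `U_a` on a small `Ω(Q)`-set

`X` is an `Ω`-set with fewer points than there are singular points (`Small`), `q ≥ 4`.
* `el`, `vact`, `AV` : the elements `e_a(w)`, the vector action, annihilators in ambient coordinates
* `Lev` : elements scaling `a, b`; `exists_lev`, `exists_lev_sq`
* `kk_le_norm`, `kk_sing_le`, `fix_unip`
* `classify` : every annihilator is `0`, everything, in a line, or totally singular exceptional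
-/

set_option autoImplicit false
set_option linter.unusedSectionVars false

namespace Cfsg.Agent.MinIndex

open Cfsg Matrix Module Cfsg.Agent.Orth
open Cfsg.Agent.AutPOmega (NdOn ndOn_cut exists_hpair_in exists_hpair_of_three finrank_perp_eq Base)
open QuadraticMap (polar)
open scoped Pointwise

variable {ι : Type} [Fintype ι] [DecidableEq ι] {F : Type*} [Field F] [Fintype F]
variable {Q : QuadraticForm F (ι → F)}

/-- A submodule of a finite space as a finite type. -/
noncomputable def fintypeSub (W : Submodule F (ι → F)) : Fintype W := Fintype.ofFinite W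

attribute [local instance] fintypeSub

/-- The Eichler element in `Ω`. -/
noncomputable def el (H : Base Q) (u w : ι → F) : ↥(Omega F ⇑Q) := ⟨eich Q u w, H.eich_mem u w⟩

theorem el_coe (H : Base Q) (u w : ι → F) : (el H u w : IsoGrp Q) = eich Q u w := rfl

theorem el_add (H : Base Q) {u w w' : ι → F} (hu : Q u = 0) (hw : polar ⇑Q u w = 0)
    (hw' : polar ⇑Q u w' = 0) : el H u (w + w') = el H u w * el H u w' :=
  Subtype.ext (eich_add hu hw hw').symm

theorem el_zero (H : Base Q) (u : ι → F) : el H u 0 = 1 := Subtype.ext (eich_zero u)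

theorem el_pow (H : Base Q) {u w : ι → F} (hu : Q u = 0) (hw : polar ⇑Q u w = 0) (m : ℕ) :
    el H u w ^ m = el H u (m • w) := by
  induction m with
  | zero => rw [pow_zero, zero_smul, el_zero]
  | succ m ih =>
    rw [pow_succ, ih, succ_nsmul, el_add H hu (by
      rw [← Nat.cast_smul_eq_nsmul F, pl_smul_right, hw, mul_zero]) hw]

/-- The root group of `a` as a vector action. -/
noncomputable def vact (H : Base Q) {a b : ι → F} (hab : HPair Q a b) :
    VecAct F ↥(perp Q a b) ↥(Omega F ⇑Q) where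
  e w := el H a (w : ι → F)
  B := Q.polarBilin.compl₁₂ (perp Q a b).subtype (perp Q a b).subtype
  add w w' := el_add H hab.qe (mem_perp.1 w.2).1 (mem_perp.1 w'.2).1
  nd x hx := by
    obtain ⟨y, hy, hxy⟩ := hab.perp_nondeg H.nd x.2 (by simpa using hx)
    exact ⟨⟨y, hy⟩, by rwa [pl_comm] at hxy⟩

theorem vact_B (H : Base Q) {a b : ι → F} (hab : HPair Q a b) (v w : ↥(perp Q a b)) :
    (vact H hab).B v w = polar ⇑Q (v : ι → F) (w : ι → F) := rfl

/-- `g` scales the pair `a, b`. -/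
structure Lev (g : ↥(Omega F ⇑Q)) (a b : ι → F) (μ : F) : Prop where
  ne : μ ≠ 0
  left : ap (g : IsoGrp Q) a = μ • a
  right : ap (g : IsoGrp Q) b = μ⁻¹ • b

theorem lev_of_fix {g : ↥(Omega F ⇑Q)} {a b : ι → F} (ha : ap (g : IsoGrp Q) a = a)
    (hb : ap (g : IsoGrp Q) b = b) : Lev g a b 1 :=
  ⟨one_ne_zero, by rw [one_smul, ha], by rw [inv_one, one_smul, hb]⟩

variable {a b : ι → F}

theorem Lev.mem {g : ↥(Omega F ⇑Q)} {μ : F} (hl : Lev g a b μ) {x : ι → F}
    (hx : x ∈ perp Q a b) : ap (g : IsoGrp Q) x ∈ perp Q a b :=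
  ap_mem_perp hl.ne (inv_ne_zero hl.ne) hl.left hl.right hx

theorem lev_norm (H : Base Q) (hab : HPair Q a b) {g : ↥(Omega F ⇑Q)} {μ : F} (hl : Lev g a b μ) :
    Norm (vact H hab) g
      (fun w => ⟨μ • ap (g : IsoGrp Q) (w : ι → F), Submodule.smul_mem _ _ (hl.mem w.2)⟩)
      (fun w => ⟨μ⁻¹ • ap (g : IsoGrp Q) (w : ι → F), Submodule.smul_mem _ _ (hl.mem w.2)⟩) where
  conj w := Subtype.ext (by
    show (g : IsoGrp Q) * eich Q a w * (g : IsoGrp Q)⁻¹ = eich Q a _
    rw [conj_eich, hl.left, eich_smul_left])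
  adj v w := by
    simp only [vact_B, pl_smul_left, pl_smul_right, polar_ap]
    rw [← mul_assoc, mul_inv_cancel₀ hl.ne, one_mul]
  surj := Finite.injective_iff_surjective.1 fun v w h =>
    Subtype.ext (ap_inj (g : IsoGrp Q) (smul_right_injective _ hl.ne (congrArg Subtype.val h)))
  inj v w h := Subtype.ext (ap_inj (g : IsoGrp Q)
    (smul_right_injective _ (inv_ne_zero hl.ne) (congrArg Subtype.val h)))

theorem lev_fixes (H : Base Q) (hab : HPair Q a b) {g : ↥(Omega F ⇑Q)}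
    (ha : ap (g : IsoGrp Q) a = a) (hb : ap (g : IsoGrp Q) b = b) {φ : ↥(perp Q a b)}
    (hφ : ap (g : IsoGrp Q) (φ : ι → F) = φ) : Fixes (vact H hab) g φ :=
  ⟨_, _, lev_norm H hab (lev_of_fix ha hb), Subtype.ext (by simp [hφ])⟩

theorem torus_ap_right {e f : ι → F} (h : HPair Q e f) {t : F} (ht : t ≠ 0) :
    ap (torus Q e f t) f = t⁻¹ • f := by
  rw [torus, ap_mul]
  have e1 : ap (refl Q (e - t • f)) f = t⁻¹ • e := by
    rw [refl_ap, pl_sub_left, pl_smul_left, pl_self, h.qf, h.pf, Q_sub, Q_smul, pl_smul_right,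
      h.qe, h.qf, h.pf]
    match_scalars <;> simp [ht]
  rw [e1, map_smul, refl_ap, pl_sub_left, pl_self, h.qe, h.swap.pf, Q_sub, h.qe, h.qf, h.pf]
  congr 1
  match_scalars <;> ring

theorem torus_mem [DecidableEq F] (hG : Good Q) {e f : ι → F} (h : HPair Q e f) {t : F} (ht : t ≠ 0)
    (hc : quadraticChar F t = 1) : torus Q e f t ∈ Omega F ⇑Q := by
  have q1 : Q (e - f) = -1 := by rw [Q_sub, h.qe, h.qf, h.pf]; ring
  have q2 : Q (e - t • f) = -t := by rw [Q_sub, Q_smul, pl_smul_right, h.qe, h.qf, h.pf]; ring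
  have n1 : Q (e - f) ≠ 0 := by rw [q1]; simp
  have n2 : Q (e - t • f) ≠ 0 := by rw [q2]; simpa using ht
  refine (mem_omega_iff hG _).2 ⟨?_, ?_⟩
  · rw [torus, dick_mul hG, dick_refl hG.nd n1, dick_refl hG.nd n2]; norm_num
  · rw [torus, spin_mul hG, spin_refl hG.nd n1, spin_refl hG.nd n2, ← map_mul, q1, q2,
      neg_one_mul, neg_neg, ← hc]
    congr!

/-- Scalars on the pair, fixing the whole orthogonal. -/
theorem exists_lev_sq (H : Base Q) (hab : HPair Q a b) {μ : F} (hμ : μ ≠ 0) (hsq : IsSquare μ) :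
    ∃ g : ↥(Omega F ⇑Q), Lev g a b μ ∧ ∀ x ∈ perp Q a b, ap (g : IsoGrp Q) x = x := by
  classical
  refine ⟨⟨torus Q a b μ, torus_mem (good_of_base H) hab hμ
    ((quadraticChar_one_iff_isSquare hμ).2 hsq)⟩, ⟨hμ, hab.torus_ap_left hμ, torus_ap_right hab hμ⟩,
    fun x hx => HPair.torus_ap_perp hx μ⟩

/-- Any scalar on the pair, fixing a given vector of the orthogonal. -/
theorem exists_lev (H : Base Q) (hab : HPair Q a b) {μ : F} (hμ : μ ≠ 0) {φ : ι → F}
    (hφ : φ ∈ perp Q a b) :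
    ∃ g : ↥(Omega F ⇑Q), Lev g a b μ ∧ ap (g : IsoGrp Q) φ = φ := by
  obtain ⟨hWnd, hWd⟩ := finrank_perp_eq H.nd hab
  obtain ⟨e, he, f, hf, hef, h1, h2⟩ := exists_pair_orth_vec hWnd (by have := H.seven; omega) hφ
  obtain ⟨k, hk, hkf⟩ := exists_signs (good_of_base H) (torus Q a b μ) hef
  refine ⟨⟨_, hk⟩, ⟨hμ, ?_, ?_⟩, ?_⟩
  · show ap (k * torus Q a b μ) a = _
    rw [ap_mul, hab.torus_ap_left hμ, map_smul, hkf a (mem_perp.1 he).1 (mem_perp.1 hf).1]
  · show ap (k * torus Q a b μ) b = _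
    rw [ap_mul, torus_ap_right hab hμ, map_smul, hkf b (mem_perp.1 he).2 (mem_perp.1 hf).2]
  · show ap (k * torus Q a b μ) φ = _
    rw [ap_mul, HPair.torus_ap_perp hφ, hkf φ h1 h2]

theorem cnt_top (H : Base Q) (hab : HPair Q a b) : cnt Q ⊤ 0 =
    (Fintype.card F - 1) * Fintype.card F ^ finrank F (perp Q a b) +
      Fintype.card F * cnt Q (perp Q a b) 0 := by
  rw [cnt_pair hab Submodule.mem_top Submodule.mem_top, top_inf_eq, card_sub]

/-! ### the action -/

variable {X : Type*} [MulAction ↥(Omega F ⇑Q) X] [Fintype X] [DecidableEq X]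

/-- Fewer points than singular points of the space. -/
def Small (Q : QuadraticForm F (ι → F)) (X : Type*) [Fintype X] : Prop :=
  (Fintype.card F - 1) * Fintype.card X + Fintype.card F ≤ cnt Q ⊤ 0

/-- The annihilator of a block, in ambient coordinates. -/
noncomputable def AV (H : Base Q) (hab : HPair Q a b) (B : Finset X) : AddSubgroup (ι → F) :=
  (Ab (vact H hab) B).map (perp Q a b).subtype.toAddMonoidHom

theorem mem_AV {H : Base Q} {hab : HPair Q a b} {B : Finset X} {v : ι → F} :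
    v ∈ AV H hab B ↔ ∃ h : v ∈ perp Q a b, (⟨v, h⟩ : ↥(perp Q a b)) ∈ Ab (vact H hab) B := by
  constructor
  · rintro ⟨⟨w, hw⟩, h, rfl⟩; exact ⟨hw, h⟩
  · rintro ⟨h, h'⟩; exact ⟨⟨v, h⟩, h', rfl⟩

theorem AV_le {H : Base Q} {hab : HPair Q a b} {B : Finset X} {v : ι → F} (hv : v ∈ AV H hab B) :
    v ∈ perp Q a b := (mem_AV.1 hv).1

theorem orb_of_mem {H : Base Q} {hab : HPair Q a b} {B : Finset X}
    (hB : B ∈ blocks (vact H hab)) {x : X} (hx : x ∈ B) : orb (vact H hab) x = B := by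
  obtain ⟨y, rfl⟩ := (mem_blocks _).1 hB
  exact orb_eq _ hx

theorem AV_lev (H : Base Q) (hab : HPair Q a b) {g : ↥(Omega F ⇑Q)} {μ : F} (hl : Lev g a b μ)
    {B : Finset X} {v : ι → F} (hv : v ∈ AV H hab B) :
    μ⁻¹ • ap (g : IsoGrp Q) v ∈ AV H hab (g • B) := by
  obtain ⟨h, h'⟩ := mem_AV.1 hv
  exact mem_AV.2 ⟨_, Ab_smul (vact H hab) (lev_norm H hab hl) h'⟩

/-- Vectors orthogonal to the annihilator fix the points of the block. -/
theorem fix_of_orth (H : Base Q) (hab : HPair Q a b) {B : Finset X} (hB : B ∈ blocks (vact H hab))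
    {x : X} (hx : x ∈ B) {w : ι → F} (hw : w ∈ perp Q a b)
    (h : ∀ v ∈ AV H hab B, polar ⇑Q v w = 0) : el H a w • x = x := by
  have : (⟨w, hw⟩ : ↥(perp Q a b)) ∈ stabW (vact H hab) x := by
    refine mem_of_ann (vact H hab).nd fun φ hφ => ?_
    rw [← Ab_orb, orb_of_mem hB hx] at hφ
    rw [vact_B, h φ (mem_AV.2 ⟨φ.2, hφ⟩), AddChar.map_zero_eq_one]
  exact this

/-- The annihilator is orthogonal to every subspace fixing a point of the block. -/
theorem orth_of_fix (H : Base Q) (hab : HPair Q a b) {B : Finset X} (hB : B ∈ blocks (vact H hab))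
    {x : X} (hx : x ∈ B) {U : Submodule F (ι → F)} (hU : U ≤ perp Q a b)
    (hfix : ∀ u ∈ U, el H a u • x = x) {v : ι → F} (hv : v ∈ AV H hab B) {u : ι → F} (hu : u ∈ U) :
    polar ⇑Q v u = 0 := by
  by_contra hne
  obtain ⟨h, h'⟩ := mem_AV.1 hv
  rw [← orb_of_mem hB hx, Ab_orb, mem_ann] at h'
  obtain ⟨c, hc⟩ := exists_chr_ne (F := F) (W := F) (l := LinearMap.id)
    (fun e => one_ne_zero (LinearMap.congr_fun e (1 : F)))
  apply hc
  have := h' ⟨(c / polar ⇑Q v u) • u, hU (U.smul_mem _ hu)⟩ (hfix _ (U.smul_mem _ hu))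
  rwa [vact_B, pl_smul_right, div_mul_cancel₀ _ hne] at this

/-- A point stabilised by `w` is orthogonal to every subspace inside the annihilator. -/
theorem orth_of_sub (H : Base Q) (hab : HPair Q a b) {B : Finset X} (hB : B ∈ blocks (vact H hab))
    {x : X} (hx : x ∈ B) {U : Submodule F (ι → F)} (hU : ∀ u ∈ U, u ∈ AV H hab B) {w : ι → F}
    (hw : w ∈ perp Q a b) (hfix : el H a w • x = x) {u : ι → F} (hu : u ∈ U) :
    polar ⇑Q u w = 0 := by
  by_contra hne
  obtain ⟨c, hc⟩ := exists_chr_ne (F := F) (W := F) (l := LinearMap.id)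
    (fun e => one_ne_zero (LinearMap.congr_fun e (1 : F)))
  obtain ⟨h, h'⟩ := mem_AV.1 (hU _ (U.smul_mem (c / polar ⇑Q u w) hu))
  rw [← orb_of_mem hB hx, Ab_orb, mem_ann] at h'
  apply hc
  have := h' ⟨w, hw⟩ hfix
  rwa [vact_B, pl_smul_left, div_mul_cancel₀ _ hne] at this

/-! ### the numbers `kk` -/

theorem kk_le_norm (H : Base Q) (hab : HPair Q a b) {φ ψ : ↥(perp Q a b)} {s : F} (hs : s ≠ 0)
    (hφ : φ ≠ 0) (hψ : ψ ≠ 0) (hQ : Q (ψ : ι → F) = s * s * Q (φ : ι → F)) :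
    kk (vact H hab) X φ ≤ kk (vact H hab) X ψ := by
  have hψ' : s⁻¹ • ψ ≠ 0 := smul_ne_zero (inv_ne_zero hs) hψ
  obtain ⟨g, hg, ga, gb, gφ⟩ := exists_fix_omega (good_of_base H) H.seven hab φ.2
    (φ' := (s⁻¹ • ψ : ↥(perp Q a b))) (s⁻¹ • ψ).2 (by simpa using hφ) (by simpa using hψ')
    (by rw [Submodule.coe_smul, Q_smul, hQ]; field_simp)
  have h1 := kk_le_smul (X := X) (vact H hab)
    (lev_norm H hab (lev_of_fix (g := ⟨g, hg⟩) ga gb)) φ
  obtain ⟨k, hk, kψ⟩ := exists_lev H hab (inv_ne_zero hs) ψ.2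
  have h2 := kk_le_smul (X := X) (vact H hab) (lev_norm H hab hk) (s⁻¹ • ψ)
  refine h1.trans (le_trans (le_of_eq (congrArg _ (Subtype.ext ?_))) (h2.trans
    (le_of_eq (congrArg _ (Subtype.ext ?_)))))
  · show (1 : F)⁻¹ • ap g (φ : ι → F) = _
    rw [inv_one, one_smul, gφ]
  · show s⁻¹⁻¹ • ap (k : IsoGrp Q) ((s⁻¹ • ψ : ↥(perp Q a b)) : ι → F) = _
    rw [Submodule.coe_smul, map_smul, kψ, smul_smul, inv_inv, mul_inv_cancel₀ hs, one_smul]

open scoped Classical in
theorem sing_bound (H : Base Q) (hab : HPair Q a b) {φ : ↥(perp Q a b)} (hφ : φ ≠ 0)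
    (hQ : Q (φ : ι → F) = 0) : (blocks (X := X) (vact H hab)).card +
      kk (vact H hab) X φ * (cnt Q (perp Q a b) 0 - 1) ≤ Fintype.card X := by
  classical
  set O := Finset.univ.filter fun v : ↥(perp Q a b) => Q (v : ι → F) = 0 ∧ v ≠ 0 with hO
  have hc : cnt Q (perp Q a b) 0 - 1 = O.card := by
    rw [cnt, Nat.card_eq_fintype_card, Fintype.card_subtype,
      ← Finset.card_erase_of_mem (a := (0 : ι → F)) (by simp),
      ← Finset.card_map (s := O) (Function.Embedding.subtype _)]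
    congr 1; ext x; simp [hO]; tauto
  rw [hc]
  refine bound (vact H hab) (by simp [hO]) fun ψ hψ => ?_
  obtain ⟨hQψ, hψ0⟩ := (Finset.mem_filter.1 hψ).2
  exact kk_le_norm H hab one_ne_zero hφ hψ0 (by rw [hQ, hQψ, mul_zero])

theorem blocks_pos (H : Base Q) (hab : HPair Q a b) [Nonempty X] :
    1 ≤ (blocks (X := X) (vact H hab)).card :=
  Finset.card_pos.2 ⟨_, (mem_blocks _).2 ⟨Classical.arbitrary X, rfl⟩⟩

theorem kk_sing_le (H : Base Q) (hq : 4 ≤ Fintype.card F) (hab : HPair Q a b) [Nonempty X]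
    (hs : Small Q X) {φ : ↥(perp Q a b)} (hφ : φ ≠ 0) (hQ : Q (φ : ι → F) = 0) :
    kk (vact H hab) X φ ≤ Fintype.card F + 1 := by
  by_contra! hk
  have h1 := sing_bound (X := X) H hab hφ hQ
  have hb := blocks_pos (X := X) H hab
  obtain ⟨hWnd, hWd⟩ := finrank_perp_eq H.nd hab
  have hd : 5 ≤ finrank F (perp Q a b) := by have := H.seven; omega
  have hl := le_cnt_zero hWnd hd
  rw [Small, cnt_top H hab] at hs
  obtain ⟨d, hd'⟩ : ∃ d, finrank F (perp Q a b) = d + 3 := ⟨_, (Nat.sub_add_cancel (by omega)).symm⟩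
  rw [hd', show d + 3 - 2 = d + 1 by omega, show d + 3 - 3 = d by omega] at hl
  rw [hd'] at hs
  obtain ⟨S, hS⟩ : ∃ S, cnt Q (perp Q a b) 0 = S + 1 :=
    ⟨_, (Nat.sub_add_cancel (one_le_cnt_zero _)).symm⟩
  rw [hS] at hl hs
  rw [hS, Nat.add_sub_cancel] at h1
  simp only [pow_succ'] at hs hl
  refine arith_sing hq (Nat.one_le_pow d (Fintype.card F) (by omega)) hk
    (le_trans (Nat.add_le_add_right hb _) h1) ?_ hs
  omega

theorem class_bound [DecidableEq F] (H : Base Q) (hab : HPair Q a b) {φ : ↥(perp Q a b)}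
    (hQ : Q (φ : ι → F) ≠ 0) :
    (blocks (X := X) (vact H hab)).card + kk (vact H hab) X φ *
      (((Finset.univ.filter fun s : F => s ≠ 0).image fun s => s * s * Q (φ : ι → F)).card *
        (Fintype.card F - 1) * Fintype.card F ^ (finrank F (perp Q a b) - 2)) ≤ Fintype.card X := by
  classical
  obtain ⟨hWnd, hWd⟩ := finrank_perp_eq H.nd hab
  obtain ⟨e, he, f, hf, hef⟩ := exists_hpair_of_three hWnd (by have := H.seven; omega)
  obtain ⟨-, hd2⟩ := ndOn_cut hWnd hef he hf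
  set C := (Finset.univ.filter fun s : F => s ≠ 0).image fun s => s * s * Q (φ : ι → F) with hC
  set O := Finset.univ.filter fun v : ↥(perp Q a b) => Q (v : ι → F) ∈ C with hO
  have h := class_le_card hef he hf (C := C) (O := O) fun v hv =>
    Finset.mem_filter.2 ⟨Finset.mem_univ _, hv⟩
  rw [card_sub, show finrank F ↥(perp Q a b ⊓ perp Q e f) = finrank F (perp Q a b) - 2 by omega] at h
  have h0 : (0 : ↥(perp Q a b)) ∉ O := by
    intro h0
    obtain ⟨s, hs, hs'⟩ := Finset.mem_image.1 (Finset.mem_filter.1 h0).2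
    rw [Submodule.coe_zero, QuadraticMap.map_zero, mul_eq_zero, mul_eq_zero, or_self] at hs'
    exact hQ (hs'.resolve_left (Finset.mem_filter.1 hs).2)
  refine le_trans (Nat.add_le_add_left (Nat.mul_le_mul_left _ h) _) (bound (vact H hab) h0
    fun ψ hψ => ?_)
  obtain ⟨s, hs, hs'⟩ := Finset.mem_image.1 (Finset.mem_filter.1 hψ).2
  exact kk_le_norm H hab (Finset.mem_filter.1 hs).2 (fun h => hQ (by simp [h]))
    (fun hψ0 => h0 (hψ0 ▸ hψ)) hs'.symm

/-- A nonsingular vector lies in few annihilators. -/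
theorem kk_ns_bound [DecidableEq F] (H : Base Q) (hab : HPair Q a b) [Nonempty X]
    (hs : Small Q X) {φ : ↥(perp Q a b)} (hQ : Q (φ : ι → F) ≠ 0) :
    kk (vact H hab) X φ * ((Fintype.card F - 1) ^ 3) <
      (if (2 : F) = 0 then 1 else 2) * (Fintype.card F * (Fintype.card F ^ 2 + 1)) := by
  have h1 := class_bound (X := X) H hab hQ
  have hb := blocks_pos (X := X) H hab
  set C := (Finset.univ.filter fun s : F => s ≠ 0).image fun s => s * s * Q (φ : ι → F) with hC
  have hnz : (Finset.univ.filter fun s : F => s ≠ 0).card = Fintype.card F - 1 := by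
    rw [Finset.filter_ne', Finset.card_erase_of_mem (Finset.mem_univ _), Finset.card_univ]
  have hCc : Fintype.card F - 1 ≤ (if (2 : F) = 0 then 1 else 2) * C.card := by
    rw [← hnz]
    split_ifs with h2
    · rw [one_mul, hC, Finset.card_image_of_injective]
      intro s t hst
      have h0 : (s - t) * (s - t) = 0 := by
        linear_combination (mul_right_cancel₀ hQ hst) + (t * t - s * t) * h2
      exact sub_eq_zero.1 (mul_self_eq_zero.1 h0)
    · refine Finset.card_le_mul_card_image _ 2 fun c hc => ?_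
      obtain ⟨s, -, rfl⟩ := Finset.mem_image.1 hc
      refine (Finset.card_le_card (t := {s, -s}) fun t ht => ?_).trans Finset.card_le_two
      rcases mul_self_eq_mul_self_iff.1 (mul_right_cancel₀ hQ (Finset.mem_filter.1 ht).2) with h | h
        <;> simp [h]
  obtain ⟨hWnd, hWd⟩ := finrank_perp_eq H.nd hab
  have hd : 5 ≤ finrank F (perp Q a b) := by have := H.seven; omega
  have hu := (cnt_zero_le hWnd).2 (by omega)
  rw [Small, cnt_top H hab] at hs
  obtain ⟨d, hd'⟩ : ∃ d, finrank F (perp Q a b) = d + 2 := ⟨_, (Nat.sub_add_cancel (by omega)).symm⟩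
  rw [hd', Nat.add_sub_cancel] at hu h1
  rw [hd'] at hs
  simp only [pow_succ'] at hs
  refine (arith_ns (Fintype.one_lt_card (α := F)) hCc (le_trans (Nat.add_le_add_right hb _) h1) hs
    hu).trans_le (le_of_eq ?_)
  congr!

/-- Few enough to be fixed. -/
theorem kk_ns_small (H : Base Q) (hq : 4 ≤ Fintype.card F) (hab : HPair Q a b) [Nonempty X]
    (hs : Small Q X) {φ : ↥(perp Q a b)} (hQ : Q (φ : ι → F) ≠ 0) {p n : ℕ} (hp : p.Prime)
    (hF : Fintype.card F = p ^ n) :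
    ((2 : F) = 0 → kk (vact H hab) X φ ≤ 2) ∧ ((2 : F) ≠ 0 → kk (vact H hab) X φ < p) := by
  classical
  have h := kk_ns_bound H hab hs hQ
  obtain ⟨r, hr⟩ : ∃ r, Fintype.card F = r + 4 := ⟨_, (Nat.sub_add_cancel hq).symm⟩
  rw [hr, show r + 4 - 1 = r + 3 by omega] at h
  constructor
  · intro h2
    rw [if_pos h2, one_mul] at h
    by_contra! hk
    have := Nat.mul_le_mul_right ((r + 3) ^ 3) hk
    nlinarith [Nat.zero_le (r ^ 3), Nat.zero_le (r ^ 2)]
  · intro h2
    rw [if_neg h2] at h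
    by_contra! hk
    have hk' := (Nat.mul_le_mul_right ((r + 3) ^ 3) hk).trans_lt h
    have hodd : ¬ 2 ∣ Fintype.card F := by
      intro hdvd
      apply h2
      obtain ⟨p', hp'⟩ := CharP.exists F
      obtain ⟨n', hpp, hc⟩ := FiniteField.card F p'
      rw [hc] at hdvd
      have := (Nat.prime_dvd_prime_iff_eq Nat.prime_two hpp).1 (Nat.prime_two.dvd_of_dvd_pow hdvd)
      subst this
      have := CharP.cast_eq_zero F 2
      exact_mod_cast this
    have hp2 : p ≠ 2 := by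
      rintro rfl
      exact hodd (hF ▸ dvd_pow_self 2 (by rintro rfl; simp at hF; omega))
    have hp3 : 3 ≤ p := by have := hp.two_le; omega
    rcases Nat.lt_or_ge r 5 with hr5 | hr5
    · -- `q = 5` or `q = 7`
      have hpq : p = r + 4 := by
        have hn : n ≠ 0 := by rintro rfl; simp at hF; omega
        rcases Nat.lt_or_ge n 2 with hn2 | hn2
        · rw [show n = 1 by omega, pow_one] at hF; omega
        · have := Nat.pow_le_pow_right (by omega : 0 < p) hn2
          nlinarith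
      subst hpq
      rw [hr] at hodd
      interval_cases r <;> simp_all
    · have := Nat.mul_le_mul_right ((r + 3) ^ 3) hp3
      nlinarith

/-- The unipotent stabiliser of a nonsingular `φ` fixes the blocks through `φ`. -/
theorem fix_unip (H : Base Q) (hq : 4 ≤ Fintype.card F) (hab : HPair Q a b) [Nonempty X]
    (hs : Small Q X) {B : Finset X} (hB : B ∈ blocks (vact H hab)) {φ : ι → F}
    (hφ : φ ∈ AV H hab B) (hQ : Q φ ≠ 0) {x w : ι → F} (hx : x ∈ perp Q a b) (hQx : Q x = 0)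
    (hφx : polar ⇑Q φ x = 0) (hw : w ∈ perp Q a b) (hxw : polar ⇑Q x w = 0)
    (hφw : polar ⇑Q φ w = 0) : el H x w • B = B := by
  classical
  obtain ⟨hφW, hφA⟩ := mem_AV.1 hφ
  have hfx : ∀ v ∈ perp Q a b, polar ⇑Q x v = 0 → polar ⇑Q φ v = 0 →
      Fixes (vact H hab) (el H x v) ⟨φ, hφW⟩ := by
    intro v hv hxv hφv
    obtain ⟨hax, hbx⟩ := mem_perp.1 hx
    obtain ⟨hav, hbv⟩ := mem_perp.1 hv
    refine lev_fixes H hab ?_ ?_ ?_ <;>
      simp [el_coe, eich_ap hQx hxv, pl_comm Q x a, pl_comm Q v a, pl_comm Q x b, pl_comm Q v b,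
        pl_comm Q x φ, pl_comm Q v φ, hax, hbx, hav, hbv, hφx, hφv]
  obtain ⟨p, hp⟩ := CharP.exists F
  obtain ⟨n, hpp, hc⟩ := FiniteField.card F p
  obtain ⟨k2, kp⟩ := kk_ns_small H hq hab hs (φ := ⟨φ, hφW⟩) hQ hpp hc
  by_cases h2 : (2 : F) = 0
  swap
  · refine fix_of_lt_prime (vact H hab) hpp (hfx w hw hxw hφw) (N := 1) ?_ (kp h2) hB hφA
    rw [pow_one, el_pow H hQx hxw, ← Nat.cast_smul_eq_nsmul F, CharP.cast_eq_zero, zero_smul, el_zero]
  -- even characteristic: a commutator with a torus element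
  by_cases hx0 : x = 0
  · have : el H x w = 1 := Subtype.ext (by
      rw [el_coe, hx0, ← zero_smul F x, eich_smul_left, zero_smul, eich_zero]; rfl)
    rw [this, one_smul]
  obtain ⟨hWnd, hWd⟩ := finrank_perp_eq H.nd hab
  obtain ⟨y, hy, hy1, hy2⟩ := exists_sep hWnd hx hφW (fun h => hQ (by simp [h]))
    (fun hm => by
      obtain ⟨c, rfl⟩ := Submodule.mem_span_singleton.1 hm
      rw [Q_smul] at hQx
      exact hx0 (by rw [mul_self_eq_zero.1 ((mul_eq_zero.1 hQx).resolve_right hQ), zero_smul]))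
  set y1 := (polar ⇑Q x y)⁻¹ • y with hy1d
  have hxy1 : polar ⇑Q x y1 = 1 := by rw [hy1d, pl_smul_right, inv_mul_cancel₀ hy2]
  set x' := y1 - Q y1 • x with hx'
  have hp' : HPair Q x x' := ⟨hQx, by
      rw [hx', Q_sub, Q_smul Q (Q y1) x, hQx, pl_smul_right, pl_comm Q y1 x, hxy1]; ring, by
      rw [hx', pl_sub_right, hxy1, pl_smul_right, pl_self, hQx]; ring⟩
  have hx'W : x' ∈ perp Q a b :=
    sub_mem (Submodule.smul_mem _ _ hy) (Submodule.smul_mem _ _ hx)
  have hφx' : polar ⇑Q φ x' = 0 := by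
    rw [hx', pl_sub_right, hy1d, pl_smul_right, pl_smul_right, hy1, hφx]; ring
  obtain ⟨t, ht, ht1⟩ : ∃ t : F, t ≠ 0 ∧ t ≠ 1 := by
    by_contra! hall
    have : (Finset.univ : Finset F) ⊆ {0, 1} := fun t _ => by
      rcases eq_or_ne t 0 with h | h
      · simp [h]
      · simp [hall t h]
    have := Finset.card_le_card this
    rw [Finset.card_univ] at this
    exact absurd (this.trans Finset.card_le_two) (by omega)
  obtain ⟨h, hh⟩ : ∃ h : ↥(Omega F ⇑Q), (h : IsoGrp Q) = torus Q x x' t :=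
    ⟨⟨torus Q x x' t, torus_mem (good_of_base H) hp' ht
      (quadraticChar_eq_one_of_char_two
        (CharP.ringChar_of_prime_eq_zero Nat.prime_two (by exact_mod_cast h2)) ht)⟩, rfl⟩
  set c := polar ⇑Q x' w with hcd
  set w0 := w - c • x with hw0
  have hw0m : w0 ∈ perp Q x x' := by
    refine mem_perp.2 ⟨?_, ?_⟩
    · rw [hw0, pl_sub_right, pl_smul_right, hxw, pl_self, hQx]; ring
    · rw [hw0, pl_sub_right, pl_smul_right, hp'.swap.pf, ← hcd]; ring
  set v := (t - 1)⁻¹ • w0 with hv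
  have hvx : v ∈ perp Q x x' := Submodule.smul_mem _ _ hw0m
  have hvW : v ∈ perp Q a b :=
    Submodule.smul_mem _ _ (sub_mem hw (Submodule.smul_mem _ _ hx))
  have hφv : polar ⇑Q φ v = 0 := by
    rw [hv, hw0, pl_smul_right, pl_sub_right, pl_smul_right, hφw, hφx]; ring
  have hhfix : Fixes (vact H hab) h ⟨φ, hφW⟩ := by
    obtain ⟨hax, hbx⟩ := mem_perp.1 hx
    obtain ⟨hax', hbx'⟩ := mem_perp.1 hx'W
    exact lev_fixes H hab (g := h) (φ := ⟨φ, hφW⟩)
      (hh ▸ HPair.torus_ap_perp (mem_perp.2 ⟨by rw [pl_comm, hax], by rw [pl_comm, hax']⟩) t)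
      (hh ▸ HPair.torus_ap_perp (mem_perp.2 ⟨by rw [pl_comm, hbx], by rw [pl_comm, hbx']⟩) t)
      (hh ▸ HPair.torus_ap_perp (mem_perp.2 ⟨by rw [pl_comm, hφx], by rw [pl_comm, hφx']⟩) t)
  have hk2 := k2 h2
  have hev := hfx v hvW (mem_perp.1 hvx).1 hφv
  have hcomm : (h * el H x v * h⁻¹ * (el H x v)⁻¹) • B = B :=
    fix_of_commutator (vact H hab) (g := h) (h := el H x v) (φ := ⟨φ, hφW⟩) hhfix hev hk2 hB hφA
  have he : h * el H x v * h⁻¹ * (el H x v)⁻¹ = el H x w := by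
    refine Subtype.ext ?_
    show (h : IsoGrp Q) * eich Q x v * (h : IsoGrp Q)⁻¹ * (eich Q x v)⁻¹ = eich Q x w
    rw [hh]
    show torus Q x x' t * eich Q x v * (torus Q x x' t)⁻¹ * (eich Q x v)⁻¹ = eich Q x w
    rw [conj_eich, hp'.torus_ap_left ht, HPair.torus_ap_perp hvx, eich_smul_left, eich_inv,
      eich_add hQx (by rw [pl_smul_right, (mem_perp.1 hvx).1, mul_zero])
        (by rw [pl_neg_right, (mem_perp.1 hvx).1, neg_zero]),
      show w = w0 + c • x by rw [hw0, sub_add_cancel], eich_add_smul_self hQx (mem_perp.1 hw0m).1,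
      ← sub_eq_add_neg, hv, smul_smul, ← sub_smul,
      show t * (t - 1)⁻¹ - (t - 1)⁻¹ = (t - 1) * (t - 1)⁻¹ by ring,
      mul_inv_cancel₀ (sub_ne_zero.2 ht1), one_smul]
  rwa [he] at hcomm

/-- The annihilator is everything. -/
def Top (H : Base Q) (hab : HPair Q a b) (B : Finset X) : Prop :=
  ∀ w ∈ perp Q a b, w ∈ AV H hab B

/-- The annihilator lies in a line. -/
def Line (H : Base Q) (hab : HPair Q a b) (B : Finset X) : Prop :=
  AV H hab B ≠ ⊥ ∧ ∃ φ ∈ perp Q a b, φ ≠ 0 ∧ ∀ v ∈ AV H hab B, v ∈ (F ∙ φ)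

/-- The span of the annihilator. -/
noncomputable def spanA (H : Base Q) (hab : HPair Q a b) (B : Finset X) : Submodule F (ι → F) :=
  Submodule.span F (AV H hab B : Set (ι → F))

/-- The annihilator is totally singular of exceptional dimension. -/
def Spec (H : Base Q) (hab : HPair Q a b) (B : Finset X) : Prop :=
  (∀ v ∈ spanA H hab B, Q v = 0) ∧ Exc (finrank F (perp Q a b)) (finrank F (spanA H hab B))

theorem spanA_le (H : Base Q) (hab : HPair Q a b) (B : Finset X) :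
    spanA H hab B ≤ perp Q a b :=
  Submodule.span_le.2 fun _ hv => AV_le hv

/-- A nonsingular vector and another independent one: all of `φ^⊥`. -/
theorem perp_le_AV (H : Base Q) (hq : 4 ≤ Fintype.card F) (hab : HPair Q a b) [Nonempty X]
    (hs : Small Q X) {B : Finset X} (hB : B ∈ blocks (vact H hab)) {φ φ' : ι → F}
    (hφ : φ ∈ AV H hab B) (hQ : Q φ ≠ 0) (hφ' : φ' ∈ AV H hab B) (hne : φ' ∉ (F ∙ φ)) :
    ∀ v ∈ perp Q a b, polar ⇑Q φ v = 0 → v ∈ AV H hab B := by
  obtain ⟨hWnd, hWd⟩ := finrank_perp_eq H.nd hab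
  have hd : 5 ≤ finrank F (perp Q a b) := by have := H.seven; omega
  have hφW := AV_le hφ
  have h0 : φ ≠ 0 := fun h => hQ (by simp [h])
  have hinv : ∀ {x w v : ι → F}, x ∈ perp Q a b → Q x = 0 → polar ⇑Q φ x = 0 → w ∈ perp Q a b →
      polar ⇑Q x w = 0 → polar ⇑Q φ w = 0 → v ∈ AV H hab B →
      polar ⇑Q x v • w - (polar ⇑Q w v + Q w * polar ⇑Q x v) • x ∈ AV H hab B := by
    intro x w v hx hQx hφx hw hxw hφw hv
    obtain ⟨hax, hbx⟩ := mem_perp.1 hx
    obtain ⟨haw, hbw⟩ := mem_perp.1 hw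
    have hl : Lev (el H x w) a b 1 := lev_of_fix
      (by simp [el_coe, eich_ap hQx hxw, pl_comm Q x a, pl_comm Q w a, hax, haw])
      (by simp [el_coe, eich_ap hQx hxw, pl_comm Q x b, pl_comm Q w b, hbx, hbw])
    have h1 := AV_lev H hab hl hv
    rw [fix_unip H hq hab hs hB hφ hQ hx hQx hφx hw hxw hφw, inv_one, one_smul, el_coe,
      eich_ap hQx hxw] at h1
    have h2 := sub_mem h1 hv
    rwa [add_sub_assoc, add_sub_cancel_left] at h2
  have step : ∀ {x v : ι → F}, x ∈ perp Q a b → Q x = 0 → polar ⇑Q φ x = 0 → v ∈ AV H hab B →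
      polar ⇑Q x v ≠ 0 → (∀ c : F, c • x ∈ AV H hab B) ∧
        ∀ w ∈ perp Q a b, polar ⇑Q x w = 0 → polar ⇑Q φ w = 0 → w ∈ AV H hab B := by
    intro x v hx hQx hφx hv hxv
    set S := perp Q a b ⊓ orthFam Q ![x, φ] with hS
    have hSm : ∀ {w : ι → F}, w ∈ S ↔
        w ∈ perp Q a b ∧ polar ⇑Q x w = 0 ∧ polar ⇑Q φ w = 0 := fun {w} => by
      simp [hS, mem_orthFam, Fin.forall_fin_two]
    set Dv : (ι → F) → (ι → F) :=
      fun w => polar ⇑Q x v • w - (polar ⇑Q w v + Q w * polar ⇑Q x v) • x with hDv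
    have hD : ∀ {w : ι → F}, w ∈ S → Dv w ∈ AV H hab B := fun {w} hw =>
      hinv hx hQx hφx (hSm.1 hw).1 (hSm.1 hw).2.1 (hSm.1 hw).2.2 hv
    have hcross : ∀ {w w' : ι → F}, w ∈ S → w' ∈ S →
        (polar ⇑Q w w' * polar ⇑Q x v) • x ∈ AV H hab B := by
      intro w w' hw hw'
      have := sub_mem (sub_mem (hD hw) (hD (add_mem hw hw'))) (neg_mem (hD hw'))
      convert this using 1
      simp only [hDv, Q_add, pl_add_left]
      module
    obtain ⟨w0, hw0, w1, hw1, hw01⟩ : ∃ w0 ∈ S, ∃ w1 ∈ S, polar ⇑Q w0 w1 ≠ 0 := by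
      have hx0 : x ≠ 0 := fun h => hxv (by rw [h, pl_zero_left])
      obtain ⟨y, hy, hy1, hy2⟩ := exists_sep hWnd hx hφW h0 (fun hm => by
        obtain ⟨c, rfl⟩ := Submodule.mem_span_singleton.1 hm
        rw [Q_smul] at hQx
        exact hx0 (by rw [mul_self_eq_zero.1 ((mul_eq_zero.1 hQx).resolve_right hQ), zero_smul]))
      set y1 := (polar ⇑Q x y)⁻¹ • y with hy1d
      have hxy1 : polar ⇑Q x y1 = 1 := by rw [hy1d, pl_smul_right, inv_mul_cancel₀ hy2]
      set x' := y1 - Q y1 • x with hx'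
      have hp' : HPair Q x x' := ⟨hQx, by
          rw [hx', Q_sub, Q_smul Q (Q y1) x, hQx, pl_smul_right, pl_comm Q y1 x, hxy1]; ring, by
          rw [hx', pl_sub_right, hxy1, pl_smul_right, pl_self, hQx]; ring⟩
      have hx'W : x' ∈ perp Q a b :=
        sub_mem (Submodule.smul_mem _ _ hy) (Submodule.smul_mem _ _ hx)
      have hφx' : polar ⇑Q φ x' = 0 := by
        rw [hx', pl_sub_right, hy1d, pl_smul_right, pl_smul_right, hy1, hφx]; ring
      obtain ⟨k1, k2⟩ := ndOn_cut hWnd hp' hx hx'W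
      set W3 := perp Q a b ⊓ perp Q x x' with hW3
      have hφ3 : φ ∈ W3 := ⟨hφW, mem_perp.2 ⟨by rw [pl_comm, hφx], by rw [pl_comm, hφx']⟩⟩
      have h2' : 2 ≤ finrank F ↥(W3 ⊓ LinearMap.ker (Q.polarBilin φ)) := by
        have e1 := Submodule.finrank_sup_add_finrank_inf_eq W3 (LinearMap.ker (Q.polarBilin φ))
        have e2 := Submodule.finrank_le (W3 ⊔ LinearMap.ker (Q.polarBilin φ))
        have e3 := LinearMap.finrank_range_add_finrank_ker (Q.polarBilin φ)
        have e4 := Submodule.finrank_le (LinearMap.range (Q.polarBilin φ))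
        rw [finrank_space] at e2 e3
        rw [Module.finrank_self] at e4
        omega
      obtain ⟨w0, hw0, hw0φ⟩ := SetLike.not_le_iff_exists.1
        (fun hle : W3 ⊓ LinearMap.ker (Q.polarBilin φ) ≤ (F ∙ φ) => by
          have := Submodule.finrank_mono hle
          rw [finrank_span_singleton h0] at this; omega)
      obtain ⟨w1, hw1, hw11, hw12⟩ := exists_sep k1 hw0.1 hφ3 h0 hw0φ
      exact ⟨w0, hSm.2 ⟨hw0.1.1, (mem_perp.1 hw0.1.2).1, hw0.2⟩,
        w1, hSm.2 ⟨hw1.1, (mem_perp.1 hw1.2).1, hw11⟩, hw12⟩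
    have hcx : ∀ c : F, c • x ∈ AV H hab B := fun c => by
      have := hcross hw0 (S.smul_mem (c / (polar ⇑Q w0 w1 * polar ⇑Q x v)) hw1)
      rwa [pl_smul_right, mul_assoc, div_mul_cancel₀ _ (mul_ne_zero hw01 hxv)] at this
    refine ⟨hcx, fun w hw hxw hφw => ?_⟩
    have hw' : (polar ⇑Q x v)⁻¹ • w ∈ S := S.smul_mem _ (hSm.2 ⟨hw, hxw, hφw⟩)
    have := add_mem (hD hw') (hcx (polar ⇑Q ((polar ⇑Q x v)⁻¹ • w) v +
      Q ((polar ⇑Q x v)⁻¹ • w) * polar ⇑Q x v))
    simp only [hDv] at this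
    rwa [sub_add_cancel, smul_inv_smul₀ hxv] at this
  obtain ⟨x, hx, hQx, hφx, hφ'x⟩ := exists_singular_sep hWnd hd hφW h0 (AV_le hφ') hne
  obtain ⟨hcx, -⟩ := step hx hQx hφx hφ' (by rwa [pl_comm])
  have hx0 : x ≠ 0 := fun h => hφ'x (by rw [h, pl_zero_right])
  obtain ⟨y, hy, hy1, hy2⟩ := exists_sep hWnd hx hφW h0 (fun hm => by
    obtain ⟨c, rfl⟩ := Submodule.mem_span_singleton.1 hm
    rw [Q_smul] at hQx
    exact hx0 (by rw [mul_self_eq_zero.1 ((mul_eq_zero.1 hQx).resolve_right hQ), zero_smul]))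
  set y1 := (polar ⇑Q x y)⁻¹ • y with hy1d
  have hxy1 : polar ⇑Q x y1 = 1 := by rw [hy1d, pl_smul_right, inv_mul_cancel₀ hy2]
  set x' := y1 - Q y1 • x with hx'
  have hx'W : x' ∈ perp Q a b :=
    sub_mem (Submodule.smul_mem _ _ hy) (Submodule.smul_mem _ _ hx)
  have hφx' : polar ⇑Q φ x' = 0 := by
    rw [hx', pl_sub_right, hy1d, pl_smul_right, pl_smul_right, hy1, hφx]; ring
  have hQx' : Q x' = 0 := by
    rw [hx', Q_sub, Q_smul Q (Q y1) x, hQx, pl_smul_right, pl_comm Q y1 x, hxy1]; ring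
  have hx'x : polar ⇑Q x' x = 1 := by
    rw [hx', pl_sub_left, pl_comm Q y1 x, hxy1, pl_smul_left, pl_self, hQx]; ring
  have hxA : x ∈ AV H hab B := by simpa using hcx 1
  obtain ⟨-, hS⟩ := step hx'W hQx' hφx' hxA (by rw [hx'x]; exact one_ne_zero)
  intro v hv hφv
  have := add_mem (hS (v - polar ⇑Q x' v • x) (sub_mem hv (Submodule.smul_mem _ _ hx))
    (by rw [pl_sub_right, pl_smul_right, hx'x]; ring)
    (by rw [pl_sub_right, pl_smul_right, hφv, hφx]; ring)) (hcx (polar ⇑Q x' v))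
  rwa [sub_add_cancel] at this

/-- A block with a nonsingular vector in the annihilator. -/
theorem classify_ns (H : Base Q) (hq : 4 ≤ Fintype.card F) (hab : HPair Q a b) [Nonempty X]
    (hs : Small Q X) {B : Finset X} (hB : B ∈ blocks (vact H hab)) {φ : ι → F}
    (hφ : φ ∈ AV H hab B) (hQ : Q φ ≠ 0) : Top H hab B ∨ Line H hab B := by
  classical
  have hφW := AV_le hφ
  have h0 : φ ≠ 0 := fun h => hQ (by simp [h])
  by_cases hl : ∀ v ∈ AV H hab B, v ∈ (F ∙ φ)
  · exact .inr ⟨fun h => h0 (by rwa [h, AddSubgroup.mem_bot] at hφ), φ, hφW, h0, hl⟩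
  push Not at hl
  obtain ⟨φ', hφ', hne⟩ := hl
  have hsub := perp_le_AV H hq hab hs hB hφ hQ hφ' hne
  obtain ⟨x, hx⟩ := (mem_blocks _).1 hB
  have hxB : x ∈ B := hx ▸ self_mem_orb _ x
  obtain ⟨hWnd, hWd⟩ := finrank_perp_eq H.nd hab
  have hd : 5 ≤ finrank F (perp Q a b) := by have := H.seven; omega
  set U := perp Q a b ⊓ LinearMap.ker (Q.polarBilin φ) with hU
  have hUm : ∀ u ∈ U, u ∈ AV H hab B := fun u hu => hsub u hu.1 hu.2
  have hR : ∀ w : ↥(perp Q a b), w ∈ stabW (vact H hab) x → (w : ι → F) ∈ (F ∙ φ) := by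
    intro w hw
    by_contra hn
    obtain ⟨y, hy, hy1, hy2⟩ := exists_sep hWnd w.2 hφW h0 hn
    have := orth_of_sub H hab hB hxB hUm w.2 hw (u := y) ⟨hy, hy1⟩
    exact hy2 (by rw [pl_comm]; exact this)
  by_cases hR0 : stabW (vact H hab) x = ⊥
  · refine .inl fun w hw => mem_AV.2 ⟨hw, ?_⟩
    rw [← hx, Ab_orb, hR0, ann_bot]
    exact AddSubgroup.mem_top _
  exfalso
  obtain ⟨r, hr, hr0⟩ : ∃ r, r ∈ stabW (vact H hab) x ∧ r ≠ 0 := by
    by_contra! h
    exact hR0 ((AddSubgroup.eq_bot_iff_forall _).2 h)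
  obtain ⟨c, hc⟩ := Submodule.mem_span_singleton.1 (hR r hr)
  have hc0 : c ≠ 0 := by
    rintro rfl
    exact hr0 (Subtype.ext (by simpa using hc.symm))
  set O := Finset.univ.filter fun v : ↥(perp Q a b) => Q (v : ι → F) = Q φ with hO
  have hex : ∀ v : ↥(perp Q a b), ∃ g : ↥(Omega F ⇑Q), ap (g : IsoGrp Q) a = a ∧
      ap (g : IsoGrp Q) b = b ∧ (Q (v : ι → F) = Q φ → ap (g : IsoGrp Q) φ = v) := by
    intro v
    by_cases hv : Q (v : ι → F) = Q φ
    · obtain ⟨g, hg, ga, gb, gφ⟩ := exists_fix_omega (good_of_base H) H.seven hab hφW v.2 h0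
        (fun h => hQ (by rw [← hv, h]; simp)) hv.symm
      exact ⟨⟨g, hg⟩, ga, gb, fun _ => gφ⟩
    · exact ⟨1, ap_one a, ap_one b, fun h => absurd h hv⟩
  choose g ga gb gφ using hex
  have hfib : ∀ v ∈ O, ∀ v' ∈ O, g v • B = g v' • B →
      (v : ι → F) = v' ∨ (v : ι → F) = -(v' : ι → F) := by
    intro v hv v' hv' heq
    have hl := lev_norm H hab (lev_of_fix (ga v) (gb v))
    have hl' := lev_norm H hab (lev_of_fix (ga v') (gb v'))
    rw [← hx, smul_orb _ hl, smul_orb _ hl'] at heq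
    have hst : stabW (vact H hab) (g v • x) = stabW (vact H hab) (g v' • x) :=
      stabW_eq _ (heq ▸ self_mem_orb _ (g v • x))
    have h1 : (⟨(1 : F) • ap (g v : IsoGrp Q) r.1, Submodule.smul_mem _ _
        ((lev_of_fix (ga v) (gb v)).mem r.2)⟩ : ↥(perp Q a b)) ∈
        stabW (vact H hab) (g v' • x) := by
      rw [← hst, mem_stabW, ← hl.conj, ← mul_smul, mul_assoc, inv_mul_cancel, mul_one, mul_smul,
        (mem_stabW _).1 hr]
    obtain ⟨u, hu⟩ := hl'.surj ⟨_, Submodule.smul_mem _ (1 : F)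
      ((lev_of_fix (ga v) (gb v)).mem r.2)⟩
    rw [← hu, mem_stabW, ← hl'.conj, ← mul_smul, mul_assoc, inv_mul_cancel, mul_one, mul_smul,
      smul_left_cancel_iff] at h1
    obtain ⟨c', hc'⟩ := Submodule.mem_span_singleton.1 (hR u h1)
    have hu' := congrArg Subtype.val hu
    simp only [one_smul, ← hc', ← hc, map_smul, gφ v (Finset.mem_filter.1 hv).2,
      gφ v' (Finset.mem_filter.1 hv').2] at hu'
    have hQ' := congrArg (fun z => Q z) hu'
    simp only [Q_smul, (Finset.mem_filter.1 hv).2, (Finset.mem_filter.1 hv').2] at hQ'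
    rcases mul_self_eq_mul_self_iff.1 (mul_right_cancel₀ hQ hQ') with h | h
    · left
      rw [h] at hu'
      exact (smul_right_injective _ hc0 hu').symm
    · right
      rw [h, neg_smul, ← smul_neg] at hu'
      exact (smul_right_injective _ hc0 hu').symm
  -- count
  obtain ⟨e, he, f, hf, hef⟩ := exists_hpair_of_three hWnd (by omega)
  obtain ⟨-, hd2⟩ := ndOn_cut hWnd hef he hf
  have hOc := class_le_card hef he hf (C := {Q φ}) (O := O) fun v hv =>
    Finset.mem_filter.2 ⟨Finset.mem_univ _, Finset.mem_singleton.1 hv⟩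
  rw [Finset.card_singleton, one_mul, card_sub,
    show finrank F ↥(perp Q a b ⊓ perp Q e f) = finrank F (perp Q a b) - 2 by omega] at hOc
  have hI : O.card ≤ 2 * (O.image fun v => g v • B).card := by
    refine Finset.card_le_mul_card_image _ 2 fun B' hB' => ?_
    obtain ⟨v, hv, rfl⟩ := Finset.mem_image.1 hB'
    refine (Finset.card_le_card (t := {v, -v}) fun w hw => ?_).trans Finset.card_le_two
    obtain ⟨hw1, hw2⟩ := Finset.mem_filter.1 hw
    rcases hfib w hw1 v hv hw2 with h | h <;> simp [Subtype.ext_iff, h]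
  have hsz : ∀ B' ∈ O.image (fun v => g v • B),
      Fintype.card F ^ (finrank F (perp Q a b) - 1) ≤ B'.card := by
    intro B' hB'
    obtain ⟨v, -, rfl⟩ := Finset.mem_image.1 hB'
    rw [Finset.card_smul_finset, ← card_Ab _ hB]
    have hUd : finrank F (perp Q a b) - 1 ≤ finrank F U := by
      have e1 := Submodule.finrank_sup_add_finrank_inf_eq (perp Q a b)
        (LinearMap.ker (Q.polarBilin φ))
      have e2 := Submodule.finrank_le (perp Q a b ⊔ LinearMap.ker (Q.polarBilin φ))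
      have e3 := LinearMap.finrank_range_add_finrank_ker (Q.polarBilin φ)
      have e4 := Submodule.finrank_le (LinearMap.range (Q.polarBilin φ))
      rw [finrank_space] at e2 e3
      rw [Module.finrank_self] at e4
      rw [← hU] at e1
      omega
    refine le_trans (Nat.pow_le_pow_right Fintype.card_pos hUd) ?_
    rw [← card_sub]
    exact Nat.card_le_card_of_injective
      (fun u => ⟨⟨u.1, u.2.1⟩, (mem_AV.1 (hUm u.1 u.2)).2⟩)
      fun u u' h => Subtype.ext (congrArg (fun z => (z.1 : ι → F)) h)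
  have hn : (O.image fun v => g v • B).card *
      Fintype.card F ^ (finrank F (perp Q a b) - 1) ≤ Fintype.card X := by
    rw [card_eq_sum (X := X) (vact H hab), ← smul_eq_mul]
    refine le_trans (Finset.card_nsmul_le_sum _ _ _ hsz)
      (Finset.sum_le_sum_of_subset fun B' hB' => ?_)
    obtain ⟨v, -, rfl⟩ := Finset.mem_image.1 hB'
    exact smul_mem_blocks _ (lev_norm H hab (lev_of_fix (ga v) (gb v))) hB
  have hu := (cnt_zero_le hWnd).2 (by omega)
  rw [Small, cnt_top H hab] at hs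
  obtain ⟨d, hd'⟩ : ∃ d, finrank F (perp Q a b) = d + 5 := ⟨_, (Nat.sub_add_cancel hd).symm⟩
  simp only [hd', show d + 5 - 2 = d + 3 by omega, show d + 5 - 1 = d + 4 by omega, pow_succ'] at hu hs hn hOc
  exact arith_lines hq (Nat.one_le_pow d (Fintype.card F) (by omega)) hOc hI hn hs hu

/-- The four kinds of blocks. -/
theorem classify (H : Base Q) (hq : 4 ≤ Fintype.card F) (hab : HPair Q a b) [Nonempty X]
    (hs : Small Q X) {B : Finset X} (hB : B ∈ blocks (vact H hab)) :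
    AV H hab B = ⊥ ∨ Top H hab B ∨ Line H hab B ∨ Spec H hab B := by
  classical
  by_cases hbot : AV H hab B = ⊥
  · exact .inl hbot
  refine .inr ?_
  by_cases hns : ∃ φ ∈ AV H hab B, Q φ ≠ 0
  · obtain ⟨φ, hφ, hQ⟩ := hns
    rcases classify_ns H hq hab hs hB hφ hQ with h | h
    · exact .inl h
    · exact .inr (.inl h)
  push Not at hns
  have hts : ∀ v ∈ spanA H hab B, Q v = 0 := by
    have hpol : ∀ x ∈ AV H hab B, ∀ y ∈ AV H hab B, polar ⇑Q x y = 0 := fun x hx y hy => by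
      simp [polar, hns x hx, hns y hy, hns _ (add_mem hx hy)]
    intro v hv
    suffices Q v = 0 ∧ ∀ y ∈ AV H hab B, polar ⇑Q v y = 0 from this.1
    induction hv using Submodule.span_induction with
    | mem x hx => exact ⟨hns x hx, hpol x hx⟩
    | zero => exact ⟨by simp, fun y _ => pl_zero_left Q y⟩
    | add x y hx hy ihx ihy =>
      refine ⟨?_, fun z hz => by rw [pl_add_left, ihx.2 z hz, ihy.2 z hz, add_zero]⟩
      have : ∀ w ∈ Submodule.span F (AV H hab B : Set (ι → F)), polar ⇑Q x w = 0 := by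
        intro w hw
        induction hw using Submodule.span_induction with
        | mem w hw => exact ihx.2 w hw
        | zero => exact pl_zero_right Q x
        | add u v _ _ h1 h2 => rw [pl_add_right, h1, h2, add_zero]
        | smul c u _ h1 => rw [pl_smul_right, h1, mul_zero]
      rw [Q_add, ihx.1, ihy.1, this y hy]; ring
    | smul c x _ ih =>
      exact ⟨by rw [Q_smul, ih.1, mul_zero],
        fun y hy => by rw [pl_smul_left, ih.2 y hy, mul_zero]⟩
  obtain ⟨φ, hφ, hφ0⟩ : ∃ φ ∈ AV H hab B, φ ≠ 0 := by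
    by_contra! h
    exact hbot ((AddSubgroup.eq_bot_iff_forall _).2 h)
  by_cases hl : ∀ v ∈ AV H hab B, v ∈ (F ∙ φ)
  · exact .inr (.inl ⟨hbot, φ, AV_le hφ, hφ0, hl⟩)
  push Not at hl
  obtain ⟨φ', hφ', hne⟩ := hl
  refine .inr (.inr ⟨hts, ?_⟩)
  have hφT : φ ∈ spanA H hab B := Submodule.subset_span hφ
  have hj : 2 ≤ finrank F (spanA H hab B) := by
    by_contra! hj
    have hle : (F ∙ φ) = spanA H hab B := Submodule.eq_of_le_of_finrank_le
      (by rw [Submodule.span_singleton_le_iff_mem]; exact hφT)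
      (by rw [finrank_span_singleton hφ0]; omega)
    exact hne (hle ▸ Submodule.subset_span hφ')
  by_contra hne'
  obtain ⟨s, hsm, -, hs2⟩ := stab_images H (by omega) hab (spanA_le H hab B) hts hj hφT hφ0
  have hs2 := hs2 hne'
  have hk := kk_sing_le H hq hab hs (φ := ⟨φ, AV_le hφ⟩) (fun h => hφ0 (congrArg Subtype.val h))
    (hns φ hφ)
  have himg : s ⊆ ((blocks (X := X) (vact H hab)).filter fun B' =>
      (⟨φ, AV_le hφ⟩ : ↥(perp Q a b)) ∈ Ab (vact H hab) B').image fun B' => spanA H hab B' := by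
    intro T hT
    obtain ⟨g, hg, ga, gb, gφ, rfl⟩ := hsm T hT
    have hl := lev_of_fix (g := ⟨g, hg⟩) ga gb
    refine Finset.mem_image.2 ⟨(⟨g, hg⟩ : ↥(Omega F ⇑Q)) • B, Finset.mem_filter.2
      ⟨smul_mem_blocks _ (lev_norm H hab hl) hB, ?_⟩, ?_⟩
    · have := AV_lev H hab hl hφ
      rw [inv_one, one_smul, show ap ((⟨g, hg⟩ : ↥(Omega F ⇑Q)) : IsoGrp Q) φ = φ from gφ] at this
      exact (mem_AV.1 this).2
    · refine le_antisymm ?_ ?_
      · refine Submodule.span_le.2 fun v hv => ?_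
        have hl' : Lev (⟨g, hg⟩ : ↥(Omega F ⇑Q))⁻¹ a b 1 := lev_of_fix
          (by show ap g⁻¹ a = a; conv_lhs => rw [← ga, ap_inv_ap])
          (by show ap g⁻¹ b = b; conv_lhs => rw [← gb, ap_inv_ap])
        have h1 := AV_lev H hab hl' hv
        rw [inv_smul_smul, inv_one, one_smul] at h1
        exact ⟨_, Submodule.subset_span h1, ap_ap_inv g v⟩
      · rw [spanA, Submodule.map_span, Submodule.span_le]
        rintro _ ⟨v, hv, rfl⟩
        have h1 := AV_lev H hab hl hv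
        rw [inv_one, one_smul] at h1
        exact Submodule.subset_span h1
  have := (Finset.card_le_card himg).trans Finset.card_image_le
  rw [kk] at hk
  omega

end Cfsg.Agent.MinIndex
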