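import Cfsg.Agent.Lib.MinIndex.OrthSpecial

/-!
# A regular orbit of a root group

* `card_spt` : `(q - 1) #SPt + 1 = #zeros`
* `top_false` : a block with everything as annihilator forces `#X ≥ #SPt`
-/

set_option autoImplicit false
set_option linter.unusedSectionVars false

namespace Cfsg.Agent.MinIndex

open Cfsg Matrix Module Cfsg.Agent.Orth
open Cfsg.Agent.AutPOmega (NdOn ndOn_cut exists_hpair_in exists_hpair_of_three finrank_perp_eq
  eich_right_inj Base)
open QuadraticMap (polar)
open scoped Pointwise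

variable {ι : Type} [Fintype ι] [DecidableEq ι] {F : Type*} [Field F] [Fintype F]
variable {Q : QuadraticForm F (ι → F)} {a b : ι → F}
variable {X : Type*} [MulAction ↥(Omega F ⇑Q) X] [Fintype X] [DecidableEq X]

attribute [local instance] fintypeSub

theorem card_spt (Q : QuadraticForm F (ι → F)) :
    (Fintype.card F - 1) * Nat.card (SPt Q) + 1 = cnt Q ⊤ 0 := by
  classical
  haveI : Finite (SPt Q) := Subtype.finite
  let m : Fˣ × SPt Q → {v : ι → F // Q v = 0 ∧ v ≠ 0} := fun p =>
    ⟨(p.1 : F) • p.2.1.rep, by rw [Q_smul, p.2.2, mul_zero],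
      smul_ne_zero p.1.ne_zero p.2.1.rep_nonzero⟩
  have hm : Function.Bijective m := by
    refine ⟨?_, ?_⟩
    · rintro ⟨u, p⟩ ⟨u', p'⟩ h
      have h' : (u : F) • p.1.rep = (u' : F) • p'.1.rep := congrArg Subtype.val h
      have hp : p = p' := by
        refine Subtype.ext ?_
        rw [← p.1.mk_rep, ← p'.1.mk_rep]
        refine (Projectivization.mk_eq_mk_iff' F _ _ _ _).2 ⟨(u : F)⁻¹ * u', ?_⟩
        rw [mul_smul, ← h', inv_smul_smul₀ u.ne_zero]
      subst hp
      rw [Units.ext (smul_left_injective F p.1.rep_nonzero h')]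
    · rintro ⟨v, hQ, h0⟩
      obtain ⟨u, hu⟩ := Projectivization.exists_smul_eq_mk_rep F v h0
      refine ⟨(u⁻¹, spt v h0 hQ), Subtype.ext ?_⟩
      show ((u⁻¹ : Fˣ) : F) • (Projectivization.mk F v h0).rep = v
      rw [← hu, Units.smul_def, smul_smul, Units.inv_mul, one_smul]
  have h1 := Nat.card_congr (Equiv.ofBijective m hm)
  rw [Nat.card_prod, Nat.card_units, Nat.card_eq_fintype_card (α := F)] at h1
  rw [h1, cnt, Nat.card_eq_fintype_card, Nat.card_eq_fintype_card, Fintype.card_subtype,
    Fintype.card_subtype, ← Finset.card_insert_of_notMem (a := (0 : ι → F)) (by simp)]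
  congr 1
  ext v
  by_cases hv : v = 0 <;> simp [hv]

/-- Only the identity of `U_v` fixes `x`. -/
def Free (H : Base Q) (v : ι → F) (x : X) : Prop :=
  ∀ w, polar ⇑Q v w = 0 → el H v w • x = x → el H v w = 1

theorem free_smul (H : Base Q) {v : ι → F} {x : X} {k : F} (hk : k ≠ 0) (h : Free H v x) :
    Free H (k • v) x := by
  intro w hw hx
  rw [el_smul_left] at hx ⊢
  rw [pl_smul_left, mul_eq_zero] at hw
  exact h _ (by rw [pl_smul_right, hw.resolve_left hk, mul_zero]) hx

theorem free_move (H : Base Q) (g : ↥(Omega F ⇑Q)) {v : ι → F} {x : X} (h : Free H v x) :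
    Free H (ap (g : IsoGrp Q) v) (g • x) := by
  intro w hw hx
  rw [← ap_inv' g w, el_smul_iff] at hx
  rw [← ap_inv' g w, ← conj_el, h _ ?_ hx, mul_one, mul_inv_cancel]
  rwa [← ap_inv' g w, polar_ap] at hw

theorem free_iff_top (H : Base Q) (hab : HPair Q a b) (x : X) :
    Free H a x ↔ Top H hab (orb (vact H hab) x) := by
  have hB : orb (vact H hab) x ∈ blocks (X := X) (vact H hab) := (mem_blocks _).2 ⟨x, rfl⟩
  constructor
  · intro h w hw
    refine mem_AV.2 ⟨hw, ?_⟩
    rw [Ab_orb]
    intro r hr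
    have h1 := h r.1 (mem_perp.1 r.2).1 hr
    obtain ⟨c, hc⟩ := eich_right_inj H.nd hab.qe hab.ne_zero (mem_perp.1 r.2).1
      (pl_zero_right Q a) (by rw [eich_zero]; exact congrArg Subtype.val h1)
    have hc0 : c = 0 := by
      have := congrArg (polar ⇑Q b) hc
      rw [pl_zero_right, pl_add_right, (mem_perp.1 r.2).2, pl_smul_right, hab.swap.pf] at this
      simpa using this.symm
    rw [hc0, zero_smul, add_zero] at hc
    rw [show r = 0 from Subtype.ext hc.symm, map_zero, AddChar.map_zero_eq_one]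
  · intro hT w hw hx
    have hd := decomp (Q := Q) a b w
    rw [hw, zero_smul, add_zero, add_comm] at hd
    have he : el H a w = el H a (wPart Q a b w) := Subtype.ext (by
      rw [el_coe, el_coe]
      conv_lhs => rw [hd]
      exact eich_add_smul_self hab.qe (mem_perp.1 (hab.wPart_mem w)).1 _)
    rw [he] at hx ⊢
    suffices h0 : wPart Q a b w = 0 by rw [h0, el_zero]
    by_contra hne
    obtain ⟨y, hy, hwy⟩ := hab.perp_nondeg H.nd (hab.wPart_mem w) hne
    exact hwy (by
      rw [pl_comm]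
      exact orth_of_sub H hab hB (self_mem_orb _ x) (U := perp Q a b) hT (hab.wPart_mem w) hx hy)

open scoped Classical in
theorem top_card (H : Base Q) (hab : HPair Q a b) {B : Finset X} (hB : B ∈ blocks (vact H hab))
    (hT : Top H hab B) : B.card = Fintype.card F ^ finrank F (perp Q a b) := by
  rw [← card_Ab _ hB, ← card_sub]
  refine Nat.card_congr (Equiv.subtypeUnivEquiv fun w => ?_)
  exact (mem_AV.1 (hT w w.2)).2

theorem top_unique (H : Base Q) (hq : 4 ≤ Fintype.card F) (hab : HPair Q a b) (hs : Small Q X)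
    {B B' : Finset X} (hB : B ∈ blocks (vact H hab)) (hT : Top H hab B)
    (hB' : B' ∈ blocks (vact H hab)) (hT' : Top H hab B') : B' = B := by
  classical
  by_contra hne
  have h1 : 2 * Fintype.card F ^ finrank F (perp Q a b) ≤ Fintype.card X := by
    rw [card_eq_sum (X := X) (vact H hab), two_mul]
    conv_lhs => arg 1; rw [← top_card H hab hB' hT']
    rw [← top_card H hab hB hT, ← Finset.sum_pair (f := Finset.card) hne]
    exact Finset.sum_le_sum_of_subset (by simp [Finset.insert_subset_iff, hB, hB'])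
  obtain ⟨hWnd, hWd⟩ := finrank_perp_eq H.nd hab
  have hd : 5 ≤ finrank F (perp Q a b) := by have := H.seven; omega
  have hu := (cnt_zero_le hWnd).2 (by omega)
  rw [Small, cnt_top H hab] at hs
  obtain ⟨d, hd'⟩ : ∃ d, finrank F (perp Q a b) = d + 2 := ⟨_, (Nat.sub_add_cancel (by omega)).symm⟩
  rw [hd'] at h1 hs hu
  rw [Nat.add_sub_cancel] at hu
  obtain ⟨r, hr⟩ : ∃ r, Fintype.card F = r + 4 := ⟨_, (Nat.sub_add_cancel hq).symm⟩
  rw [hr] at h1 hs hu
  rw [show r + 4 - 1 = r + 3 by omega] at hs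
  simp only [pow_succ'] at h1 hs
  have h2 := Nat.mul_le_mul_left (r + 3) h1
  have h3 := Nat.mul_le_mul_left (r + 4) hu
  nlinarith [Nat.zero_le ((r + 4) ^ d)]

/-- The set of vectors seen by two blocks is covered by lines. -/
theorem line_cover (H : Base Q) (hab : HPair Q a b) {B : Finset X} (hB : B ∈ blocks (vact H hab))
    (hT : Top H hab B) {O : Finset ↥(perp Q a b)} (h0 : (0 : ↥(perp Q a b)) ∉ O)
    (hk : ∀ v ∈ O, 2 ≤ kk (vact H hab) X v)
    (hline : ∀ B' ∈ blocks (X := X) (vact H hab), B' ≠ B → Line H hab B') :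
    (Fintype.card F - 1) * Fintype.card F ^ finrank F (perp Q a b) + Fintype.card F * O.card ≤
      (Fintype.card F - 1) * Fintype.card X := by
  classical
  set LB := (blocks (X := X) (vact H hab)).erase B with hLB
  have h1 : O.card ≤ ∑ B' ∈ LB, (O.filter fun v => v ∈ Ab (vact H hab) B').card := by
    rw [Finset.sum_congr rfl fun B' _ => Finset.card_filter (fun v => v ∈ Ab (vact H hab) B') O,
      Finset.sum_comm, Finset.card_eq_sum_ones]
    refine Finset.sum_le_sum fun v hv => ?_
    rw [← Finset.card_filter, hLB, Finset.filter_erase]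
    refine le_trans ?_ Finset.pred_card_le_card_erase
    have := hk v hv
    rw [kk] at this
    omega
  have h2 : ∀ B' ∈ LB, (O.filter fun v => v ∈ Ab (vact H hab) B').card + 1 ≤ B'.card ∧
      B'.card ≤ Fintype.card F := by
    intro B' hB'
    obtain ⟨hne, hB'b⟩ := Finset.mem_erase.1 hB'
    refine ⟨?_, ?_⟩
    · rw [← card_Ab _ hB'b, Nat.card_eq_fintype_card, Fintype.card_subtype,
        ← Finset.card_insert_of_notMem (a := (0 : ↥(perp Q a b))) (by simp [h0])]
      refine Finset.card_le_card (Finset.insert_subset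
        (by simp [(Ab (vact H hab) B').zero_mem]) fun φ hφ => ?_)
      simp [(Finset.mem_filter.1 hφ).2]
    · obtain ⟨-, φ, -, hφ0, hφ⟩ := hline B' hB'b hne
      have hm : ∀ v : Ab (vact H hab) B', ((v : ↥(perp Q a b)) : ι → F) ∈ (F ∙ φ) := fun v =>
        hφ _ (mem_AV.2 ⟨v.1.2, v.2⟩)
      rw [← card_Ab _ hB'b]
      refine le_trans (Nat.card_le_card_of_injective
        (fun v => (⟨_, hm v⟩ : ↥(F ∙ φ))) fun v w h => ?_) ?_
      · exact Subtype.ext (Subtype.ext (congrArg (fun z : ↥(F ∙ φ) => (z : ι → F)) h))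
      · rw [card_sub]
        rw [finrank_span_singleton hφ0, pow_one]
  have h3 : ∑ B' ∈ LB, (O.filter fun v => v ∈ Ab (vact H hab) B').card + LB.card ≤
      ∑ B' ∈ LB, B'.card := by
    rw [Finset.card_eq_sum_ones, ← Finset.sum_add_distrib]
    exact Finset.sum_le_sum fun B' hB' => (h2 B' hB').1
  have h4 : ∑ B' ∈ LB, B'.card ≤ LB.card * Fintype.card F := by
    rw [← smul_eq_mul, ← Finset.sum_const]
    exact Finset.sum_le_sum fun B' hB' => (h2 B' hB').2
  rw [card_eq_sum (X := X) (vact H hab), ← Finset.add_sum_erase _ _ hB, top_card H hab hB hT, ← hLB]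
  obtain ⟨r, hr⟩ : ∃ r, Fintype.card F = r + 1 :=
    ⟨_, (Nat.sub_add_cancel (Fintype.card_pos (α := F))).symm⟩
  rw [hr] at h4 ⊢
  rw [Nat.add_sub_cancel]
  nlinarith

set_option maxHeartbeats 1000000 in
/-- No block is regular. -/
theorem top_false (H : Base Q) (hq : 4 ≤ Fintype.card F) (hab : HPair Q a b) [Nonempty X]
    [MulAction.IsPretransitive ↥(Omega F ⇑Q) X] (hs : Small Q X)
    (hnf : ∀ {c e : ι → F} (hce : HPair Q c e), ∀ B ∈ blocks (X := X) (vact H hce), AV H hce B ≠ ⊥)
    {B : Finset X} (hB : B ∈ blocks (vact H hab)) : ¬ Top H hab B := by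
  classical
  intro hT
  have h7 := H.seven
  have hG := good_of_base H
  obtain ⟨hWnd, hWd⟩ := finrank_perp_eq H.nd hab
  obtain ⟨μ, hμ, hμ1, hμs⟩ := exists_scalar (F := F) hq
  obtain ⟨z, hz, hzW⟩ := exists_lev_sq H hab hμ hμs
  have hzB : z • B = B := by
    refine top_unique H hq hab hs hB hT (smul_mem_blocks _ (lev_norm H hab hz) hB) fun w hw => ?_
    have := AV_lev H hab hz (hT _ (Submodule.smul_mem (perp Q a b) μ hw))
    rwa [map_smul, hzW w hw, inv_smul_smul₀ hμ] at this
  obtain ⟨x, hxB, hx⟩ := fix_point H hab hB hμ1 hz hzW hzB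
  obtain ⟨t, ht, t', ht', htp⟩ := exists_hpair_of_three hWnd (by omega)
  obtain ⟨hUnd, hUd⟩ := ndOn_cut hWnd htp ht ht'
  obtain ⟨hat, hbt⟩ := mem_perp.1 ht
  obtain ⟨hat', hbt'⟩ := mem_perp.1 ht'
  have hQt : Q t = 0 := htp.qe
  have hfixU : ∀ u ∈ perp Q a b ⊓ perp Q t t', el H t u • x = x := by
    intro u hu
    have htu : polar ⇑Q t u = 0 := (mem_perp.1 hu.2).1
    obtain ⟨hau, hbu⟩ := mem_perp.1 hu.1
    have ga : ap (el H t u : IsoGrp Q) a = a := by
      simp [el_coe, eich_ap hQt htu, pl_comm Q t a, pl_comm Q u a, hat, hau]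
    have gb : ap (el H t u : IsoGrp Q) b = b := by
      simp [el_coe, eich_ap hQt htu, pl_comm Q t b, pl_comm Q u b, hbt, hbu]
    exact hx _ ga gb (top_unique H hq hab hs hB hT (move_mem_blocks H hab hab ga gb hB)
      (top_move H hab hab ga gb hB hT))
  set B' := orb (vact H htp) x with hB'd
  have hB' : B' ∈ blocks (vact H htp) := (mem_blocks _).2 ⟨x, rfl⟩
  have hnotTop : ¬ Top H htp B' := by
    intro h
    obtain ⟨u, hu, hu0⟩ := (Submodule.ne_bot_iff (perp Q a b ⊓ perp Q t t')).1
      fun h => by rw [h, finrank_bot] at hUd; omega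
    obtain ⟨y, hy, hyu⟩ := hUnd u hu hu0
    have := orth_of_fix H htp hB' (self_mem_orb _ x) inf_le_right hfixU (h y hy.2) hu
    exact hyu (by rw [pl_comm]; exact this)
  -- transfer to the pair `a, b`
  obtain ⟨g, hg, ga, gb⟩ := exists_pair_omega hG h7 htp hab
  set B1 := (⟨g, hg⟩ : ↥(Omega F ⇑Q)) • B' with hB1d
  have hB1 : B1 ∈ blocks (vact H hab) := move_mem_blocks H htp hab ga gb hB'
  have hne1 : B1 ≠ B := by
    intro h
    apply hnotTop
    have h' : (⟨g, hg⟩ : ↥(Omega F ⇑Q))⁻¹ • B1 = B' := inv_smul_smul _ _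
    rw [← h', h]
    exact top_move H hab htp (inv_fix ga) (inv_fix gb) hB hT
  have hline : ∀ C ∈ blocks (X := X) (vact H hab), C ≠ B → Line H hab C := by
    intro C hC hne
    rcases classify H hq hab hs hC with h | h | h | h
    · exact absurd h (hnf hab C hC)
    · exact absurd (top_unique H hq hab hs hB hT hC h) hne
    · exact h
    · exact absurd h (spec_false H hq hab hs hnf hC)
  obtain ⟨-, φ, hφW, -, hφ⟩ := hline B1 hB1 hne1
  obtain ⟨v, hv, hv0⟩ : ∃ v ∈ AV H hab B1, v ≠ 0 := by
    by_contra! h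
    exact hnf hab B1 hB1 ((AddSubgroup.eq_bot_iff_forall _).2 h)
  obtain ⟨hvW, hvA⟩ := mem_AV.1 hv
  have hk2 : 2 ≤ kk (vact H hab) X ⟨v, hvW⟩ := by
    rw [kk]
    refine le_of_eq_of_le (Finset.card_pair hne1).symm
      (Finset.card_le_card (s := {B1, B}) fun C hC => ?_)
    simp only [Finset.mem_insert, Finset.mem_singleton] at hC
    rcases hC with rfl | rfl
    · exact Finset.mem_filter.2 ⟨hB1, hvA⟩
    · exact Finset.mem_filter.2 ⟨hB, (mem_AV.1 (hT v hvW)).2⟩
  have hne : (⟨v, hvW⟩ : ↥(perp Q a b)) ≠ 0 := fun h => hv0 (congrArg Subtype.val h)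
  have hd : 5 ≤ finrank F (perp Q a b) := by omega
  have hu := (cnt_zero_le hWnd).2 (by omega)
  have hsmall := hs
  rw [Small, cnt_top H hab] at hsmall
  by_cases hQv : Q v = 0
  swap
  · set C := (Finset.univ.filter fun s : F => s ≠ 0).image fun s => s * s * Q v with hC
    set O := Finset.univ.filter fun w : ↥(perp Q a b) => Q (w : ι → F) ∈ C with hO
    obtain ⟨e, he, f, hf, hef⟩ := exists_hpair_of_three hWnd (by omega)
    obtain ⟨-, hd2⟩ := ndOn_cut hWnd hef he hf
    have hOc := class_le_card hef he hf (C := C) (O := O) fun w hw =>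
      Finset.mem_filter.2 ⟨Finset.mem_univ _, hw⟩
    rw [card_sub, show finrank F ↥(perp Q a b ⊓ perp Q e f) = finrank F (perp Q a b) - 2 by omega]
      at hOc
    have h0 : (0 : ↥(perp Q a b)) ∉ O := by
      intro h0
      obtain ⟨s, hs, hs'⟩ := Finset.mem_image.1 (Finset.mem_filter.1 h0).2
      rw [Submodule.coe_zero, QuadraticMap.map_zero, mul_eq_zero, mul_eq_zero, or_self] at hs'
      exact hQv (hs'.resolve_left (Finset.mem_filter.1 hs).2)
    have hc := line_cover H hab hB hT h0 (fun w hw => ?_) hline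
    swap
    · obtain ⟨s, hs, hs'⟩ := Finset.mem_image.1 (Finset.mem_filter.1 hw).2
      exact hk2.trans (kk_le_norm H hab (Finset.mem_filter.1 hs).2 hne
        (fun hw0 => h0 (hw0 ▸ hw)) hs'.symm)
    have hC2 : 2 ≤ C.card := by
      obtain ⟨m, hm0, hm1, s, rfl⟩ := exists_scalar (F := F) hq
      have hs0 : s ≠ 0 := fun h => hm0 (by simp [h])
      refine le_of_eq_of_le (Finset.card_pair (a := Q v) (b := s * s * Q v) ?_).symm
        (Finset.card_le_card (s := {Q v, s * s * Q v}) fun c hc => ?_)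
      · intro h; exact hm1 (mul_right_cancel₀ hQv (h.symm.trans (one_mul _).symm))
      · simp only [Finset.mem_insert, Finset.mem_singleton] at hc
        rcases hc with rfl | rfl
        · exact Finset.mem_image.2 ⟨1, by simp, by ring⟩
        · exact Finset.mem_image.2 ⟨s, by simp [hs0], rfl⟩
    obtain ⟨r, hr⟩ : ∃ r, Fintype.card F = r + 4 := ⟨_, (Nat.sub_add_cancel hq).symm⟩
    rw [hr, show r + 4 - 1 = r + 3 by omega] at hc hsmall hOc
    rw [hr] at hu
    have hp : 1 ≤ (r + 4) ^ (finrank F (perp Q a b) - 2) := Nat.one_le_pow _ _ (by omega)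
    generalize (r + 4) ^ (finrank F (perp Q a b) - 2) = P at hOc hu hp
    have e1 := Nat.mul_le_mul_right ((r + 3) * P) hC2
    have e2 : O.card < cnt Q (perp Q a b) 0 := Nat.lt_of_mul_lt_mul_left (a := r + 4) (by omega)
    nlinarith
  · set O := Finset.univ.filter fun w : ↥(perp Q a b) => Q (w : ι → F) = 0 ∧ w ≠ 0 with hO
    have h0 : (0 : ↥(perp Q a b)) ∉ O := by simp [hO]
    have hc := line_cover H hab hB hT h0 (fun w hw => by
      obtain ⟨hQw, hw0⟩ := (Finset.mem_filter.1 hw).2
      exact hk2.trans (kk_le_norm H hab one_ne_zero hne hw0 (by simp [hQw, hQv]))) hline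
    have hOc : O.card + 1 = cnt Q (perp Q a b) 0 := by
      rw [← Finset.card_map (Function.Embedding.subtype _), cnt, Nat.card_eq_fintype_card,
        Fintype.card_subtype, ← Finset.card_insert_of_notMem (a := (0 : ι → F)) (by simp [hO])]
      congr 1
      ext w
      by_cases hw : w = 0 <;> simp [hO, hw, and_comm]
    have hO1 : 1 ≤ O.card := Finset.card_pos.2 ⟨⟨v, hvW⟩, Finset.mem_filter.2
      ⟨Finset.mem_univ _, hQv, hne⟩⟩
    rw [← hOc] at hsmall
    -- `#X = #SPt - 1`; double count the free pairs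
    haveI : Finite (SPt Q) := Subtype.finite
    haveI := Fintype.ofFinite (SPt Q)
    have hN := card_spt Q
    rw [Nat.card_eq_fintype_card, cnt_top H hab, ← hOc] at hN
    obtain ⟨r, hr⟩ : ∃ r, Fintype.card F = r + 4 := ⟨_, (Nat.sub_add_cancel hq).symm⟩
    rw [hr] at hc hsmall hN
    rw [show r + 4 - 1 = r + 3 by omega] at hc hsmall hN
    set n := Fintype.card X
    set q := r + 4 with hqd
    set N := Fintype.card (SPt Q)
    have hNn : N = n + 1 := Nat.eq_of_mul_eq_mul_left (show 0 < r + 3 by omega) (by linarith)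
    have hlt : q ^ finrank F (perp Q a b) < n := by
      refine Nat.lt_of_mul_lt_mul_left (a := r + 3) ?_
      have := Nat.mul_le_mul_left q hO1
      omega
    have hcol : ∀ p : SPt Q, (Finset.univ.filter fun y : X => Free H p.1.rep y).card =
        q ^ finrank F (perp Q a b) := by
      intro p
      obtain ⟨f, hf⟩ := exists_hpair_left H.nd p.2 p.1.rep_nonzero
      obtain ⟨k, hk, ka, kb⟩ := exists_pair_omega hG h7 hab hf
      set B2 := (⟨k, hk⟩ : ↥(Omega F ⇑Q)) • B
      have hB2 : B2 ∈ blocks (vact H hf) := move_mem_blocks H hab hf ka kb hB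
      have hT2 : Top H hf B2 := top_move H hab hf ka kb hB hT
      have hd' := (finrank_perp_eq H.nd hf).2
      rw [← hr, show finrank F (perp Q a b) = finrank F (perp Q p.1.rep f) by omega,
        ← top_card H hf hB2 hT2]
      congr 1
      ext y
      simp only [Finset.mem_filter, Finset.mem_univ, true_and]
      constructor
      · intro hy
        have := (free_iff_top H hf y).1 hy
        rw [← top_unique H hq hf hs hB2 hT2 ((mem_blocks _).2 ⟨y, rfl⟩) this]
        exact self_mem_orb _ y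
      · intro hy
        rw [free_iff_top H hf, orb_of_mem hB2 hy]
        exact hT2
    have hrow : ∀ y y' : X, (Finset.univ.filter fun p : SPt Q => Free H p.1.rep y).card ≤
        (Finset.univ.filter fun p : SPt Q => Free H p.1.rep y').card := by
      intro y y'
      obtain ⟨k, rfl⟩ := MulAction.exists_smul_eq ↥(Omega F ⇑Q) y y'
      refine Finset.card_le_card_of_injOn (fun p => (k : IsoGrp Q) • p) (fun p hp => ?_)
        fun p _ p' _ h => smul_left_cancel _ h
      refine Finset.mem_filter.2 ⟨Finset.mem_univ _, ?_⟩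
      obtain ⟨c, hc, hrep⟩ := rep_smul_spt (k : IsoGrp Q) p
      rw [hrep]
      exact free_smul H hc (free_move H k (Finset.mem_filter.1 hp).2)
    set c := (Finset.univ.filter fun p : SPt Q => Free H p.1.rep x).card
    have hdc : n * c = N * q ^ finrank F (perp Q a b) := by
      calc n * c = ∑ _y : X, c := by rw [Finset.sum_const, smul_eq_mul, Finset.card_univ]
        _ = ∑ y : X, (Finset.univ.filter fun p : SPt Q => Free H p.1.rep y).card :=
          Finset.sum_congr rfl fun y _ => le_antisymm (hrow x y) (hrow y x)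
        _ = ∑ p : SPt Q, (Finset.univ.filter fun y : X => Free H p.1.rep y).card := by
          simp only [Finset.card_filter]; exact Finset.sum_comm
        _ = _ := by
          rw [Finset.sum_congr rfl fun p _ => hcol p, Finset.sum_const, smul_eq_mul,
            Finset.card_univ]
    rw [hNn] at hdc
    have hdvd : n ∣ q ^ finrank F (perp Q a b) :=
      (Nat.Coprime.dvd_of_dvd_mul_left (by simp [Nat.coprime_self_add_right]) ⟨c, hdc.symm⟩)
    exact absurd (Nat.le_of_dvd (by positivity) hdvd) (by omega)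

end Cfsg.Agent.MinIndex
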