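import Cfsg.Agent.Lib.MinIndex.OrthSpecial
import Cfsg.Agent.Lib.MinIndex.OrthTop

/-!
# A root group fixing a point

* `span_ts` : the span of pairwise orthogonal singular vectors
* `stabT`, `stabT_false` : the stabiliser of a totally singular subspace has index `≥ #SPt`
* `fix_false` : so has a subgroup containing a root group
-/

set_option autoImplicit false
set_option linter.unusedSectionVars false
set_option linter.unusedSimpArgs false

namespace Cfsg.Agent.MinIndex

open Cfsg Matrix Module Cfsg.Agent.Orth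
open Cfsg.Agent.AutPOmega (NdOn ndOn_cut exists_hpair_in exists_hpair_of_three finrank_perp_eq Base)
open QuadraticMap (polar)
open scoped Pointwise

variable {ι : Type} [Fintype ι] [DecidableEq ι] {F : Type*} [Field F] [Fintype F]
variable {Q : QuadraticForm F (ι → F)} {a b : ι → F}

attribute [local instance] fintypeSub

theorem span_ts {s : Set (ι → F)} (hs : ∀ x ∈ s, Q x = 0)
    (hp : ∀ x ∈ s, ∀ y ∈ s, polar ⇑Q x y = 0) : ∀ v ∈ Submodule.span F s, Q v = 0 := by
  have hp' : ∀ x ∈ s, ∀ w ∈ Submodule.span F s, polar ⇑Q x w = 0 := by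
    intro x hx w hw
    induction hw using Submodule.span_induction with
    | mem w hw => exact hp x hx w hw
    | zero => exact pl_zero_right Q x
    | add u v _ _ h1 h2 => rw [pl_add_right, h1, h2, add_zero]
    | smul c u _ h1 => rw [pl_smul_right, h1, mul_zero]
  have hp2 : ∀ v ∈ Submodule.span F s, ∀ w ∈ Submodule.span F s, polar ⇑Q v w = 0 := by
    intro v hv w hw
    induction hv using Submodule.span_induction with
    | mem v hv => exact hp' v hv w hw
    | zero => exact pl_zero_left Q w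
    | add u v _ _ h1 h2 => rw [pl_add_left, h1, h2, add_zero]
    | smul c u _ h1 => rw [pl_smul_left, h1, mul_zero]
  intro v hv
  induction hv using Submodule.span_induction with
  | mem v hv => exact hs v hv
  | zero => simp
  | add u v hu hv h1 h2 => rw [Q_add, h1, h2, hp2 u hu v hv]; ring
  | smul c u _ h1 => rw [Q_smul, h1, mul_zero]

/-- The stabiliser of a subspace in `Ω`. -/
def stabT (Q : QuadraticForm F (ι → F)) (T : Submodule F (ι → F)) :
    Subgroup ↥(Omega F ⇑Q) where
  carrier := {g | T.map (ap (g : IsoGrp Q)) = T}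
  one_mem' := OrthAct.map_ap_eq_of_mapsTo fun x hx => by
    show ap (1 : IsoGrp Q) x ∈ T
    rwa [ap_one]
  mul_mem' {g h} (hg : _ = _) (hh : _ = _) := show _ = _ by
    rw [show ((g * h : ↥(Omega F ⇑Q)) : IsoGrp Q) = (g : IsoGrp Q) * h from rfl,
      OrthAct.map_ap_mul, hh, hg]
  inv_mem' {g} (hg : _ = _) := show _ = _ by
    conv_lhs => arg 2; rw [← hg]
    rw [← OrthAct.map_ap_mul,
      show ((g⁻¹ : ↥(Omega F ⇑Q)) : IsoGrp Q) * (g : IsoGrp Q) = 1 from inv_mul_cancel _]
    exact OrthAct.map_ap_eq_of_mapsTo fun x hx => by rwa [ap_one]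

theorem mem_stabT {T : Submodule F (ι → F)} {g : ↥(Omega F ⇑Q)} :
    g ∈ stabT Q T ↔ T.map (ap (g : IsoGrp Q)) = T := Iff.rfl

theorem el_left_mem_stabT (H : Base Q) {T : Submodule F (ι → F)} (hT : ∀ x ∈ T, Q x = 0)
    (ha : a ∈ T) {w : ι → F} (hw : polar ⇑Q a w = 0) : el H a w ∈ stabT Q T := by
  refine OrthAct.map_ap_eq_of_mapsTo fun v hv => ?_
  rw [el_coe, eich_ap (hT a ha) hw, polar_ts hT ha hv, zero_smul, add_zero]
  exact sub_mem hv (T.smul_mem _ ha)

variable {X : Type*} [MulAction ↥(Omega F ⇑Q) X] [Fintype X] [DecidableEq X]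

set_option maxHeartbeats 1600000 in
/-- Stabilisers of totally singular subspaces of dimension at least two are small. -/
theorem stabT_false (H : Base Q) (hq : 4 ≤ Fintype.card F) (hab : HPair Q a b)
    {T : Submodule F (ι → F)} (hT : ∀ x ∈ T, Q x = 0) (ha : a ∈ T) (hj : 2 ≤ finrank F T)
    (hs : Small Q X) (x0 : X)
    (hx0 : ∀ g : ↥(Omega F ⇑Q), g • x0 = x0 ↔ T.map (ap (g : IsoGrp Q)) = T) : False := by
  classical
  haveI : Nonempty X := ⟨x0⟩
  have h7 := H.seven
  have hG := good_of_base H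
  obtain ⟨hWnd, hWd⟩ := finrank_perp_eq H.nd hab
  have hd : 5 ≤ finrank F (perp Q a b) := by omega
  -- `R_b` is totally singular
  have hR : ∀ w ∈ perp Q a b, el H b w • x0 = x0 → w ∈ T := by
    intro w hw h
    obtain ⟨haw, hbw⟩ := mem_perp.1 hw
    have h1 : ap (el H b w : IsoGrp Q) a ∈ T := by
      have := Submodule.mem_map_of_mem (f := ap (el H b w : IsoGrp Q)) ha
      rwa [(hx0 _).1 h] at this
    rw [el_coe, eich_ap hab.qf hbw, hab.swap.pf, pl_comm Q w a, haw, one_smul, zero_add, mul_one]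
      at h1
    have h2 := polar_ts hT ha h1
    rw [pl_sub_right, pl_add_right, pl_smul_right, pl_self, hab.qe, haw, hab.pf] at h2
    have hQw : Q w = 0 := by linear_combination -h2
    rw [hQw, zero_smul, sub_zero] at h1
    simpa using sub_mem h1 ha
  obtain ⟨t, ht, htW, ht0⟩ : ∃ t ∈ T, t ∈ perp Q a b ∧ t ≠ 0 := by
    obtain ⟨y, hy, hya⟩ := SetLike.not_le_iff_exists.1 (fun hle : T ≤ (F ∙ a) => by
      have := Submodule.finrank_mono hle
      rw [finrank_span_singleton hab.ne_zero] at this; omega)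
    refine ⟨wPart Q a b y, ?_, hab.wPart_mem y, fun h => hya ?_⟩
    · rw [wPart, polar_ts hT ha hy, zero_smul, sub_zero]
      exact sub_mem hy (T.smul_mem _ ha)
    · have hd' := decomp (Q := Q) a b y
      rw [h, polar_ts hT ha hy, zero_smul, add_zero, add_zero] at hd'
      exact Submodule.mem_span_singleton.2 ⟨_, hd'.symm⟩
  obtain ⟨hat, hbt⟩ := mem_perp.1 htW
  have htfix : el H b t • x0 = x0 := by
    refine (hx0 _).2 (OrthAct.map_ap_eq_of_mapsTo fun v hv => ?_)
    rw [el_coe, eich_ap hab.qf hbt, polar_ts hT ht hv, hT t ht]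
    simpa using add_mem hv (T.smul_mem _ ht)
  set B' := orb (vact H hab.swap) x0
  have hB' : B' ∈ blocks (X := X) (vact H hab.swap) := (mem_blocks _).2 ⟨x0, rfl⟩
  have hxB' : x0 ∈ B' := self_mem_orb _ x0
  have hsw : perp Q b a = perp Q a b := perp_swap a b
  have hfix : ∀ w ∈ perp Q a b, (∀ v ∈ AV H hab.swap B', polar ⇑Q v w = 0) → w ∈ T := fun w hw h =>
    hR w hw (fix_of_orth H hab.swap hB' hxB' (by rw [hsw]; exact hw) h)
  rcases classify H hq hab.swap hs hB' with h | h | h | h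
  · obtain ⟨w, hw, hQw⟩ := exists_ns hWnd fun h => by rw [h, finrank_bot] at hWd; omega
    exact hQw (hT w (hfix w hw fun v hv => by
      rw [h, AddSubgroup.mem_bot] at hv
      rw [hv, pl_zero_left]))
  · obtain ⟨y, hy, hty⟩ := hWnd t htW ht0
    refine hty ?_
    rw [pl_comm]
    exact orth_of_sub H hab.swap hB' hxB' (U := perp Q a b) (fun u hu => h u (by rwa [hsw]))
      (by rwa [hsw]) htfix hy
  · obtain ⟨-, φ, hφW, -, hφ⟩ := h
    rw [hsw] at hφW
    obtain ⟨e, he, f, hf, hef, h1, h2⟩ := exists_pair_orth_vec hWnd hd hφW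
    have key : ∀ w ∈ perp Q a b, polar ⇑Q φ w = 0 → w ∈ T := fun w hw hφw => hfix w hw fun v hv => by
      obtain ⟨c, rfl⟩ := Submodule.mem_span_singleton.1 (hφ v hv)
      rw [pl_smul_left, hφw, mul_zero]
    have := polar_ts hT (key e he h1) (key f hf h2)
    rw [hef.pf] at this
    exact one_ne_zero this
  -- exceptional: `T` meets the orthogonal in a maximal subspace
  obtain ⟨T0, hT0⟩ : ∃ T0, T0 = T ⊓ perp Q a b := ⟨_, rfl⟩
  have hle0 : T0 ≤ perp Q a b := hT0.le.trans inf_le_right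
  have hT0q : ∀ x ∈ T0, Q x = 0 := fun x hx => hT x (hT0.le hx).1
  have hU : perp Q a b ⊓ LinearMap.BilinForm.orthogonal Q.polarBilin (spanA H hab.swap B') ≤ T0 :=
    fun w hw => hT0.ge ⟨hfix w hw.1 fun v hv => hw.2 v (Submodule.subset_span hv), hw.1⟩
  have e1 := Submodule.finrank_sup_add_finrank_inf_eq (perp Q a b)
    (LinearMap.BilinForm.orthogonal Q.polarBilin (spanA H hab.swap B'))
  have e2 := Submodule.finrank_le
    (perp Q a b ⊔ LinearMap.BilinForm.orthogonal Q.polarBilin (spanA H hab.swap B'))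
  have e3 := LinearMap.BilinForm.finrank_orthogonal H.nd (spanA H hab.swap B')
  have e4 := Submodule.finrank_mono hU
  have e5 := ts_bound H hab hle0 hT0q
  have e6 := Submodule.finrank_le (spanA H hab.swap B')
  have e7 := h.2
  rw [hsw] at e7
  rw [finrank_space] at e2 e3 e6
  have hex : finrank F (perp Q a b) = 6 ∧ finrank F T0 = 3 := by
    rcases e7 with ⟨k1, k2⟩ | ⟨k1, k2⟩ <;> omega
  -- transfer to the pair `a, b`
  obtain ⟨g, hg, ga, gb⟩ := exists_pair_omega hG h7 hab.swap hab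
  set B3 := (⟨g, hg⟩ : ↥(Omega F ⇑Q)) • B' with hB3d
  have hB3 : B3 ∈ blocks (vact H hab) := move_mem_blocks H hab.swap hab ga gb hB'
  have hS3 : Spec H hab B3 := spec_move H hab.swap hab ga gb hB' h
  have hj3 : finrank F (spanA H hab B3) = 3 := by
    rcases hS3.2 with ⟨k1, -⟩ | ⟨-, k2⟩ <;> omega
  obtain ⟨s0, hs0, hs0c⟩ := orbit_count H (by omega) hab hle0 hT0q
    (by omega)
  obtain ⟨s1, hs1, hs1c⟩ := orbit_count H (by omega) hab (spanA_le H hab B3) hS3.1 (by omega)
  set B0 := orb (vact H hab) x0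
  have hB0 : B0 ∈ blocks (X := X) (vact H hab) := (mem_blocks _).2 ⟨x0, rfl⟩
  have hxfix : ∀ w ∈ perp Q a b, el H a w • x0 = x0 := fun w hw =>
    (hx0 _).2 (el_left_mem_stabT H hT ha (mem_perp.1 hw).1)
  have hB0x : ∀ y ∈ B0, y = x0 := by
    intro y hy
    obtain ⟨w, rfl⟩ := (mem_orb _).1 hy
    exact hxfix w.1 w.2
  have hB0bot : ∀ v ∈ AV H hab B0, v = 0 := by
    intro v hv
    by_contra hv0
    obtain ⟨y, hy, hvy⟩ := hWnd v (AV_le hv) hv0
    exact hvy (orth_of_fix H hab hB0 (self_mem_orb _ x0) le_rfl hxfix hv hy)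
  set A1 := (blocks (X := X) (vact H hab)).filter fun C => ¬ Spec H hab C with hA1
  set A2 := (blocks (X := X) (vact H hab)).filter fun C => Spec H hab C with hA2
  have hsum : A2.card + A1.card = (blocks (X := X) (vact H hab)).card :=
    Finset.card_filter_add_card_filter_not _
  have h1 : s1.card ≤ A2.card := by
    refine le_trans (Finset.card_le_card (t := A2.image fun C => spanA H hab C) ?_)
      Finset.card_image_le
    intro T' hT'
    obtain ⟨k, hk, ka, kb, rfl⟩ := hs1 T' hT'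
    exact Finset.mem_image.2 ⟨(⟨k, hk⟩ : ↥(Omega F ⇑Q)) • B3, Finset.mem_filter.2
      ⟨move_mem_blocks H hab hab ka kb hB3, spec_move H hab hab ka kb hB3 hS3⟩,
      spanA_move H hab hab ka kb hB3⟩
  have hch : ∀ T' : Submodule F (ι → F), ∃ k : ↥(Omega F ⇑Q), T' ∈ s0 →
      ap (k : IsoGrp Q) a = a ∧ ap (k : IsoGrp Q) b = b ∧ T0.map (ap (k : IsoGrp Q)) = T' := by
    intro T'
    by_cases hT' : T' ∈ s0
    · obtain ⟨k, hk, ka, kb, e⟩ := hs0 T' hT'
      exact ⟨⟨k, hk⟩, fun _ => ⟨ka, kb, e⟩⟩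
    · exact ⟨1, fun h => absurd h hT'⟩
  choose k hk using hch
  have h0 : s0.card ≤ A1.card := by
    refine Finset.card_le_card_of_injOn (fun T' => k T' • B0) (fun T' hT' => ?_)
      fun T1 hT1 T2 hT2 he => ?_
    · obtain ⟨ka, kb, -⟩ := hk T' hT'
      refine Finset.mem_filter.2 ⟨move_mem_blocks H hab hab ka kb hB0, fun hsp => ?_⟩
      obtain ⟨v, hv, hv0, -⟩ := exists_AV_ne hsp
      have := AV_move H hab hab (inv_fix ka) (inv_fix kb)
        (move_mem_blocks H hab hab ka kb hB0) hv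
      rw [inv_smul_smul] at this
      exact hv0 (ap_inj _ ((hB0bot _ this).trans (map_zero _).symm))
    · obtain ⟨a1, b1, e1⟩ := hk T1 hT1
      obtain ⟨a2, b2, e2⟩ := hk T2 hT2
      have hmem : k T1 • x0 ∈ k T2 • B0 := by
        have he' : k T1 • B0 = k T2 • B0 := he
        rw [← he']
        exact Finset.smul_mem_smul_finset (self_mem_orb _ x0)
      obtain ⟨y, hy, hy'⟩ := Finset.mem_smul_finset.1 hmem
      rw [hB0x y hy] at hy'
      have h3 : ((k T2)⁻¹ * k T1) • x0 = x0 := by rw [mul_smul, ← hy', inv_smul_smul]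
      have h4 : T.map (ap (k T1 : IsoGrp Q)) = T.map (ap (k T2 : IsoGrp Q)) := by
        have h5 := (hx0 _).1 h3
        rw [show ((((k T2)⁻¹ * k T1 : ↥(Omega F ⇑Q))) : IsoGrp Q) =
          (k T2 : IsoGrp Q)⁻¹ * (k T1 : IsoGrp Q) from rfl] at h5
        conv_rhs => arg 2; rw [← h5]
        rw [← OrthAct.map_ap_mul, mul_inv_cancel_left]
      have hW : ∀ {g : ↥(Omega F ⇑Q)}, ap (g : IsoGrp Q) a = a → ap (g : IsoGrp Q) b = b →
          (perp Q a b).map (ap (g : IsoGrp Q)) = perp Q a b := fun ga gb =>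
        OrthAct.map_ap_eq_of_mapsTo fun x hx => move_mem ga gb hx
      rw [← e1, ← e2, hT0, Submodule.map_inf _ (fun u v h => ap_inj _ h), h4,
        Submodule.map_inf _ (fun u v h => ap_inj _ h), hW a1 b1, hW a2 b2]
  refine spec_contra H hq hab hs hB3 hS3 (m := s1.card + s0.card) ?_ (by omega)
  rw [hj3] at hs1c ⊢
  rw [hex.2] at hs0c
  rw [two_mul, add_mul s1.card s0.card]
  exact Nat.add_le_add hs1c hs0c

/-- No block is a single fixed point. -/
theorem fix_false (H : Base Q) (hq : 4 ≤ Fintype.card F) (hab : HPair Q a b) [Nontrivial X]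
    [MulAction.IsPretransitive ↥(Omega F ⇑Q) X] (hs : Small Q X) {B : Finset X}
    (hB : B ∈ blocks (vact H hab)) : AV H hab B ≠ ⊥ := by
  classical
  intro hbot
  have h7 := H.seven
  obtain ⟨x, hx⟩ := (mem_blocks _).1 hB
  have hxB : x ∈ B := hx ▸ self_mem_orb _ x
  let P : (ι → F) → Prop := fun v => Q v = 0 ∧ ∀ w, polar ⇑Q v w = 0 → el H v w • x = x
  have hPa : P a := by
    refine ⟨hab.qe, fun w hw => ?_⟩
    have hd := decomp (Q := Q) a b w
    rw [hw, zero_smul, add_zero, add_comm] at hd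
    have he : el H a w = el H a (wPart Q a b w) := Subtype.ext (by
      rw [el_coe, el_coe]
      conv_lhs => rw [hd]
      exact eich_add_smul_self hab.qe (mem_perp.1 (hab.wPart_mem w)).1 _)
    rw [he]
    exact fix_of_orth H hab hB hxB (hab.wPart_mem w) fun v hv => by
      rw [hbot, AddSubgroup.mem_bot] at hv
      rw [hv, pl_zero_left]
  have hpair : ∀ v, P v → ∀ c, P c → polar ⇑Q v c = 0 := by
    intro v hv c hc
    by_contra hne
    set c' := (polar ⇑Q v c)⁻¹ • c with hc'
    have hvc : HPair Q v c' := ⟨hv.1, by rw [hc', Q_smul, hc.1, mul_zero],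
      by rw [hc', pl_smul_right, inv_mul_cancel₀ hne]⟩
    have hPc : ∀ w, polar ⇑Q c' w = 0 → el H c' w • x = x := by
      intro w hw
      rw [hc', el_smul_left]
      refine hc.2 _ ?_
      rw [hc', pl_smul_left, mul_eq_zero] at hw
      rw [pl_smul_right, hw.resolve_left (inv_ne_zero hne), mul_zero]
    have hall : ∀ g : ↥(Omega F ⇑Q), g • x = x := by
      intro g
      have hle : Omega F ⇑Q ≤
          (MulAction.stabilizer ↥(Omega F ⇑Q) x).map (Omega F ⇑Q).subtype := by
        refine (omega_eq_eichPair (good_of_base H) (by omega) (.inr (by omega)) hvc).le.trans ?_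
        rw [eichPair, Subgroup.closure_le]
        rintro _ ⟨w, hw, rfl | rfl⟩
        · exact ⟨el H v w, hv.2 w (mem_perp.1 hw).1, rfl⟩
        · exact ⟨el H c' w, hPc w (mem_perp.1 hw).2, rfl⟩
      obtain ⟨g', hg', he⟩ := hle g.2
      rw [← show g' = g from Subtype.ext he]
      exact hg'
    obtain ⟨y, hy⟩ := exists_ne x
    obtain ⟨g, rfl⟩ := MulAction.exists_smul_eq ↥(Omega F ⇑Q) x y
    exact hy (hall g)
  set T := Submodule.span F {v | P v} with hTd
  have hT : ∀ v ∈ T, Q v = 0 := span_ts (fun v hv => hv.1) fun v hv c hc => hpair v hv c hc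
  have haT : a ∈ T := Submodule.subset_span hPa
  have hle : MulAction.stabilizer ↥(Omega F ⇑Q) x ≤ stabT Q T := by
    intro g hg
    refine OrthAct.map_ap_eq_of_mapsTo fun v hv => ?_
    have hsub : T ≤ T.comap (ap (g : IsoGrp Q)) := by
      rw [hTd, Submodule.span_le]
      intro u hu
      refine Submodule.subset_span ⟨by rw [Q_ap, hu.1], fun w hw => ?_⟩
      rw [← ap_inv' g w, ← (hg : g • x = x), el_smul_iff]
      refine hu.2 _ ?_
      rw [← polar_ap (g : IsoGrp Q), ap_inv']
      exact hw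
    exact hsub hv
  haveI : Finite ↥(Omega F ⇑Q) := inferInstance
  haveI := Fintype.ofFinite (↥(Omega F ⇑Q) ⧸ stabT Q T)
  have hcard : Fintype.card (↥(Omega F ⇑Q) ⧸ stabT Q T) ≤ Fintype.card X := by
    rw [← Nat.card_eq_fintype_card, ← Nat.card_eq_fintype_card,
      ← MulAction.index_stabilizer_of_transitive ↥(Omega F ⇑Q) x, ← Subgroup.index_eq_card]
    exact Nat.le_of_dvd (Nat.pos_of_ne_zero Subgroup.index_ne_zero_of_finite)
      (Subgroup.index_dvd_of_le hle)
  have hs' : Small Q (↥(Omega F ⇑Q) ⧸ stabT Q T) :=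
    le_trans (Nat.add_le_add_right (Nat.mul_le_mul_left _ hcard) _) hs
  rcases Nat.lt_or_ge (finrank F T) 2 with hj | hj
  swap
  · refine stabT_false (X := ↥(Omega F ⇑Q) ⧸ stabT Q T) H hq hab hT haT hj hs' (QuotientGroup.mk 1)
      fun g => ?_
    show (QuotientGroup.mk (g * 1) : ↥(Omega F ⇑Q) ⧸ stabT Q T) = QuotientGroup.mk 1 ↔ _
    rw [mul_one, QuotientGroup.eq, mul_one, inv_mem_iff, mem_stabT]
  -- a point
  have hTa : T = (F ∙ a) := (Submodule.eq_of_le_of_finrank_le
    (by rw [Submodule.span_singleton_le_iff_mem]; exact haT)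
    (by rw [finrank_span_singleton hab.ne_zero]; omega)).symm
  haveI := isPretransitive_spt H.nd (by omega) H.hE
  have hst : stabT Q T = MulAction.stabilizer ↥(Omega F ⇑Q) (spt a hab.ne_zero hab.qe) := by
    ext g
    rw [MulAction.mem_stabilizer_iff,
      show g • spt a hab.ne_zero hab.qe = (g : IsoGrp Q) • spt a hab.ne_zero hab.qe from rfl,
      smul_spt_eq_self_iff, mem_stabT, hTa]
    constructor
    · intro h
      have h1 : ap (g : IsoGrp Q) a ∈ (F ∙ a) := by
        rw [← h]; exact Submodule.mem_map_of_mem (Submodule.mem_span_singleton_self a)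
      obtain ⟨k, hk⟩ := Submodule.mem_span_singleton.1 h1
      exact ⟨k, hk.symm⟩
    · rintro ⟨k, hk⟩
      refine OrthAct.map_ap_eq_of_mapsTo fun v hv => ?_
      obtain ⟨c, rfl⟩ := Submodule.mem_span_singleton.1 hv
      rw [map_smul, hk, smul_smul]
      exact Submodule.mem_span_singleton.2 ⟨_, rfl⟩
  rw [Small, ← Nat.card_eq_fintype_card (α := _ ⧸ _), ← Subgroup.index_eq_card, hst,
    MulAction.index_stabilizer_of_transitive, ← card_spt Q] at hs'
  omega

end Cfsg.Agent.MinIndex
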