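import Cfsg.Agent.Lib.MinIndex.OrthTop

/-!
# All root groups meeting a stabiliser in hyperplanes

* `InC H x p z` : the line of `e_p(z)` fixes `x`
* `line_data`, `line_key` : the hyperplane at a pair is the same at both ends
* `line_false` : this is impossible
-/

set_option autoImplicit false
set_option linter.unusedSectionVars false
set_option linter.unusedSimpArgs false

namespace Cfsg.Agent.MinIndex

open Cfsg Matrix Module Cfsg.Agent.Orth
open Cfsg.Agent.AutPOmega (NdOn ndOn_cut exists_hpair_in exists_hpair_of_three finrank_perp_eq Base)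
open QuadraticMap (polar)
open scoped Pointwise

variable {ι : Type} [Fintype ι] [DecidableEq ι] {F : Type*} [Field F] [Fintype F]
variable {Q : QuadraticForm F (ι → F)} {a b : ι → F}
variable {X : Type*} [MulAction ↥(Omega F ⇑Q) X] [Fintype X] [DecidableEq X]

attribute [local instance] fintypeSub

/-- The line of `e_p(z)` fixes `x`. -/
def InC (H : Base Q) (x : X) (p z : ι → F) : Prop :=
  polar ⇑Q p z = 0 ∧ ∀ k : F, el H p (k • z) • x = x

theorem InC.smul {H : Base Q} {x : X} {p z : ι → F} (h : InC H x p z) (c : F) :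
    InC H x p (c • z) :=
  ⟨by rw [pl_smul_right, h.1, mul_zero], fun k => by rw [smul_smul]; exact h.2 _⟩

theorem InC.add {H : Base Q} {x : X} {p z z' : ι → F} (hp : Q p = 0) (h : InC H x p z)
    (h' : InC H x p z') : InC H x p (z + z') :=
  ⟨by rw [pl_add_right, h.1, h'.1, add_zero], fun k => by
    rw [smul_add, el_add H hp (h.smul k).1 (h'.smul k).1, mul_smul, h'.2, h.2]⟩

theorem InC.add_self {H : Base Q} {x : X} {p z : ι → F} (hp : Q p = 0) (h : InC H x p z) (c : F) :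
    InC H x p (z + c • p) := by
  refine ⟨by rw [pl_add_right, h.1, pl_smul_right, pl_self, hp]; ring, fun k => ?_⟩
  have : el H p (k • (z + c • p)) = el H p (k • z) := Subtype.ext (by
    rw [el_coe, el_coe, smul_add, smul_smul]
    exact eich_add_smul_self hp (h.smul k).1 _)
  rw [this, h.2]

theorem InC.smul_left {H : Base Q} {x : X} {p z : ι → F} (h : InC H x p z) (c : F) :
    InC H x (c • p) z :=
  ⟨by rw [pl_smul_left, h.1, mul_zero], fun k => by rw [el_smul_left, smul_smul]; exact h.2 _⟩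

/-- The hyperplane of a pair. -/
theorem line_data (H : Base Q) (hab : HPair Q a b) {x : X}
    (hnf : AV H hab (orb (vact H hab) x) ≠ ⊥) (hl : Line H hab (orb (vact H hab) x)) :
    ∃ φ ∈ perp Q a b, φ ≠ 0 ∧ ∀ z ∈ perp Q a b, InC H x a z ↔ polar ⇑Q φ z = 0 := by
  have hB : orb (vact H hab) x ∈ blocks (X := X) (vact H hab) := (mem_blocks _).2 ⟨x, rfl⟩
  obtain ⟨-, φ, hφW, hφ0, hφ⟩ := hl
  refine ⟨φ, hφW, hφ0, fun z hz => ⟨fun h => ?_, fun h => ?_⟩⟩
  · obtain ⟨v, hv, hv0⟩ : ∃ v ∈ AV H hab (orb (vact H hab) x), v ≠ 0 := by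
      by_contra! hh
      exact hnf ((AddSubgroup.eq_bot_iff_forall _).2 hh)
    have h1 := orth_of_fix H hab hB (self_mem_orb _ x) (U := F ∙ z)
      (by rwa [Submodule.span_singleton_le_iff_mem]) (fun u hu => by
        obtain ⟨k, rfl⟩ := Submodule.mem_span_singleton.1 hu; exact h.2 k) hv
      (Submodule.mem_span_singleton_self z)
    obtain ⟨c, rfl⟩ := Submodule.mem_span_singleton.1 (hφ v hv)
    rw [pl_smul_left, mul_eq_zero] at h1
    exact h1.resolve_left fun hc => hv0 (by rw [hc, zero_smul])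
  · refine ⟨(mem_perp.1 hz).1, fun k => fix_of_orth H hab hB (self_mem_orb _ x)
      (Submodule.smul_mem _ _ hz) fun v hv => ?_⟩
    obtain ⟨c, rfl⟩ := Submodule.mem_span_singleton.1 (hφ v hv)
    rw [pl_smul_left, pl_smul_right, h, mul_zero, mul_zero]

/-- A singular vector of the hyperplane at `b` is in the hyperplane at `a`. -/
theorem line_key (H : Base Q) (hab : HPair Q a b) {x : X} {φ : ι → F} (hφW : φ ∈ perp Q a b)
    (hK : ∀ z ∈ perp Q a b, InC H x a z ↔ polar ⇑Q φ z = 0) {w' : ι → F} (hw' : w' ∈ perp Q a b)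
    (hQw' : Q w' = 0) (h : InC H x b w') : InC H x a w' := by
  have h7 := H.seven
  set S := orthFam Q ![a, b, φ, w'] with hS
  have hSm : ∀ {z : ι → F}, z ∈ S → z ∈ perp Q a b ∧ polar ⇑Q φ z = 0 ∧ polar ⇑Q w' z = 0 :=
    fun {z} hz => by
      have hm := mem_orthFam.1 hz
      exact ⟨mem_perp.2 ⟨hm 0, hm 1⟩, hm 2, hm 3⟩
  obtain ⟨r, hr, w, hw, hrw⟩ : ∃ r ∈ S, ∃ w ∈ S, polar ⇑Q w r ≠ 0 := by
    by_contra! hall
    have h1 := isotropic_perp_bound H.nd hab S (fun z hz => (hSm hz).1)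
      fun y hy z hz => hall z hz y hy
    have h2 : Fintype.card ι ≤ finrank F S + 4 := card_le_finrank_orthFam ![a, b, φ, w']
    omega
  obtain ⟨hwW, hφw, hw'w⟩ := hSm hw
  obtain ⟨haw, hbw⟩ := mem_perp.1 hwW
  obtain ⟨haw', hbw'⟩ := mem_perp.1 hw'
  set g := el H w' w with hgd
  have hga : ap (g : IsoGrp Q) a = a := by
    simp [hgd, el_coe, eich_ap hQw' hw'w, pl_comm Q w' a, pl_comm Q w a, haw', haw]
  have hgb : ap (g : IsoGrp Q) b = b := by
    simp [hgd, el_coe, eich_ap hQw' hw'w, pl_comm Q w' b, pl_comm Q w b, hbw', hbw]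
  -- `g` moves `x` inside its orbit
  have hP : el H (a + w') w • x = x := by
    have h1 : el H b w' • x = x := by simpa using h.2 1
    have h2 : el H a w • x = x := by simpa using ((hK w hwW).2 hφw).2 1
    have h3 : ap (el H b w' : IsoGrp Q) a = a + w' := by
      rw [el_coe, eich_ap hab.qf h.1, hab.swap.pf, pl_comm Q w' a, haw', hQw']
      module
    have h4 : ap (el H b w' : IsoGrp Q) w = w := by
      rw [el_coe, eich_ap hab.qf h.1, hbw, hw'w]
      module
    rw [← h3]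
    conv_lhs => arg 2; rw [← h1]
    conv_rhs => rw [← h1]
    conv_lhs => arg 1; rw [← h4]
    exact (el_smul_iff H _ a w x).2 h2
  have hdec : el H (a + w') w = el H a ((-Q w) • w') * (el H a w * el H w' w) := by
    refine Subtype.ext (ext_ap fun v => ?_)
    show ap (eich Q (a + w') w) v =
      ap (eich Q a ((-Q w) • w') * (eich Q a w * eich Q w' w)) v
    have e0 : Q (a + w') = 0 := by rw [Q_add, hab.qe, hQw', haw']; ring
    have e1 : polar ⇑Q (a + w') w = 0 := by rw [pl_add_left, haw, hw'w, add_zero]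
    rw [ap_mul, ap_mul, eich_ap e0 e1, eich_ap hQw' hw'w, eich_ap hab.qe haw,
      eich_ap hab.qe (by rw [pl_smul_right, haw', mul_zero])]
    simp only [pl_add_left, pl_add_right, pl_sub_right, pl_smul_left, pl_smul_right, Q_smul, pl_self,
      pl_comm Q w a, pl_comm Q w' a, pl_comm Q w w', haw, haw', hw'w, hQw', hab.qe]
    module
  have hgx : g • x ∈ orb (vact H hab) x := by
    rw [hdec, mul_smul, mul_smul] at hP
    refine (mem_orb _).2 ⟨⟨-w + -((-Q w) • w'), add_mem (neg_mem hwW)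
      (neg_mem (Submodule.smul_mem _ _ hw'))⟩, ?_⟩
    show el H a (-w + -((-Q w) • w')) • x = g • x
    rw [el_add H hab.qe (by rw [pl_neg_right, haw, neg_zero])
      (by rw [pl_neg_right, pl_smul_right, haw', mul_zero, neg_zero]), mul_smul]
    have n1 : ∀ z, el H a (-z) = (el H a z)⁻¹ := fun z => Subtype.ext (eich_inv a z).symm
    rw [n1, n1, inv_smul_eq_iff, inv_smul_eq_iff]
    exact hP.symm
  have hst := stabW_eq (vact H hab) hgx
  have hfix : ∀ k : F, el H a ((-(k * polar ⇑Q w r)) • w') • x = x := by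
    intro k
    obtain ⟨hrW, hφr, hw'r⟩ := hSm hr
    have h1 : el H a (k • r) • x = x := ((hK r hrW).2 hφr).2 k
    have h2 : el H (ap (g : IsoGrp Q) a) (ap (g : IsoGrp Q) (k • r)) • g • x = g • x :=
      (el_smul_iff H g a (k • r) x).2 h1
    have hgr : ap (g : IsoGrp Q) (k • r) = k • r + (-(k * polar ⇑Q w r)) • w' := by
      rw [map_smul, hgd, el_coe, eich_ap hQw' hw'w, hw'r]
      module
    rw [hga, hgr] at h2
    have hm : k • r + (-(k * polar ⇑Q w r)) • w' ∈ perp Q a b :=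
      add_mem (Submodule.smul_mem _ _ hrW) (Submodule.smul_mem _ _ hw')
    have h3 : (⟨_, hm⟩ : ↥(perp Q a b)) ∈ stabW (vact H hab) x := hst ▸ (mem_stabW _).2 h2
    have h4 : el H a (k • r + (-(k * polar ⇑Q w r)) • w') • x = x := h3
    rwa [add_comm, el_add H hab.qe (by rw [pl_smul_right, haw', mul_zero])
      (by rw [pl_smul_right, (mem_perp.1 hrW).1, mul_zero]), mul_smul, h1] at h4
  refine ⟨haw', fun k => ?_⟩
  have := hfix (-(k / polar ⇑Q w r))
  rwa [neg_mul, neg_neg, div_mul_cancel₀ _ hrw] at this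

/-- The hyperplanes at both ends agree. -/
theorem line_both (H : Base Q) (hab : HPair Q a b) {x : X}
    (hnf : ∀ {c e : ι → F} (hce : HPair Q c e), ∀ B ∈ blocks (X := X) (vact H hce), AV H hce B ≠ ⊥)
    (hl : ∀ {c e : ι → F} (hce : HPair Q c e), ∀ B ∈ blocks (X := X) (vact H hce), Line H hce B) :
    ∃ φ ∈ perp Q a b, φ ≠ 0 ∧ (∀ z ∈ perp Q a b, InC H x a z ↔ polar ⇑Q φ z = 0) ∧
      ∀ z ∈ perp Q a b, InC H x b z ↔ polar ⇑Q φ z = 0 := by
  have hm := (mem_blocks (X := X) (vact H hab)).2 ⟨x, rfl⟩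
  have hm' := (mem_blocks (X := X) (vact H hab.swap)).2 ⟨x, rfl⟩
  obtain ⟨φ, hφW, hφ0, hK⟩ := line_data H hab (hnf hab _ hm) (hl hab _ hm)
  obtain ⟨ψ, hψW, hψ0, hK'⟩ := line_data H hab.swap (hnf hab.swap _ hm') (hl hab.swap _ hm')
  rw [perp_swap] at hψW
  simp only [perp_swap a b] at hK'
  obtain ⟨hWnd, hWd⟩ := finrank_perp_eq H.nd hab
  obtain ⟨e, he, f, hf, hef, h1, h2⟩ := exists_pair_orth_vec hWnd (by have := H.seven; omega) hψW
  have hsing : ∀ z ∈ perp Q a b, Q z = 0 → polar ⇑Q ψ z = 0 → polar ⇑Q φ z = 0 :=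
    fun z hz hQz h => (hK z hz).1 (line_key H hab hφW hK hz hQz ((hK' z hz).2 h))
  have hφe := hsing e he hef.qe h1
  have hφf := hsing f hf hef.qf h2
  have hcase : ∀ z ∈ perp Q a b, polar ⇑Q ψ z = 0 → polar ⇑Q e z ≠ 0 → polar ⇑Q φ z = 0 := by
    intro z hz hψz hez
    set z' := z - (Q z / polar ⇑Q e z) • e with hz'
    have hQz' : Q z' = 0 := by
      rw [hz', Q_sub, Q_smul, hef.qe, pl_smul_right, pl_comm Q z e, div_mul_cancel₀ _ hez]; ring
    have := hsing z' (sub_mem hz (Submodule.smul_mem _ _ he)) hQz'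
      (by rw [hz', pl_sub_right, pl_smul_right, hψz, h1]; ring)
    rwa [hz', pl_sub_right, pl_smul_right, hφe, mul_zero, sub_zero] at this
  have hsub : ∀ z ∈ perp Q a b, polar ⇑Q ψ z = 0 → polar ⇑Q φ z = 0 := by
    intro z hz hψz
    by_cases hez : polar ⇑Q e z = 0
    · have := hcase (z + f) (add_mem hz hf) (by rw [pl_add_right, hψz, h2, add_zero])
        (by rw [pl_add_right, hez, hef.pf, zero_add]; exact one_ne_zero)
      rwa [pl_add_right, hφf, add_zero] at this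
    · exact hcase z hz hψz hez
  obtain ⟨c, hc⟩ : ∃ c : F, c • ψ = φ := by
    rw [← Submodule.mem_span_singleton]
    by_contra hn
    obtain ⟨y, hy, hy1, hy2⟩ := exists_sep hWnd hφW hψW hψ0 hn
    exact hy2 (hsub y hy hy1)
  have hc0 : c ≠ 0 := fun h => hφ0 (by rw [← hc, h, zero_smul])
  refine ⟨φ, hφW, hφ0, hK, fun z hz => ?_⟩
  rw [hK' z hz, ← hc, pl_smul_left, mul_eq_zero]
  simp [hc0]

/-- The hyperplane configuration is impossible. -/
theorem line_false (H : Base Q) (hab : HPair Q a b) [Nonempty X]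
    (hnf : ∀ {c e : ι → F} (hce : HPair Q c e), ∀ B ∈ blocks (X := X) (vact H hce), AV H hce B ≠ ⊥)
    (hl : ∀ {c e : ι → F} (hce : HPair Q c e), ∀ B ∈ blocks (X := X) (vact H hce), Line H hce B) :
    False := by
  obtain ⟨x⟩ := ‹Nonempty X›
  obtain ⟨φ, hφW, hφ0, hKa, hKb⟩ := line_both H hab (x := x) hnf hl
  obtain ⟨hWnd, hWd⟩ := finrank_perp_eq H.nd hab
  obtain ⟨e, he, f, hf, hef, h1, h2⟩ := exists_pair_orth_vec hWnd (by have := H.seven; omega) hφW
  obtain ⟨y0, hy0, hφy0⟩ := hWnd φ hφW hφ0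
  set y := (polar ⇑Q φ y0)⁻¹ • wPart Q e f y0 with hyd
  have hwW : wPart Q e f y0 ∈ perp Q a b :=
    sub_mem (sub_mem hy0 (Submodule.smul_mem _ _ he)) (Submodule.smul_mem _ _ hf)
  have hφw : polar ⇑Q φ (wPart Q e f y0) = polar ⇑Q φ y0 := by
    simp [wPart, pl_sub_right, pl_smul_right, h1, h2]
  set Y := (1 : F) • e + (1 - Q y) • f + y with hY
  have hyP : y ∈ perp Q e f := Submodule.smul_mem _ _ (hef.wPart_mem y0)
  have hQY : Q Y = 1 := by rw [hY, hef.Q_comb hyP]; ring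
  have hYW : Y ∈ perp Q a b := add_mem (add_mem (Submodule.smul_mem _ _ he)
    (Submodule.smul_mem _ _ hf)) (Submodule.smul_mem _ _ hwW)
  have hφY : polar ⇑Q φ Y = 1 := by
    simp [hY, hyd, pl_add_right, pl_smul_right, h1, h2, hφw, inv_mul_cancel₀ hφy0]
  have hfY : polar ⇑Q f Y = 1 := by
    simp [hY, pl_add_right, pl_smul_right, pl_self, hef.qf, hef.swap.pf, (mem_perp.1 hyP).2]
  obtain ⟨haY, hbY⟩ := mem_perp.1 hYW
  -- the third point
  set c := a + (-1 : F) • b + Y with hc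
  have hQc : Q c = 0 := by
    rw [hc, show a + (-1 : F) • b + Y = (1 : F) • a + (-1 : F) • b + Y by rw [one_smul],
      hab.Q_comb hYW, hQY]
    ring
  have hca : polar ⇑Q a c = -1 := by
    simp [hc, pl_add_right, pl_smul_right, pl_self, hab.qe, hab.pf, haY]
  have hcb : polar ⇑Q b c = 1 := by
    simp [hc, pl_add_right, pl_smul_right, pl_self, hab.qf, hab.swap.pf, hbY]
  have hpb : HPair Q c b := ⟨hQc, hab.qf, by rw [pl_comm]; exact hcb⟩
  have hpa : HPair Q c (-a) := ⟨hQc, by rw [QuadraticMap.map_neg, hab.qe], by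
    rw [pl_neg_right, pl_comm, hca, neg_neg]⟩
  obtain ⟨φ1, hφ1W, hφ10, hKc, hKb'⟩ := line_both H hpb (x := x) hnf hl
  obtain ⟨φ2, -, -, hKc2, hKa2⟩ := line_both H hpa (x := x) hnf hl
  -- members of the hyperplane at `c`
  have hz1 : ∀ v ∈ perp Q a b, polar ⇑Q φ v = 0 → InC H x c (polar ⇑Q v Y • a + v) := by
    intro v hv hφv
    obtain ⟨hav, hbv⟩ := mem_perp.1 hv
    have hin : InC H x (-a) (v + polar ⇑Q v Y • a) := by
      have := (((hKa v hv).2 hφv).add_self hab.qe (polar ⇑Q v Y)).smul_left (-1)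
      rwa [neg_one_smul] at this
    have hm : v + polar ⇑Q v Y • a ∈ perp Q c (-a) := mem_perp.2 ⟨by
      simp [hc, pl_add_left, pl_add_right, pl_smul_left, pl_smul_right, pl_self, pl_neg_left,
        hab.qe, hab.swap.pf, hav, hbv, pl_comm Q Y a, haY, pl_comm Q Y v], hin.1⟩
    rw [add_comm]
    exact (hKc2 _ hm).2 ((hKa2 _ hm).1 hin)
  have hz2 : ∀ v ∈ perp Q a b, polar ⇑Q φ v = 0 → InC H x c (v + (-polar ⇑Q v Y) • b) := by
    intro v hv hφv
    obtain ⟨hav, hbv⟩ := mem_perp.1 hv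
    have hin : InC H x b (v + (-polar ⇑Q v Y) • b) :=
      ((hKb v hv).2 hφv).add_self hab.qf _
    have hm : v + (-polar ⇑Q v Y) • b ∈ perp Q c b := mem_perp.2 ⟨by
      simp [hc, pl_add_left, pl_add_right, pl_smul_left, pl_smul_right, pl_self, pl_neg_left,
        pl_neg_right, hab.qf, hab.pf, hav, hbv, pl_comm Q Y b, hbY, pl_comm Q Y v], hin.1⟩
    exact (hKc _ hm).2 ((hKb' _ hm).1 hin)
  have hin_orth : ∀ z, InC H x c z → polar ⇑Q φ1 z = 0 := by
    intro z hz
    obtain ⟨hcφ, hbφ⟩ := mem_perp.1 hφ1W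
    have hd := decomp (Q := Q) c b z
    rw [hz.1, zero_smul, add_zero] at hd
    have h3 := hz.add_self hQc (-polar ⇑Q b z)
    have h4 : z + (-polar ⇑Q b z) • c = wPart Q c b z := by
      rw [wPart, hz.1, zero_smul, sub_zero, neg_smul, sub_eq_add_neg]
    rw [h4] at h3
    have h5 := (hKc _ (hpb.wPart_mem z)).1 h3
    rw [hd, pl_add_right, pl_smul_right, pl_comm Q φ1 c, hcφ, h5]
    ring
  obtain ⟨hcφ, hbφ⟩ := mem_perp.1 hφ1W
  have hφb : polar ⇑Q φ1 b = 0 := by rw [pl_comm]; exact hbφ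
  have hK0 : ∀ v ∈ perp Q a b, polar ⇑Q φ v = 0 → polar ⇑Q φ1 v = 0 := by
    intro v hv hφv
    have := hin_orth _ (hz2 v hv hφv)
    rwa [pl_add_right, pl_smul_right, hφb, mul_zero, add_zero] at this
  have hφa : polar ⇑Q φ1 a = 0 := by
    have := hin_orth _ (hz1 f hf h2)
    rwa [pl_add_right, pl_smul_right, hK0 f hf h2, add_zero, pl_comm Q f Y, ← pl_comm Q f Y, hfY,
      one_mul] at this
  have hφ1ab : φ1 ∈ perp Q a b := mem_perp.2 ⟨by rw [pl_comm, hφa], hbφ⟩
  have hφ1Y : polar ⇑Q φ1 Y = 0 := by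
    have : polar ⇑Q φ1 c = 0 := by rw [pl_comm]; exact hcφ
    simpa [hc, pl_add_right, pl_smul_right, hφa, hφb] using this
  obtain ⟨u, hu, hφ1u⟩ := hWnd φ1 hφ1ab hφ10
  apply hφ1u
  have := hK0 (u - polar ⇑Q φ u • Y) (sub_mem hu (Submodule.smul_mem _ _ hYW))
    (by rw [pl_sub_right, pl_smul_right, hφY]; ring)
  rwa [pl_sub_right, pl_smul_right, hφ1Y, mul_zero, sub_zero] at this

end Cfsg.Agent.MinIndex
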