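import Cfsg.Agent.Lib.MinIndex.OrthFix
import Cfsg.Agent.Lib.MinIndex.OrthLine

/-!
# The minimal index of a proper subgroup of `Ω(Q)` and `PΩ(Q)`, `q ≥ 4`, dimension `≥ 7`

* `small_false` : a transitive non-trivial `Ω(Q)`-set is at least as large as `SPt Q`
* `omega_index_ge`, `pomega_min_index`
-/

set_option autoImplicit false
set_option linter.unusedSectionVars false

namespace Cfsg.Agent.MinIndex

open Cfsg Matrix Module Cfsg.Agent.Orth
open Cfsg.Agent.AutPOmega (Base)
open QuadraticMap (polar)
open scoped Pointwise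

variable {ι : Type} [Fintype ι] [DecidableEq ι] {F : Type*} [Field F] [Fintype F]
variable {Q : QuadraticForm F (ι → F)}

attribute [local instance] fintypeSub

theorem small_false {X : Type*} [MulAction ↥(Omega F ⇑Q) X] [Fintype X] [DecidableEq X]
    [Nontrivial X] [MulAction.IsPretransitive ↥(Omega F ⇑Q) X] (H : Base Q)
    (hq : 4 ≤ Fintype.card F) : ¬ Small Q X := by
  intro hs
  obtain ⟨a, b, hab⟩ := exists_hpair H.nd (by have := H.seven; omega)
  have hnf : ∀ {c e : ι → F} (hce : HPair Q c e),
      ∀ B ∈ blocks (X := X) (vact H hce), AV H hce B ≠ ⊥ :=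
    fun hce _ hB => fix_false H hq hce hs hB
  refine line_false (X := X) H hab hnf fun hce B hB => ?_
  rcases classify H hq hce hs hB with h | h | h | h
  · exact absurd h (hnf hce B hB)
  · exact absurd h (top_false H hq hce hs hnf hB)
  · exact h
  · exact absurd h (spec_false H hq hce hs hnf hB)

/-- Proper subgroups of `Ω(Q)` have index at least the number of singular points. -/
theorem omega_index_ge (H : Base Q) (hq : 4 ≤ Fintype.card F) (K : Subgroup ↥(Omega F ⇑Q))
    (hK : K ≠ ⊤) : Nat.card (SPt Q) ≤ K.index := by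
  classical
  haveI := Fintype.ofFinite (↥(Omega F ⇑Q) ⧸ K)
  haveI : Nontrivial (↥(Omega F ⇑Q) ⧸ K) := by
    rw [← Finite.one_lt_card_iff_nontrivial, ← Subgroup.index_eq_card]
    have h0 : K.index ≠ 0 := Subgroup.index_ne_zero_of_finite
    have h1 : K.index ≠ 1 := fun h => hK (Subgroup.index_eq_one.1 h)
    omega
  have h := small_false (X := ↥(Omega F ⇑Q) ⧸ K) H hq
  rw [Small, not_le, ← card_spt Q, ← Nat.card_eq_fintype_card (α := _ ⧸ _),
    ← Subgroup.index_eq_card] at h
  by_contra! hlt
  have := Nat.mul_le_mul_left (Fintype.card F - 1) hlt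
  rw [Nat.mul_succ] at this
  omega

/-- The minimal index of a proper subgroup of `PΩ(Q)`. -/
theorem pomega_min_index (H : Base Q) (hq : 4 ≤ Fintype.card F) :
    (∀ K : Subgroup (POmega F ⇑Q), K ≠ ⊤ → Nat.card (SPt Q) ≤ K.index) ∧
      ∃ K : Subgroup (POmega F ⇑Q), K.index = Nat.card (SPt Q) := by
  have hn : 3 ≤ Fintype.card ι := by have := H.seven; omega
  set π := QuotientGroup.mk' (Subgroup.center ↥(Omega F ⇑Q))
  have hπ : Function.Surjective π := QuotientGroup.mk'_surjective _
  refine ⟨fun K hK => ?_, ?_⟩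
  · rw [← Subgroup.index_comap_of_surjective K hπ]
    exact omega_index_ge H hq _ fun h => hK (by
      rw [← Subgroup.map_comap_eq_self_of_surjective hπ K, h, Subgroup.map_top_of_surjective π hπ])
  · haveI := isPretransitive_spt H.nd hn H.hE
    obtain ⟨a, b, hab⟩ := exists_hpair H.nd hn
    refine ⟨(MulAction.stabilizer ↥(Omega F ⇑Q) (spt a hab.ne_zero hab.qe)).map π, ?_⟩
    rw [Subgroup.index_map_eq _ hπ, MulAction.index_stabilizer_of_transitive]
    intro g hg
    rw [QuotientGroup.ker_mk'] at hg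
    obtain ⟨c, -, hc⟩ := (mem_center_omega_iff H.nd hn H.hE g).1 hg
    exact fix_of_scalar hc _

end Cfsg.Agent.MinIndex
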