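import Cfsg.Agent.Lib.MinIndex.OrthSetup

/-!
# Images of a totally singular subspace under the stabiliser of a pair

* `Exc` : the two small cases `(dim W, dim T) = (5, 2), (6, 3)`
* `stab_images` : the images of `T` under the stabiliser of a point `φ ∈ T`
* `orbit_count` : `(q+1) #{singular ≠ 0} ≤ #images (q^j - 1)`
-/

set_option autoImplicit false
set_option linter.unusedSectionVars false

namespace Cfsg.Agent.MinIndex

open Cfsg Matrix Module Cfsg.Agent.Orth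
open Cfsg.Agent.AutPOmega (NdOn ndOn_cut exists_hpair_in exists_hpair_of_three finrank_perp_eq Base)
open QuadraticMap (polar)

variable {ι : Type} [Fintype ι] [DecidableEq ι] {F : Type*} [Field F] [Fintype F]
variable {Q : QuadraticForm F (ι → F)}

theorem good_of_base (H : Base Q) : Good Q :=
  Good.of_card H.nd (.inr (by have := H.seven; omega))

/-- The two exceptional pairs of dimensions. -/
def Exc (d j : ℕ) : Prop := (d = 5 ∧ j = 2) ∨ (d = 6 ∧ j = 3)

theorem polar_ts {T : Submodule F (ι → F)} (hT : ∀ x ∈ T, Q x = 0) {x y : ι → F} (hx : x ∈ T)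
    (hy : y ∈ T) : polar ⇑Q x y = 0 := by
  simp [polar, hT x hx, hT y hy, hT _ (T.add_mem hx hy)]

theorem ts_bound (H : Base Q) {a b : ι → F} (hab : HPair Q a b) {T : Submodule F (ι → F)}
    (hle : T ≤ perp Q a b) (hT : ∀ x ∈ T, Q x = 0) :
    2 * finrank F T ≤ finrank F (perp Q a b) := by
  have := isotropic_perp_bound H.nd hab T hle fun _ hx _ hy => polar_ts hT hx hy
  have := (finrank_perp_eq H.nd hab).2
  omega

theorem ap_mem_perp {g : IsoGrp Q} {a b x : ι → F} {μ ν : F} (hμ : μ ≠ 0) (hν : ν ≠ 0)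
    (ha : ap g a = μ • a) (hb : ap g b = ν • b) (hx : x ∈ perp Q a b) : ap g x ∈ perp Q a b := by
  obtain ⟨h1, h2⟩ := mem_perp.1 hx
  rw [← polar_ap g, ha, pl_smul_left] at h1
  rw [← polar_ap g, hb, pl_smul_left] at h2
  exact mem_perp.2 ⟨(mul_eq_zero.1 h1).resolve_left hμ, (mul_eq_zero.1 h2).resolve_left hν⟩

theorem map_facts {g : IsoGrp Q} {a b : ι → F} (ha : ap g a = a) (hb : ap g b = b)
    {T : Submodule F (ι → F)} (hle : T ≤ perp Q a b) (hT : ∀ x ∈ T, Q x = 0) :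
    T.map (ap g) ≤ perp Q a b ∧ (∀ x ∈ T.map (ap g), Q x = 0) ∧
      finrank F (T.map (ap g)) = finrank F T := by
  refine ⟨?_, ?_, (Submodule.equivMapOfInjective (ap g) (fun a b h => ap_inj g h) T).finrank_eq.symm⟩
  · rintro _ ⟨x, hx, rfl⟩
    exact ap_mem_perp one_ne_zero one_ne_zero (by rw [one_smul, ha]) (by rw [one_smul, hb]) (hle hx)
  · rintro _ ⟨x, hx, rfl⟩
    rw [Q_ap]; exact hT x hx

theorem finrank_inf_perp {c e : ι → F} (hce : HPair Q c e) {W T : Submodule F (ι → F)} (hle : T ≤ W)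
    (hT : ∀ x ∈ T, Q x = 0) (hc : c ∈ T) :
    finrank F ↥(T ⊓ (W ⊓ perp Q c e)) + 1 = finrank F T := by
  set l : T →ₗ[F] F := (Q.polarBilin e).comp T.subtype
  have hl : LinearMap.range l = ⊤ := by
    rw [LinearMap.range_eq_top]
    intro r
    refine ⟨r • ⟨c, hc⟩, ?_⟩
    show polar ⇑Q e (r • c) = r
    rw [pl_smul_right, hce.swap.pf, mul_one]
  have hk : LinearMap.ker l = (T ⊓ (W ⊓ perp Q c e)).comap T.subtype := by
    ext ⟨x, hx⟩
    simp [l, mem_perp, hle hx, hx, polar_ts hT hc hx]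
  have h1 := LinearMap.finrank_range_add_finrank_ker l
  rw [hl, finrank_top, Module.finrank_self, hk,
    (Submodule.comapSubtypeEquivOfLe (inf_le_left : T ⊓ (W ⊓ perp Q c e) ≤ T)).finrank_eq] at h1
  omega

/-- Subspaces covering the non-zero singular vectors of `U`. -/
theorem cover_count {U : Submodule F (ι → F)} {s : Finset (Submodule F (ι → F))} {k : ℕ}
    (hs : ∀ T ∈ s, finrank F ↥(T ⊓ U) = k) (hcov : ∀ x ∈ U, Q x = 0 → x ≠ 0 → ∃ T ∈ s, x ∈ T) :
    cnt Q U 0 ≤ s.card * (Fintype.card F ^ k - 1) + 1 := by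
  classical
  have h1 : cnt Q U 0 = (Finset.univ.filter fun x => x ∈ U ∧ Q x = 0).card := by
    rw [cnt, Nat.card_eq_fintype_card, Fintype.card_subtype]
  have hT : ∀ T ∈ s, (Finset.univ.filter fun x => x ∈ T ⊓ U ∧ x ≠ 0).card =
      Fintype.card F ^ k - 1 := by
    intro T hT
    rw [← hs T hT, ← card_sub, Nat.card_eq_fintype_card, Fintype.card_subtype,
      ← Finset.card_erase_of_mem (a := (0 : ι → F)) (by simp)]
    congr 1; ext x; simp [and_comm]
  rw [h1]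
  refine le_trans (Finset.card_le_card (t := insert (0 : ι → F)
    (s.biUnion fun T => Finset.univ.filter fun x => x ∈ T ⊓ U ∧ x ≠ 0)) ?_) ?_
  · intro x hx
    obtain ⟨hxU, hQx⟩ := (Finset.mem_filter.1 hx).2
    by_cases h0 : x = 0
    · simp [h0]
    obtain ⟨T, hTs, hxT⟩ := hcov x hxU hQx h0
    exact Finset.mem_insert_of_mem (Finset.mem_biUnion.2 ⟨T, hTs, by simp [hxT, hxU, h0]⟩)
  · refine (Finset.card_insert_le _ _).trans (Nat.succ_le_succ ?_)
    exact Finset.card_biUnion_le.trans (by rw [Finset.sum_congr rfl hT, Finset.sum_const, smul_eq_mul])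

/-- `T'` is the image of `T` under an element of `Ω` fixing `a` and `b`. -/
def Img (Q : QuadraticForm F (ι → F)) (a b : ι → F) (T T' : Submodule F (ι → F)) : Prop :=
  ∃ g : IsoGrp Q, g ∈ Omega F ⇑Q ∧ ap g a = a ∧ ap g b = b ∧ T.map (ap g) = T'

/-- Images of `T` under the stabiliser of `a, b, φ`. -/
theorem stab_images (H : Base Q) (hq3 : 3 ≤ Fintype.card F) {a b : ι → F} (hab : HPair Q a b) {T : Submodule F (ι → F)}
    (hle : T ≤ perp Q a b) (hT : ∀ x ∈ T, Q x = 0) (hj : 2 ≤ finrank F T) {φ : ι → F} (hφ : φ ∈ T)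
    (h0 : φ ≠ 0) :
    ∃ s : Finset (Submodule F (ι → F)),
      (∀ T' ∈ s, ∃ g : IsoGrp Q, g ∈ Omega F ⇑Q ∧ ap g a = a ∧ ap g b = b ∧ ap g φ = φ ∧
        T.map (ap g) = T') ∧ Fintype.card F + 1 ≤ s.card ∧
      (¬ Exc (finrank F (perp Q a b)) (finrank F T) → Fintype.card F + 2 ≤ s.card) := by
  classical
  haveI : Finite (Submodule F (ι → F)) := Finite.of_injective _ SetLike.coe_injective
  haveI := Fintype.ofFinite (Submodule F (ι → F))
  have h7 := H.seven
  obtain ⟨hWnd, hWd⟩ := finrank_perp_eq H.nd hab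
  obtain ⟨φ', hφ', hc⟩ := exists_hpair_in hWnd (hle hφ) (hT φ hφ) h0
  obtain ⟨hUnd, hUd⟩ := ndOn_cut hWnd hc (hle hφ) hφ'
  set W2 := perp Q a b ⊓ perp Q φ φ' with hW2
  have hT2 := finrank_inf_perp hc hle hT hφ
  rw [← hW2] at hT2
  obtain ⟨x, hx, hx0⟩ := (Submodule.ne_bot_iff (T ⊓ W2)).1
    (fun h => by rw [h, finrank_bot] at hT2; omega)
  set s := Finset.univ.filter fun T' => ∃ g : IsoGrp Q, g ∈ Omega F ⇑Q ∧ ap g a = a ∧ ap g b = b ∧
    ap g φ = φ ∧ T.map (ap g) = T'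
  have hmem : ∀ T' ∈ s, finrank F ↥(T' ⊓ W2) = finrank F T - 1 := by
    intro T' hT'
    obtain ⟨g, -, ga, gb, gφ, rfl⟩ := (Finset.mem_filter.1 hT').2
    obtain ⟨k1, k2, k3⟩ := map_facts ga gb hle hT
    have := finrank_inf_perp hc k1 k2 ⟨φ, hφ, gφ⟩
    rw [← hW2] at this
    omega
  have hc1 := cover_count (Q := Q) hmem fun x' hx' hQx' hx0' => by
    obtain ⟨g, hg, ga, gb, gφ, -, t, ht, gx⟩ := exists_fix_point (good_of_base H) h7 hab hc
      (hle hφ) hφ' hx.2 hx' (hT x hx.1) hQx' hx0 hx0'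
    refine ⟨T.map (ap g), Finset.mem_filter.2 ⟨Finset.mem_univ _, g, hg, ga, gb, gφ, rfl⟩, ?_⟩
    exact ⟨t⁻¹ • x, T.smul_mem _ hx.1, by rw [map_smul, gx, inv_smul_smul₀ ht]⟩
  refine ⟨s, fun T' hT' => (Finset.mem_filter.1 hT').2, ?_⟩
  have hb := ts_bound H hab hle hT
  obtain ⟨e, he, f, hf, hef⟩ := exists_hpair_of_three hUnd (by omega)
  obtain ⟨h3nd, h3d⟩ := ndOn_cut hUnd hef he hf
  set q := Fintype.card F
  have hq : 2 ≤ q := Fintype.one_lt_card
  obtain ⟨k, hk⟩ : ∃ k, finrank F T = k + 2 := ⟨finrank F T - 2, by omega⟩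
  rw [hk] at hc1
  rw [show k + 2 - 1 = k + 1 by omega] at hc1
  have hp : ∀ m, 1 ≤ q ^ m := fun m => Nat.one_le_pow _ _ (by omega)
  have key : ¬ Exc (finrank F (perp Q a b)) (finrank F T) → q + 2 ≤ s.card := by
    intro hne
    have hd : k + 4 ≤ finrank F W2 := by
      simp only [Exc, not_or, not_and] at hne
      by_contra
      rcases Nat.lt_or_ge k 1 with hk0 | hk1
      · exact hne.1 (by omega) (by omega)
      · exact hne.2 (by omega) (by omega)
    by_contra! hs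
    rw [cnt_pair hef he hf, card_sub] at hc1
    have h1 := one_le_cnt_zero (Q := Q) (W2 ⊓ perp Q e f)
    have h2 : q ^ (k + 2) ≤ q ^ finrank F ↥(W2 ⊓ perp Q e f) :=
      Nat.pow_le_pow_right (by omega) (by omega)
    have h3 := Nat.mul_le_mul_left (q - 1) h2
    have h4 := Nat.mul_le_mul_left q h1
    have h5 : s.card * (q ^ (k + 1) - 1) ≤ (q + 1) * (q ^ (k + 1) - 1) :=
      Nat.mul_le_mul_right _ (by omega)
    obtain ⟨r, hr⟩ : ∃ r, q = r + 2 := ⟨q - 2, by omega⟩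
    obtain ⟨u, hu⟩ : ∃ u, q ^ (k + 1) = u + 1 := ⟨q ^ (k + 1) - 1, by have := hp (k + 1); omega⟩
    rw [pow_succ q (k + 1), hu, hr] at h3
    rw [hu, Nat.add_sub_cancel] at hc1 h5
    rw [hr] at h4 h5; rw [show Fintype.card F = r + 2 from hr] at hc1
    simp only [show r + 2 - 1 = r + 1 by omega] at h3 hc1
    have h6 : r + 3 ≤ (r + 1) * (r + 2) := by
      have : 1 ≤ r := by omega
      nlinarith
    have := Nat.mul_le_mul_left u h6
    nlinarith
  refine ⟨?_, key⟩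
  by_cases hne : Exc (finrank F (perp Q a b)) (finrank F T)
  swap; · exact le_trans (Nat.le_succ _) (key hne)
  obtain ⟨r, hr⟩ : ∃ r, q = r + 2 := ⟨q - 2, by omega⟩
  rcases hne with ⟨hd, hj'⟩ | ⟨hd, hj'⟩
  · obtain rfl : k = 0 := by omega
    rw [cnt_pair hef he hf, card_sub, cnt_zero_one h3nd (by omega),
      show finrank F ↥(W2 ⊓ perp Q e f) = 1 by omega] at hc1
    change (q - 1) * q ^ 1 + q * 1 ≤ s.card * (q ^ (0 + 1) - 1) + 1 at hc1
    rw [hr] at hc1 ⊢
    simp only [show r + 2 - 1 = r + 1 by omega, zero_add, pow_one] at hc1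
    nlinarith
  · obtain rfl : k = 1 := by omega
    obtain ⟨z, hz, hxz⟩ := exists_hpair_in hUnd hx.2 (hT x hx.1) hx0
    obtain ⟨h4nd, h4d⟩ := ndOn_cut hUnd hxz hx.2 hz
    have hle' : T ⊓ W2 ≤ W2 := inf_le_right
    have hTW : ∀ y ∈ T ⊓ W2, Q y = 0 := fun y hy => hT y hy.1
    have hT3 := finrank_inf_perp hxz hle' hTW hx
    obtain ⟨v, hv, hv0⟩ := (Submodule.ne_bot_iff ((T ⊓ W2) ⊓ (W2 ⊓ perp Q x z))).1
      (fun h => by rw [h, finrank_bot] at hT3; omega)
    obtain ⟨w, hw, hvw⟩ := exists_hpair_in h4nd hv.2 (hTW v hv.1) hv0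
    obtain ⟨h5nd, h5d⟩ := ndOn_cut h4nd hvw hv.2 hw
    rw [cnt_pair hxz hx.2 hz, card_sub, cnt_pair hvw hv.2 hw, card_sub,
      cnt_zero_one h5nd (by omega),
      show finrank F ↥(W2 ⊓ perp Q x z) = 2 by omega,
      show finrank F ↥(W2 ⊓ perp Q x z ⊓ perp Q v w) = 0 by omega] at hc1
    change (q - 1) * q ^ 2 + q * ((q - 1) * q ^ 0 + q * 1) ≤ s.card * (q ^ (1 + 1) - 1) + 1 at hc1
    by_contra! hs
    rw [hr] at hc1 hs
    simp only [show r + 2 - 1 = r + 1 by omega] at hc1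
    obtain ⟨u, hu⟩ : ∃ u, (r + 2) ^ (1 + 1) = u + 1 := ⟨(r + 2) ^ (1 + 1) - 1, by
      have : 1 ≤ (r + 2) ^ (1 + 1) := Nat.one_le_pow _ _ (by omega)
      omega⟩
    rw [hu, Nat.add_sub_cancel] at hc1
    have h6 : s.card * u ≤ (r + 2) * u := Nat.mul_le_mul_right _ (by omega)
    norm_num at hu hc1
    nlinarith

/-- The orbit of `T` under the stabiliser of the pair. -/
theorem orbit_count (H : Base Q) (hq3 : 3 ≤ Fintype.card F) {a b : ι → F} (hab : HPair Q a b) {T : Submodule F (ι → F)}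
    (hle : T ≤ perp Q a b) (hT : ∀ x ∈ T, Q x = 0) (hj : 2 ≤ finrank F T) :
    ∃ s : Finset (Submodule F (ι → F)), (∀ T' ∈ s, Img Q a b T T') ∧
      (Fintype.card F + 1) * (cnt Q (perp Q a b) 0 - 1) ≤
        s.card * (Fintype.card F ^ finrank F T - 1) := by
  classical
  haveI : Finite (Submodule F (ι → F)) := Finite.of_injective _ SetLike.coe_injective
  haveI := Fintype.ofFinite (Submodule F (ι → F))
  set s := Finset.univ.filter fun T' => Img Q a b T T'
  refine ⟨s, fun T' hT' => (Finset.mem_filter.1 hT').2, ?_⟩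
  obtain ⟨φ0, hφ0, hφ00⟩ := (Submodule.ne_bot_iff T).1 fun h => by
    rw [h, finrank_bot] at hj; omega
  obtain ⟨s0, hs0, hs0c, -⟩ := stab_images H hq3 hab hle hT hj hφ0 hφ00
  set Z := Finset.univ.filter fun x : ι → F => x ∈ perp Q a b ∧ Q x = 0 ∧ x ≠ 0 with hZ
  have hZc : cnt Q (perp Q a b) 0 - 1 = Z.card := by
    rw [cnt, Nat.card_eq_fintype_card, Fintype.card_subtype,
      ← Finset.card_erase_of_mem (a := (0 : ι → F)) (by simp)]
    congr 1; ext x; simp [hZ]; tauto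
  rw [hZc]
  have h1 : Z.card * (Fintype.card F + 1) ≤ ∑ T' ∈ s, (Z.filter fun x => x ∈ T').card := by
    rw [Finset.sum_congr rfl fun T' _ => Finset.card_filter (fun x => x ∈ T') Z, Finset.sum_comm,
      ← smul_eq_mul]
    refine Finset.card_nsmul_le_sum _ _ _ fun x hx => ?_
    rw [← Finset.card_filter]
    obtain ⟨hxW, hQx, hx0⟩ := (Finset.mem_filter.1 hx).2
    obtain ⟨g, hg, ga, gb, gφ⟩ := exists_fix_omega (good_of_base H) H.seven hab (hle hφ0) hxW hφ00
      hx0 (by rw [hT φ0 hφ0, hQx])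
    refine hs0c.trans (Finset.card_le_card_of_injOn (fun T' => T'.map (ap g)) ?_ ?_)
    · intro T' hT'
      obtain ⟨g', hg', ga', gb', gφ', rfl⟩ := hs0 T' hT'
      refine Finset.mem_filter.2 ⟨Finset.mem_filter.2 ⟨Finset.mem_univ _, g * g', mul_mem hg hg',
        by rw [ap_mul, ga', ga], by rw [ap_mul, gb', gb], OrthAct.map_ap_mul _ _ _⟩, ?_⟩
      exact ⟨φ0, ⟨φ0, hφ0, gφ'⟩, gφ⟩
    · exact fun T1 _ T2 _ h => Submodule.map_injective_of_injective (fun a b h => ap_inj g h) h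
  have h2 : ∀ T' ∈ s, (Z.filter fun x => x ∈ T').card ≤ Fintype.card F ^ finrank F T - 1 := by
    intro T' hT'
    obtain ⟨g, -, ga, gb, rfl⟩ := (Finset.mem_filter.1 hT').2
    rw [← (map_facts ga gb hle hT).2.2, ← card_sub, Nat.card_eq_fintype_card, Fintype.card_subtype,
      ← Finset.card_erase_of_mem (a := (0 : ι → F)) (Finset.mem_filter.2 ⟨Finset.mem_univ _, zero_mem _⟩)]
    refine Finset.card_le_card fun x hx => ?_
    obtain ⟨hxZ, hxT⟩ := Finset.mem_filter.1 hx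
    obtain ⟨-, -, hx0⟩ := (Finset.mem_filter.1 hxZ).2
    exact Finset.mem_erase.2 ⟨hx0, Finset.mem_filter.2 ⟨Finset.mem_univ _, hxT⟩⟩
  calc (Fintype.card F + 1) * Z.card = Z.card * (Fintype.card F + 1) := mul_comm _ _
    _ ≤ _ := h1
    _ ≤ _ := (Finset.sum_le_sum h2).trans (by rw [Finset.sum_const, smul_eq_mul])

end Cfsg.Agent.MinIndex
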