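import Cfsg.Agent.Lib.MinIndex.OrthGlobal
import Cfsg.Agent.Lib.Forms.Count
import Cfsg.Agent.Lib.Orth.Models

/-!
# Numbers of singular points of the standard forms
-/

set_option autoImplicit false
set_option linter.unusedSectionVars false

namespace Cfsg.Agent.MinIndex

open Cfsg Cfsg.Agent Matrix Module Cfsg.Agent.Orth

variable {F : Type*} [Field F] [Fintype F]

theorem cnt_top_eq {ι : Type} [Fintype ι] [DecidableEq ι] (Q : QuadraticForm F (ι → F))
    (f : (ι → F) → F) (h : ⇑Q = f) : cnt Q ⊤ 0 = Nat.card {v : ι → F // f v = 0} := by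
  subst h
  exact Nat.card_congr (Equiv.subtypeEquivRight fun v => by simp)

theorem spt_quadOdd (m : ℕ) :
    Nat.card (SPt (quadOdd m F)) = (Fintype.card F ^ (2 * m) - 1) / (Fintype.card F - 1) := by
  have h := card_spt (quadOdd m F)
  rw [cnt_top_eq (quadOdd m F) (quadFormOdd m F) (coe_quadOdd m)] at h
  have h' := Forms.card_zeros_qfOdd (F := F) m
  simp only [Forms.qfOdd_apply] at h'
  rw [h', Nat.card_eq_fintype_card (α := F)] at h
  rw [← h, Nat.add_sub_cancel, Nat.mul_div_cancel_left _ (by have := Fintype.one_lt_card (α := F); omega)]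

theorem spt_quadPlus (m : ℕ) (hm : 1 ≤ m) :
    Nat.card (SPt (quadPlus m F)) =
      (Fintype.card F ^ m - 1) * (Fintype.card F ^ (m - 1) + 1) / (Fintype.card F - 1) := by
  obtain ⟨k, rfl⟩ : ∃ k, m = k + 1 := ⟨m - 1, by omega⟩
  have h := card_spt (quadPlus (k + 1) F)
  rw [cnt_top_eq (quadPlus (k + 1) F) (quadFormPlus (k + 1) F) (coe_quadPlus _)] at h
  have h' := Forms.card_zeros_qfPlus (F := F) k
  simp only [Forms.qfPlus_apply] at h'
  rw [← h, Nat.card_eq_fintype_card (α := F)] at h'
  have hq1 : 1 ≤ Fintype.card F := Fintype.card_pos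
  have hp : 1 ≤ Fintype.card F ^ (k + 1) := Nat.one_le_pow _ _ hq1
  have e : (Fintype.card F ^ (k + 1) - 1) * (Fintype.card F ^ k + 1) =
      (Fintype.card F - 1) * Nat.card (SPt (quadPlus (k + 1) F)) := by
    have h2 : (((Fintype.card F ^ (k + 1) - 1) * (Fintype.card F ^ k + 1) : ℕ) : ℤ) =
        (((Fintype.card F - 1) * Nat.card (SPt (quadPlus (k + 1) F)) : ℕ) : ℤ) := by
      push_cast [hp, hq1] at h' ⊢
      linear_combination -h'
    exact_mod_cast h2
  rw [Nat.add_sub_cancel, e, Nat.mul_div_cancel_left _ (by have := Fintype.one_lt_card (α := F); omega)]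

theorem spt_quadMinus (k : ℕ) {a b : F} (hab : Aniso a b) :
    Nat.card (SPt (quadMinus k F a b)) =
      (Fintype.card F ^ (k + 1) + 1) * (Fintype.card F ^ k - 1) / (Fintype.card F - 1) := by
  have h := card_spt (quadMinus k F a b)
  rw [cnt_top_eq (quadMinus k F a b) (quadFormMinus k F a b) (coe_quadMinus _ _ _)] at h
  have h' := Forms.card_zeros_qfMinus (F := F) hab k
  simp only [Forms.qfMinus_apply] at h'
  rw [← h, Nat.card_eq_fintype_card (α := F)] at h'
  have hq1 : 1 ≤ Fintype.card F := Fintype.card_pos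
  have hp : 1 ≤ Fintype.card F ^ k := Nat.one_le_pow _ _ hq1
  have e : (Fintype.card F ^ (k + 1) + 1) * (Fintype.card F ^ k - 1) =
      (Fintype.card F - 1) * Nat.card (SPt (quadMinus k F a b)) := by
    have h2 : (((Fintype.card F ^ (k + 1) + 1) * (Fintype.card F ^ k - 1) : ℕ) : ℤ) =
        (((Fintype.card F - 1) * Nat.card (SPt (quadMinus k F a b)) : ℕ) : ℤ) := by
      push_cast [hp, hq1] at h' ⊢
      linear_combination -h'
    exact_mod_cast h2
  rw [e, Nat.mul_div_cancel_left _ (by have := Fintype.one_lt_card (α := F); omega)]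

end Cfsg.Agent.MinIndex
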