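import Cfsg.Agent.Lib.MinIndex.OrthClassify

/-!
# Moving pairs, and points fixed by Levi complements

* `AV_move`, `spanA_move`, `spec_move`, `top_move` : elements of `Ω` moving one pair to another
* `fix_point` : a block stabilised by a central scalar has a point fixed by the block stabiliser
-/

set_option autoImplicit false
set_option linter.unusedSectionVars false

namespace Cfsg.Agent.MinIndex

open Cfsg Matrix Module Cfsg.Agent.Orth
open Cfsg.Agent.AutPOmega (NdOn finrank_perp_eq Base)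
open QuadraticMap (polar)
open scoped Pointwise

variable {ι : Type} [Fintype ι] [DecidableEq ι] {F : Type*} [Field F] [Fintype F]
variable {Q : QuadraticForm F (ι → F)} {a b c e : ι → F}
variable {X : Type*} [MulAction ↥(Omega F ⇑Q) X] [Fintype X] [DecidableEq X]

attribute [local instance] fintypeSub

theorem conj_el (H : Base Q) (g : ↥(Omega F ⇑Q)) (u w : ι → F) :
    g * el H u w * g⁻¹ = el H (ap (g : IsoGrp Q) u) (ap (g : IsoGrp Q) w) :=
  Subtype.ext (conj_eich _ u w)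

theorem el_smul_iff (H : Base Q) (g : ↥(Omega F ⇑Q)) (u w : ι → F) (x : X) :
    el H (ap (g : IsoGrp Q) u) (ap (g : IsoGrp Q) w) • g • x = g • x ↔ el H u w • x = x := by
  rw [← conj_el, ← mul_smul, mul_assoc, inv_mul_cancel, mul_one, mul_smul, smul_left_cancel_iff]

theorem el_smul_left (H : Base Q) (u w : ι → F) (k : F) : el H (k • u) w = el H u (k • w) :=
  Subtype.ext (eich_smul_left u w k)

theorem inv_fix {g : ↥(Omega F ⇑Q)} (ha : ap (g : IsoGrp Q) a = c) :
    ap ((g⁻¹ : ↥(Omega F ⇑Q)) : IsoGrp Q) c = a := by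
  rw [← ha]; exact ap_inv_ap _ a

theorem ap_inv' (g : ↥(Omega F ⇑Q)) (x : ι → F) :
    ap (g : IsoGrp Q) (ap ((g⁻¹ : ↥(Omega F ⇑Q)) : IsoGrp Q) x) = x := ap_ap_inv _ x

theorem move_mem {g : ↥(Omega F ⇑Q)} (ha : ap (g : IsoGrp Q) a = c) (hb : ap (g : IsoGrp Q) b = e)
    {w : ι → F} (hw : w ∈ perp Q a b) : ap (g : IsoGrp Q) w ∈ perp Q c e := by
  obtain ⟨h1, h2⟩ := mem_perp.1 hw
  exact mem_perp.2 ⟨by rw [← ha, polar_ap, h1], by rw [← hb, polar_ap, h2]⟩

/-- Moving a block. -/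
theorem move_blocks (H : Base Q) (hab : HPair Q a b) (hce : HPair Q c e) {g : ↥(Omega F ⇑Q)}
    (ha : ap (g : IsoGrp Q) a = c) (hb : ap (g : IsoGrp Q) b = e) (x : X) :
    g • orb (vact H hab) x = orb (vact H hce) (g • x) := by
  ext y
  simp only [Finset.mem_smul_finset, mem_orb]
  constructor
  · rintro ⟨z, ⟨w, rfl⟩, rfl⟩
    refine ⟨⟨_, move_mem ha hb w.2⟩, ?_⟩
    show el H c (ap (g : IsoGrp Q) w) • g • x = _
    rw [← ha, ← conj_el, ← mul_smul, mul_assoc, inv_mul_cancel, mul_one, mul_smul]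
    rfl
  · rintro ⟨w, rfl⟩
    refine ⟨_, ⟨⟨_, move_mem (inv_fix ha) (inv_fix hb) w.2⟩, rfl⟩, ?_⟩
    show g • el H a (ap ((g⁻¹ : ↥(Omega F ⇑Q)) : IsoGrp Q) w) • x = el H c w • g • x
    have h1 : el H c (w : ι → F) =
        g * el H a (ap ((g⁻¹ : ↥(Omega F ⇑Q)) : IsoGrp Q) w) * g⁻¹ := by
      rw [conj_el, ha, ap_inv']
    rw [h1, ← mul_smul, ← mul_smul, inv_mul_cancel_right]

theorem move_mem_blocks (H : Base Q) (hab : HPair Q a b) (hce : HPair Q c e) {g : ↥(Omega F ⇑Q)}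
    (ha : ap (g : IsoGrp Q) a = c) (hb : ap (g : IsoGrp Q) b = e) {B : Finset X}
    (hB : B ∈ blocks (vact H hab)) : g • B ∈ blocks (vact H hce) := by
  obtain ⟨x, rfl⟩ := (mem_blocks _).1 hB
  exact (mem_blocks _).2 ⟨g • x, (move_blocks H hab hce ha hb x).symm⟩

theorem AV_move (H : Base Q) (hab : HPair Q a b) (hce : HPair Q c e) {g : ↥(Omega F ⇑Q)}
    (ha : ap (g : IsoGrp Q) a = c) (hb : ap (g : IsoGrp Q) b = e) {B : Finset X}
    (hB : B ∈ blocks (vact H hab)) {v : ι → F} (hv : v ∈ AV H hab B) :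
    ap (g : IsoGrp Q) v ∈ AV H hce (g • B) := by
  obtain ⟨x, rfl⟩ := (mem_blocks _).1 hB
  obtain ⟨h, h'⟩ := mem_AV.1 hv
  rw [Ab_orb, mem_ann] at h'
  refine mem_AV.2 ⟨move_mem ha hb h, ?_⟩
  rw [move_blocks H hab hce ha hb x, Ab_orb, mem_ann]
  intro w hw
  have hm := move_mem (inv_fix ha) (inv_fix hb) w.2
  have := h' ⟨_, hm⟩ (by
    show el H a _ • x = x
    rw [← el_smul_iff H g, ha, ap_inv']
    exact hw)
  rw [vact_B] at this ⊢
  rwa [← polar_ap (g : IsoGrp Q), ap_inv'] at this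

theorem spanA_move (H : Base Q) (hab : HPair Q a b) (hce : HPair Q c e) {g : ↥(Omega F ⇑Q)}
    (ha : ap (g : IsoGrp Q) a = c) (hb : ap (g : IsoGrp Q) b = e) {B : Finset X}
    (hB : B ∈ blocks (vact H hab)) :
    spanA H hce (g • B) = (spanA H hab B).map (ap (g : IsoGrp Q)) := by
  refine le_antisymm (Submodule.span_le.2 fun v hv => ?_) ?_
  · have h1 := AV_move H hce hab (inv_fix ha) (inv_fix hb) (move_mem_blocks H hab hce ha hb hB) hv
    rw [inv_smul_smul] at h1
    exact ⟨_, Submodule.subset_span h1, ap_ap_inv _ v⟩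
  · rw [spanA, Submodule.map_span, Submodule.span_le]
    rintro _ ⟨v, hv, rfl⟩
    exact Submodule.subset_span (AV_move H hab hce ha hb hB hv)

theorem spec_move (H : Base Q) (hab : HPair Q a b) (hce : HPair Q c e) {g : ↥(Omega F ⇑Q)}
    (ha : ap (g : IsoGrp Q) a = c) (hb : ap (g : IsoGrp Q) b = e) {B : Finset X}
    (hB : B ∈ blocks (vact H hab)) (h : Spec H hab B) : Spec H hce (g • B) := by
  rw [Spec, spanA_move H hab hce ha hb hB,
    ← (Submodule.equivMapOfInjective (ap (g : IsoGrp Q)) (fun _ _ h => ap_inj _ h) _).finrank_eq]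
  refine ⟨?_, ?_⟩
  · rintro _ ⟨v, hv, rfl⟩
    rw [Q_ap]; exact h.1 v hv
  · have h1 := (finrank_perp_eq H.nd hab).2
    have h2 := (finrank_perp_eq H.nd hce).2
    rw [show finrank F (perp Q c e) = finrank F (perp Q a b) by omega]
    exact h.2

theorem top_move (H : Base Q) (hab : HPair Q a b) (hce : HPair Q c e) {g : ↥(Omega F ⇑Q)}
    (ha : ap (g : IsoGrp Q) a = c) (hb : ap (g : IsoGrp Q) b = e) {B : Finset X}
    (hB : B ∈ blocks (vact H hab)) (h : Top H hab B) : Top H hce (g • B) := fun w hw => by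
  have := AV_move H hab hce ha hb hB (h _ (move_mem (inv_fix ha) (inv_fix hb) hw))
  rwa [ap_inv'] at this

theorem exists_scalar (hq : 4 ≤ Fintype.card F) : ∃ μ : F, μ ≠ 0 ∧ μ ≠ 1 ∧ IsSquare μ := by
  classical
  obtain ⟨s, -, hs⟩ := Finset.exists_mem_notMem_of_card_lt_card
    (s := ({0, 1, -1} : Finset F)) (t := Finset.univ)
    (lt_of_le_of_lt Finset.card_le_three (by rw [Finset.card_univ]; omega))
  simp only [Finset.mem_insert, Finset.mem_singleton, not_or] at hs
  exact ⟨s * s, mul_ne_zero hs.1 hs.1,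
    fun h => (mul_self_eq_one_iff.1 h).elim hs.2.1 hs.2.2, s, rfl⟩

/-- A point of a block fixed by every element of the block stabiliser fixing the pair. -/
theorem fix_point (H : Base Q) (hab : HPair Q a b) {B : Finset X} (hB : B ∈ blocks (vact H hab))
    {μ : F} (hμ1 : μ ≠ 1) {z : ↥(Omega F ⇑Q)} (hz : Lev z a b μ)
    (hzW : ∀ v ∈ perp Q a b, ap (z : IsoGrp Q) v = v) (hzB : z • B = B) :
    ∃ x ∈ B, ∀ g : ↥(Omega F ⇑Q), ap (g : IsoGrp Q) a = a → ap (g : IsoGrp Q) b = b →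
      g • B = B → g • x = x := by
  set D := vact H hab with hD
  have hconj : ∀ (w : ↥(perp Q a b)) (y : X), z • D.e w • y = D.e (μ • w) • z • y := fun w y => by
    show z • el H a w • y = el H a ((μ • w : ↥(perp Q a b)) : ι → F) • z • y
    conv_rhs => rw [Submodule.coe_smul, ← el_smul_left, ← hz.left, ← hzW _ w.2, ← conj_el,
      ← mul_smul, mul_assoc, inv_mul_cancel, mul_one, mul_smul]
  obtain ⟨x0, hx0⟩ := (mem_blocks _).1 hB
  obtain ⟨v, hv⟩ := (mem_orb D).1 (show z • x0 ∈ orb D x0 by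
    rw [hx0, ← hzB]; exact Finset.smul_mem_smul_finset (hx0 ▸ self_mem_orb D x0))
  set y : ↥(perp Q a b) := (-(μ - 1)⁻¹) • v with hy
  have hxB : D.e y • x0 ∈ B := hx0 ▸ (mem_orb D).2 ⟨y, rfl⟩
  have hzx : z • D.e y • x0 = D.e y • x0 := by
    rw [hconj, ← hv, ← mul_smul, ← D.add]
    congr 2
    have h1 : μ - 1 ≠ 0 := sub_ne_zero.2 hμ1
    rw [hy]
    match_scalars
    field_simp
    ring
  refine ⟨_, hxB, fun g ga gb hgB => ?_⟩
  set x := D.e y • x0 with hx
  have hox : orb D x = B := orb_of_mem hB hxB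
  obtain ⟨w, hw⟩ := (mem_orb D).1 (show g • x ∈ orb D x by
    rw [hox]
    have := Finset.smul_mem_smul_finset (a := g) hxB
    rwa [hgB] at this)
  -- `g` commutes with `z`
  have hcomm : z * g = g * z := by
    refine Subtype.ext (ext_ap fun u => ?_)
    show ap ((z : IsoGrp Q) * (g : IsoGrp Q)) u = ap ((g : IsoGrp Q) * (z : IsoGrp Q)) u
    have hWm : ∀ u ∈ perp Q a b, ap (g : IsoGrp Q) u ∈ perp Q a b := fun u hu => move_mem ga gb hu
    conv_lhs => rw [decomp (Q := Q) a b u]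
    conv_rhs => rw [decomp (Q := Q) a b u]
    simp only [ap_mul, map_add, map_smul, ga, gb, hz.left, hz.right, hzW _ (hab.wPart_mem u),
      hzW _ (hWm _ (hab.wPart_mem u))]
  have hzg : z • g • x = g • x := by rw [← mul_smul, hcomm, mul_smul, hzx]
  rw [← hw, hconj, hzx] at hzg
  -- `(μ - 1) w` fixes `x`; scalars preserve the stabiliser
  have hR : ∀ u ∈ stabW D x, μ • u ∈ stabW D x := fun u hu => by
    have := hconj u x
    rw [(mem_stabW D).1 hu, hzx] at this
    exact this.symm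
  have hdiff : μ • w - w ∈ stabW D x := by
    rw [mem_stabW, sub_eq_add_neg, add_comm, D.add, mul_smul, hzg, D.neg, inv_smul_smul]
  let f : stabW D x → stabW D x := fun u => ⟨μ • u.1 - u.1, sub_mem (hR _ u.2) u.2⟩
  have hf : Function.Injective f := fun u u' huu => Subtype.ext <| by
    have h1 : (μ - 1) • (u.1 : ↥(perp Q a b)) = (μ - 1) • u'.1 := by
      have h2 : μ • u.1 - u.1 = μ • u'.1 - u'.1 := congrArg Subtype.val huu
      linear_combination (norm := module) h2
    exact smul_right_injective _ (sub_ne_zero.2 hμ1) h1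
  obtain ⟨⟨u, hu⟩, hfu⟩ := Finite.injective_iff_surjective.1 hf ⟨_, hdiff⟩
  have h1 : (μ - 1) • u = (μ - 1) • w := by
    have h2 : μ • u - u = μ • w - w := congrArg Subtype.val hfu
    linear_combination (norm := module) h2
  rw [← hw, ← smul_right_injective _ (sub_ne_zero.2 hμ1) h1]
  exact (mem_stabW D).1 hu

end Cfsg.Agent.MinIndex
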