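import Cfsg.Agent.Lib.MinIndex.Blocks
import Cfsg.Agent.Lib.AutPOmega.Basic
import Cfsg.Agent.Lib.Forms.Classify

/-!
# The point stabiliser of `Ω(Q)` on the cosets of a subgroup

For a hyperbolic pair `a, b` with orthogonal `W`:
* `exists_pair_orth_vec`, `exists_singular_sep` : pairs and separating singular vectors in `W`
* `exists_pair_omega`, `exists_fix_omega`, `exists_fix_point` : transitivity of `Ω` on pairs, on
  vectors of a given norm orthogonal to a pair, on singular points orthogonal to two pairs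
* `cnt`, `cnt_pair`, `cnt_zero_le`, `le_cnt_zero` : numbers of vectors of a given norm
* `class_le_card` : lower bound for a set of vectors with given non-zero norms
-/

set_option autoImplicit false
set_option linter.unusedSectionVars false
set_option linter.unusedSimpArgs false

namespace Cfsg.Agent.MinIndex

open Cfsg Matrix Module Cfsg.Agent.Orth
open Cfsg.Agent.AutPOmega (NdOn ndOn_top ndOn_cut exists_hpair_in exists_hpair_of_three finrank_perp_eq)
open QuadraticMap (polar)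

variable {ι : Type} [Fintype ι] [DecidableEq ι] {F : Type*} [Field F] [Fintype F]
variable {Q : QuadraticForm F (ι → F)} {W : Submodule F (ι → F)}

/-! ### Pairs and separating vectors -/

/-- A hyperbolic pair orthogonal to a given vector. -/
theorem exists_pair_orth_vec (hW : NdOn Q W) (h5 : 5 ≤ finrank F W) {φ : ι → F} (hφ : φ ∈ W) :
    ∃ e ∈ W, ∃ f ∈ W, HPair Q e f ∧ polar ⇑Q φ e = 0 ∧ polar ⇑Q φ f = 0 := by
  by_cases hQ : Q φ = 0
  · by_cases h0 : φ = 0
    · obtain ⟨e, he, f, hf, h⟩ := exists_hpair_of_three hW (by omega)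
      exact ⟨e, he, f, hf, h, by rw [h0, pl_zero_left], by rw [h0, pl_zero_left]⟩
    obtain ⟨φ', hφ', h⟩ := exists_hpair_in hW hφ hQ h0
    obtain ⟨h1, h2⟩ := ndOn_cut hW h hφ hφ'
    obtain ⟨e, he, f, hf, h'⟩ := exists_hpair_of_three h1 (by omega)
    exact ⟨e, he.1, f, hf.1, h', (mem_perp.1 he.2).1, (mem_perp.1 hf.2).1⟩
  set S := W ⊓ LinearMap.ker (Q.polarBilin φ) with hS
  have h3 : 3 ≤ finrank F S := by
    have e1 := Submodule.finrank_sup_add_finrank_inf_eq W (LinearMap.ker (Q.polarBilin φ))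
    have e2 := Submodule.finrank_le (W ⊔ LinearMap.ker (Q.polarBilin φ))
    have e3 := LinearMap.finrank_range_add_finrank_ker (Q.polarBilin φ)
    have e4 := Submodule.finrank_le (LinearMap.range (Q.polarBilin φ))
    rw [finrank_space] at e2 e3
    rw [Module.finrank_self] at e4
    rw [← hS] at e1
    omega
  obtain ⟨⟨e, he⟩, he0, hQe⟩ := Forms.exists_singular_of_three_le (Q.comp S.subtype) h3
  change Q e = 0 at hQe
  have he0' : e ≠ 0 := fun h => he0 (Subtype.ext h)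
  have hne : e ∉ (F ∙ φ) := by
    intro h
    obtain ⟨c, rfl⟩ := Submodule.mem_span_singleton.1 h
    rw [Q_smul] at hQe
    rcases mul_eq_zero.1 hQe with h' | h'
    · exact he0' (by rw [mul_self_eq_zero.1 h', zero_smul])
    · exact hQ h'
  obtain ⟨y, hy, hy1, hy2⟩ := exists_sep hW he.1 hφ (fun h => hQ (by simp [h])) hne
  set y' := (polar ⇑Q e y)⁻¹ • y
  have hey : polar ⇑Q e y' = 1 := by rw [pl_smul_right, inv_mul_cancel₀ hy2]
  have heφ : polar ⇑Q φ e = 0 := he.2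
  refine ⟨e, he.1, y' - Q y' • e, sub_mem (W.smul_mem _ hy) (W.smul_mem _ he.1),
    ⟨hQe, ?_, ?_⟩, heφ, ?_⟩
  · rw [Q_sub, Q_smul Q (Q y') e, pl_smul_right, hQe, pl_comm Q y' e, hey]; ring
  · rw [pl_sub_right, hey, pl_smul_right, pl_self, hQe]; ring
  · rw [pl_sub_right, pl_smul_right, pl_smul_right, hy1, heφ]; ring

/-- A singular vector orthogonal to `φ` but not to `φ'`. -/
theorem exists_singular_sep (hW : NdOn Q W) (h5 : 5 ≤ finrank F W) {φ φ' : ι → F} (hφ : φ ∈ W)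
    (h0 : φ ≠ 0) (hφ' : φ' ∈ W) (hne : φ' ∉ (F ∙ φ)) :
    ∃ x ∈ W, Q x = 0 ∧ polar ⇑Q φ x = 0 ∧ polar ⇑Q φ' x ≠ 0 := by
  obtain ⟨e, he, f, hf, h, h1, h2⟩ := exists_pair_orth_vec hW h5 hφ
  by_cases h3 : polar ⇑Q φ' e = 0
  swap; · exact ⟨e, he, h.qe, h1, h3⟩
  by_cases h4 : polar ⇑Q φ' f = 0
  swap; · exact ⟨f, hf, h.qf, h2, h4⟩
  obtain ⟨y, hy, hy1, hy2⟩ := exists_sep hW hφ' hφ h0 hne
  set y' := wPart Q e f y
  have hy'W : y' ∈ W := sub_mem (sub_mem hy (W.smul_mem _ he)) (W.smul_mem _ hf)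
  obtain ⟨he', hf'⟩ := mem_perp.1 (h.wPart_mem y)
  have k1 : polar ⇑Q φ y' = 0 := by
    simp only [y', wPart, pl_sub_right, pl_smul_right, h1, h2, hy1]; ring
  have k2 : polar ⇑Q φ' y' = polar ⇑Q φ' y := by
    simp only [y', wPart, pl_sub_right, pl_smul_right, h3, h4]; ring
  refine ⟨(1 : F) • e + (-Q y') • f + y', add_mem (add_mem (W.smul_mem _ he) (W.smul_mem _ hf)) hy'W,
    ?_, ?_, ?_⟩
  · rw [h.Q_comb (h.wPart_mem y)]; ring
  · simp only [pl_add_right, pl_smul_right, h1, h2, k1]; ring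
  · simpa [pl_add_right, pl_smul_right, h3, h4, k2] using hy2

/-! ### Transitivity -/

/-- A family with a dual family is independent. -/
theorem li_of_dual {k : ℕ} {v u : Fin k → ι → F}
    (h : ∀ i j, polar ⇑Q (u i) (v j) = if i = j then 1 else 0) : LinearIndependent F v := by
  rw [Fintype.linearIndependent_iff]
  intro c hc i
  have := congrArg (Q.polarBilin (u i)) hc
  simpa [h] using this

/-- Independent families with the same Gram data correspond under an isometry. -/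
theorem exists_iso_vec (hQ : Q.polarBilin.Nondegenerate) {k : ℕ} {v v' : Fin k → ι → F}
    (hv : LinearIndependent F v) (hv' : LinearIndependent F v') (hQv : ∀ i, Q (v i) = Q (v' i))
    (hp : ∀ i j, polar ⇑Q (v i) (v j) = polar ⇑Q (v' i) (v' j)) :
    ∃ g : IsoGrp Q, ∀ i, ap g (v i) = v' i := by
  classical
  have hsum : ∀ (s : Finset (Fin k)) (c : Fin k → F),
      Q (∑ i ∈ s, c i • v i) = Q (∑ i ∈ s, c i • v' i) := by
    intro s c
    induction s using Finset.induction_on with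
    | empty => simp
    | @insert a s ha ih =>
      rw [Finset.sum_insert ha, Finset.sum_insert ha, Q_add, Q_add, Q_smul, Q_smul, hQv, ih]
      show _ + _ + Q.polarBilin (c a • v a) (∑ i ∈ s, c i • v i) =
        _ + _ + Q.polarBilin (c a • v' a) (∑ i ∈ s, c i • v' i)
      simp only [map_sum, map_smul, LinearMap.smul_apply, QuadraticMap.polarBilin_apply_apply, hp]
  set φ := (Basis.span hv).equiv (Basis.span hv') (Equiv.refl (Fin k)) with hφ
  have hφv : ∀ i, (φ (Basis.span hv i) : ι → F) = v' i := fun i => by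
    rw [hφ, Basis.equiv_apply, Equiv.refl_apply, Basis.coe_span_apply]
  have hval : ∀ x, Q (φ x : ι → F) = Q (x : ι → F) := fun x => by
    conv_lhs => rw [← (Basis.span hv).sum_repr x]
    conv_rhs => rw [← (Basis.span hv).sum_repr x]
    rw [map_sum]
    push_cast
    simp only [map_smul, Submodule.coe_smul, hφv, Basis.coe_span_apply]
    exact (hsum _ _).symm
  obtain ⟨g, hg, -⟩ := OrthAct.exists_iso_map hQ φ hval
  exact ⟨g, fun i => by
    have := hg (Basis.span hv i)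
    rwa [hφv, Basis.coe_span_apply] at this⟩

/-- A signed product of reflections in a hyperbolic plane. -/
theorem exists_signs (hG : Good Q) (g : IsoGrp Q) {e f : ι → F} (h : HPair Q e f) :
    ∃ k : IsoGrp Q, k * g ∈ Omega F ⇑Q ∧
      ∀ x, polar ⇑Q x e = 0 → polar ⇑Q x f = 0 → ap k x = x := by
  classical
  obtain ⟨c, hc, hc'⟩ := OrthAct.exists_char_eq hG g
  set v := e + c • f
  set u := e + (1 : F) • f
  have hQv : Q v = c := OrthAct.Q_plane h c
  have hQu : Q u = 1 := OrthAct.Q_plane h 1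
  have hv0 : Q v ≠ 0 := hQv ▸ hc
  have hu0 : Q u ≠ 0 := hQu ▸ one_ne_zero
  have hfix : ∀ (s : F) (x : ι → F), polar ⇑Q x e = 0 → polar ⇑Q x f = 0 →
      ap (refl Q (e + s • f)) x = x := fun s x hx hx' =>
    refl_ap_of_orth Q (by
      rw [pl_add_left, pl_smul_left, pl_comm Q e, pl_comm Q f, hx, hx']; ring)
  have hsq : ∀ {z : ℤ}, z = 1 ∨ z = -1 → z * z = 1 := by rintro z (rfl | rfl) <;> norm_num
  have hsv : spin (refl Q v) = spin g := by rw [spin_refl hG.nd hv0, hQv, hc']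
  rcases dick_eq_or g with hd | hd
  · refine ⟨refl Q u * refl Q v, (mem_omega_iff hG _).2 ⟨?_, ?_⟩, fun x hx hx' => by
      rw [ap_mul, hfix c x hx hx', hfix 1 x hx hx']⟩
    · rw [dick_mul hG, dick_mul hG, dick_refl hG.nd hu0, dick_refl hG.nd hv0, hd]; norm_num
    · rw [spin_mul hG, spin_mul hG, hsv, spin_refl hG.nd hu0, hQu, map_one, one_mul,
        hsq (spin_eq_or hG g)]
  · refine ⟨refl Q v, (mem_omega_iff hG _).2 ⟨?_, ?_⟩, hfix c⟩
    · rw [dick_mul hG, dick_refl hG.nd hv0, hd]; norm_num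
    · rw [spin_mul hG, hsv, hsq (spin_eq_or hG g)]

/-- A nonsingular vector in a non-degenerate non-zero subspace. -/
theorem exists_ns {U : Submodule F (ι → F)} (hU : NdOn Q U) (hU0 : U ≠ ⊥) :
    ∃ v ∈ U, Q v ≠ 0 := by
  by_contra! h
  obtain ⟨w, hw, hw0⟩ := (Submodule.ne_bot_iff _).1 hU0
  obtain ⟨y, hy, hwy⟩ := hU w hw hw0
  exact hwy (by simp [polar, h w hw, h y hy, h _ (add_mem hw hy)])

/-- `Ω` is transitive on hyperbolic pairs. -/
theorem exists_pair_omega (hG : Good Q) (hn : 7 ≤ Fintype.card ι) {a b c e : ι → F}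
    (hab : HPair Q a b) (hce : HPair Q c e) :
    ∃ g : IsoGrp Q, g ∈ Omega F ⇑Q ∧ ap g a = c ∧ ap g b = e := by
  have hli : ∀ {a b : ι → F}, HPair Q a b → LinearIndependent F ![a, b] := fun {a b} h =>
    li_of_dual (Q := Q) (u := ![b, a]) fun i j => by
      fin_cases i <;> fin_cases j <;> simp [pl_self, h.qe, h.qf, h.pf, h.swap.pf]
  obtain ⟨g, hg⟩ := exists_iso_vec hG.nd (hli hab) (hli hce)
    (fun i => by fin_cases i <;> simp [hab.qe, hab.qf, hce.qe, hce.qf])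
    fun i j => by
      fin_cases i <;> fin_cases j <;>
        simp [pl_self, hab.qe, hab.qf, hab.pf, hab.swap.pf, hce.qe, hce.qf, hce.pf, hce.swap.pf]
  obtain ⟨hWnd, hWd⟩ := finrank_perp_eq hG.nd hce
  obtain ⟨u, hu, w, hw, huw⟩ := exists_hpair_of_three hWnd (by omega)
  obtain ⟨k, hk, hkf⟩ := exists_signs hG g huw
  refine ⟨k * g, hk, ?_, ?_⟩
  · rw [ap_mul, show ap g a = c from hg 0, hkf c (mem_perp.1 hu).1 (mem_perp.1 hw).1]
  · rw [ap_mul, show ap g b = e from hg 1, hkf e (mem_perp.1 hu).2 (mem_perp.1 hw).2]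

/-- Isometries in `Ω` fixing a pair move any vector of the orthogonal to any other of equal norm. -/
theorem exists_fix_omega (hG : Good Q) (hn : 7 ≤ Fintype.card ι) {a b : ι → F} (hab : HPair Q a b)
    {φ φ' : ι → F} (hφ : φ ∈ perp Q a b) (hφ' : φ' ∈ perp Q a b) (h0 : φ ≠ 0) (h0' : φ' ≠ 0)
    (hQ : Q φ = Q φ') :
    ∃ g : IsoGrp Q, g ∈ Omega F ⇑Q ∧ ap g a = a ∧ ap g b = b ∧ ap g φ = φ' := by
  obtain ⟨hWnd, hWd⟩ := finrank_perp_eq hG.nd hab
  have hli : ∀ {y : ι → F}, y ∈ perp Q a b → y ≠ 0 → LinearIndependent F ![a, b, y] := by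
    intro y hy hy0
    obtain ⟨z, hz, hyz⟩ := hWnd y hy hy0
    obtain ⟨hay, hby⟩ := mem_perp.1 hy
    obtain ⟨haz, hbz⟩ := mem_perp.1 hz
    refine li_of_dual (Q := Q) (u := ![b, a, (polar ⇑Q y z)⁻¹ • z]) fun i j => ?_
    fin_cases i <;> fin_cases j <;>
      simp [pl_self, pl_smul_left, hab.qe, hab.qf, hab.pf, hab.swap.pf, hay, hby,
        pl_comm Q z a, pl_comm Q z b, pl_comm Q z y, haz, hbz, hyz]
  obtain ⟨hay, hby⟩ := mem_perp.1 hφ
  obtain ⟨hay', hby'⟩ := mem_perp.1 hφ'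
  obtain ⟨g, hg⟩ := exists_iso_vec hG.nd (hli hφ h0) (hli hφ' h0')
    (fun i => by fin_cases i <;> simp [hQ])
    fun i j => by
      fin_cases i <;> fin_cases j <;>
        simp [pl_self, hQ, pl_comm Q φ a, pl_comm Q φ b, pl_comm Q φ' a, pl_comm Q φ' b,
          hay, hby, hay', hby']
  obtain ⟨e, he, f, hf, hef, h1, h2⟩ := exists_pair_orth_vec hWnd (by omega) hφ'
  obtain ⟨k, hk, hkf⟩ := exists_signs hG g hef
  refine ⟨k * g, hk, ?_, ?_, ?_⟩
  · rw [ap_mul, show ap g a = a from hg 0, hkf a (mem_perp.1 he).1 (mem_perp.1 hf).1]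
  · rw [ap_mul, show ap g b = b from hg 1, hkf b (mem_perp.1 he).2 (mem_perp.1 hf).2]
  · rw [ap_mul, show ap g φ = φ' from hg 2, hkf φ' h1 h2]

/-- Isometries in `Ω` fixing two orthogonal pairs are transitive on the singular points orthogonal
to both. -/
theorem exists_fix_point (hG : Good Q) (hn : 7 ≤ Fintype.card ι) {a b c e : ι → F}
    (hab : HPair Q a b) (hce : HPair Q c e) (hc : c ∈ perp Q a b) (he : e ∈ perp Q a b)
    {x x' : ι → F} (hx : x ∈ perp Q a b ⊓ perp Q c e) (hx' : x' ∈ perp Q a b ⊓ perp Q c e)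
    (hQx : Q x = 0) (hQx' : Q x' = 0) (h0 : x ≠ 0) (h0' : x' ≠ 0) :
    ∃ g : IsoGrp Q, g ∈ Omega F ⇑Q ∧ ap g a = a ∧ ap g b = b ∧ ap g c = c ∧ ap g e = e ∧
      ∃ t : F, t ≠ 0 ∧ ap g x = t • x' := by
  classical
  obtain ⟨hWnd, hWd⟩ := finrank_perp_eq hG.nd hab
  obtain ⟨hUnd, hUd⟩ := ndOn_cut hWnd hce hc he
  obtain ⟨hac, hbc⟩ := mem_perp.1 hc
  obtain ⟨hae, hbe⟩ := mem_perp.1 he
  have hli : ∀ {y : ι → F}, y ∈ perp Q a b ⊓ perp Q c e → Q y = 0 → y ≠ 0 →
      LinearIndependent F ![a, b, c, e, y] := by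
    intro y hy hQy hy0
    obtain ⟨z, hz, hp⟩ := exists_hpair_in hUnd hy hQy hy0
    obtain ⟨hay, hby⟩ := mem_perp.1 hy.1
    obtain ⟨hcy, hey⟩ := mem_perp.1 hy.2
    obtain ⟨haz, hbz⟩ := mem_perp.1 hz.1
    obtain ⟨hcz, hez⟩ := mem_perp.1 hz.2
    refine li_of_dual (Q := Q) (u := ![b, a, e, c, z]) fun i j => ?_
    fin_cases i <;> fin_cases j <;>
      simp [pl_self, hab.qe, hab.qf, hab.pf, hab.swap.pf, hce.qe, hce.qf, hce.pf, hce.swap.pf,
        hp.swap.pf, hay, hby, hcy, hey, hac, hbc, hae, hbe, pl_comm Q c a, pl_comm Q c b,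
        pl_comm Q e a, pl_comm Q e b, pl_comm Q z a, pl_comm Q z b, pl_comm Q z c, pl_comm Q z e,
        haz, hbz, hcz, hez]
  obtain ⟨hay, hby⟩ := mem_perp.1 hx.1
  obtain ⟨hcy, hey⟩ := mem_perp.1 hx.2
  obtain ⟨hay', hby'⟩ := mem_perp.1 hx'.1
  obtain ⟨hcy', hey'⟩ := mem_perp.1 hx'.2
  obtain ⟨g, hg⟩ := exists_iso_vec hG.nd (hli hx hQx h0) (hli hx' hQx' h0')
    (fun i => by fin_cases i <;> simp [hQx, hQx'])
    fun i j => by
      fin_cases i <;> fin_cases j <;>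
        simp [pl_self, hQx, hQx', pl_comm Q x a, pl_comm Q x b, pl_comm Q x c, pl_comm Q x e,
          pl_comm Q x' a, pl_comm Q x' b, pl_comm Q x' c, pl_comm Q x' e, hay, hby, hcy, hey,
          hay', hby', hcy', hey']
  obtain ⟨z, hz, hp⟩ := exists_hpair_in hUnd hx' hQx' h0'
  obtain ⟨hVnd, hVd⟩ := ndOn_cut hUnd hp hx' hz
  obtain ⟨v, hv, hQv⟩ := exists_ns hVnd fun h => by rw [h, finrank_bot] at hVd; omega
  obtain ⟨haz, hbz⟩ := mem_perp.1 hz.1
  obtain ⟨hcz, hez⟩ := mem_perp.1 hz.2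
  obtain ⟨hav, hbv⟩ := mem_perp.1 hv.1.1
  obtain ⟨hcv, hev⟩ := mem_perp.1 hv.1.2
  -- a correction fixing the two pairs and the point of `x'`
  have htor : ∀ t : F, t ≠ 0 → dick (torus Q x' z t) = 1 ∧
      spin (torus Q x' z t) = quadraticChar F t := by
    intro t ht
    have q1 : Q (x' - z) = -1 := by rw [Q_sub, hp.qe, hp.qf, hp.pf]; ring
    have q2 : Q (x' - t • z) = -t := by rw [Q_sub, Q_smul, pl_smul_right, hp.qe, hp.qf, hp.pf]; ring
    have n1 : Q (x' - z) ≠ 0 := by rw [q1]; simp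
    have n2 : Q (x' - t • z) ≠ 0 := by rw [q2]; simpa using ht
    refine ⟨?_, ?_⟩
    · rw [torus, dick_mul hG, dick_refl hG.nd n1, dick_refl hG.nd n2]; norm_num
    · rw [torus, spin_mul hG, spin_refl hG.nd n1, spin_refl hG.nd n2, ← map_mul, q1, q2,
        neg_one_mul, neg_neg]
  obtain ⟨k, hk, hkf, t, ht, hkx⟩ : ∃ k : IsoGrp Q, k * g ∈ Omega F ⇑Q ∧
      (∀ y, polar ⇑Q y x' = 0 → polar ⇑Q y z = 0 → polar ⇑Q y v = 0 → ap k y = y) ∧
      ∃ t : F, t ≠ 0 ∧ ap k x' = t • x' := by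
    have hfix : ∀ t y, polar ⇑Q y x' = 0 → polar ⇑Q y z = 0 → ap (torus Q x' z t) y = y :=
      fun t y h1 h2 => HPair.torus_ap_perp (mem_perp.2 ⟨by rw [pl_comm, h1], by rw [pl_comm, h2]⟩) t
    rcases dick_eq_or g with hd | hd
    · obtain ⟨s, hs, hs'⟩ := OrthAct.exists_char_eq hG g
      refine ⟨torus Q x' z s, (mem_omega_iff hG _).2 ⟨?_, ?_⟩, fun y h1 h2 _ => hfix s y h1 h2,
        s, hs, hp.torus_ap_left hs⟩
      · rw [dick_mul hG, (htor s hs).1, hd, one_mul]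
      · rw [spin_mul hG, (htor s hs).2, hs']
        rcases spin_eq_or hG g with h | h <;> rw [h] <;> norm_num
    · obtain ⟨s, hs, hs'⟩ := OrthAct.exists_char_eq hG (refl Q v * g)
      refine ⟨torus Q x' z s * refl Q v, (mem_omega_iff hG _).2 ⟨?_, ?_⟩, fun y h1 h2 h3 => ?_,
        s, hs, ?_⟩
      · rw [mul_assoc, dick_mul hG, (htor s hs).1, dick_refl_mul hG.nd _ hQv, hd]; norm_num
      · rw [mul_assoc, spin_mul hG, (htor s hs).2, hs']
        rcases spin_eq_or hG (refl Q v * g) with h | h <;> rw [h] <;> norm_num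
      · rw [ap_mul, refl_ap_of_orth Q (by rw [pl_comm, h3]), hfix s y h1 h2]
      · rw [ap_mul, refl_ap_of_orth Q (by rw [pl_comm]; exact (mem_perp.1 hv.2).1),
          hp.torus_ap_left hs]
  refine ⟨k * g, hk, ?_, ?_, ?_, ?_, t, ht, ?_⟩
  · rw [ap_mul, show ap g a = a from hg 0, hkf a hay' haz hav]
  · rw [ap_mul, show ap g b = b from hg 1, hkf b hby' hbz hbv]
  · rw [ap_mul, show ap g c = c from hg 2, hkf c hcy' hcz hcv]
  · rw [ap_mul, show ap g e = e from hg 3, hkf e hey' hez hev]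
  · rw [ap_mul, show ap g x = x' from hg 4, hkx]

/-! ### Counting -/

/-- The number of vectors of norm `c` in a subspace. -/
noncomputable def cnt (Q : QuadraticForm F (ι → F)) (U : Submodule F (ι → F)) (c : F) : ℕ :=
  Nat.card {x : ι → F // x ∈ U ∧ Q x = c}

theorem cnt_pair {U : Submodule F (ι → F)} {e f : ι → F} (h : HPair Q e f) (he : e ∈ U) (hf : f ∈ U)
    (c : F) : cnt Q U c = (Fintype.card F - 1) * Nat.card ↥(U ⊓ perp Q e f) +
      Fintype.card F * cnt Q (U ⊓ perp Q e f) c := by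
  classical
  have hfe : polar ⇑Q f e = 1 := by rw [pl_comm]; exact h.pf
  have co : ∀ (α β : F) (y : ι → F), y ∈ perp Q e f →
      polar ⇑Q f (α • e + β • f + y) = α ∧ polar ⇑Q e (α • e + β • f + y) = β ∧
      wPart Q e f (α • e + β • f + y) = y := by
    intro α β y hy
    obtain ⟨h1, h2⟩ := mem_perp.1 hy
    have e1 : polar ⇑Q f (α • e + β • f + y) = α := by
      simp [pl_add_right, pl_smul_right, pl_self, h.qf, hfe, h2]
    have e2 : polar ⇑Q e (α • e + β • f + y) = β := by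
      simp [pl_add_right, pl_smul_right, pl_self, h.qe, h.pf, h1]
    refine ⟨e1, e2, ?_⟩
    rw [wPart, e1, e2]; abel
  have wU : ∀ {x : ι → F}, x ∈ U → wPart Q e f x ∈ U ⊓ perp Q e f := fun {x} hx =>
    ⟨sub_mem (sub_mem hx (U.smul_mem _ he)) (U.smul_mem _ hf), h.wPart_mem x⟩
  have mU : ∀ (α β : F) {y : ι → F}, y ∈ U ⊓ perp Q e f → α • e + β • f + y ∈ U := fun α β {y} hy =>
    add_mem (add_mem (U.smul_mem _ he) (U.smul_mem _ hf)) hy.1
  let T : {x : ι → F // x ∈ U ∧ Q x = c} ≃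
      ({β : F // β ≠ 0} × ↥(U ⊓ perp Q e f)) ⊕ (F × {y // y ∈ U ⊓ perp Q e f ∧ Q y = c}) :=
    { toFun := fun x => if hb : polar ⇑Q e x.1 = 0 then
          .inr (polar ⇑Q f x.1, ⟨wPart Q e f x.1, wU x.2.1, by
            have := x.2.2
            rw [decomp (Q := Q) e f x.1, h.Q_comb (h.wPart_mem _), hb, mul_zero, zero_add] at this
            exact this⟩)
        else .inl (⟨polar ⇑Q e x.1, hb⟩, ⟨wPart Q e f x.1, wU x.2.1⟩)
      invFun := fun s => s.elim
        (fun p => ⟨((c - Q p.2.1) / p.1.1) • e + p.1.1 • f + p.2.1, mU _ _ p.2.2, by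
          rw [h.Q_comb p.2.2.2, div_mul_cancel₀ _ p.1.2, sub_add_cancel]⟩)
        (fun p => ⟨p.1 • e + (0 : F) • f + p.2.1, mU _ _ p.2.2.1, by
          rw [h.Q_comb p.2.2.1.2, mul_zero, zero_add, p.2.2.2]⟩)
      left_inv := fun x => by
        rcases x with ⟨x, hx, hQx⟩
        have d := decomp (Q := Q) e f x
        have hQ' := hQx
        rw [d, h.Q_comb (h.wPart_mem _)] at hQ'
        by_cases hb : polar ⇑Q e x = 0
        · simp only [hb, dif_pos, Sum.elim_inr, Subtype.mk.injEq]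
          conv_rhs => rw [d, hb]
        · simp only [hb, dif_neg, not_false_iff, Sum.elim_inl, Subtype.mk.injEq]
          conv_rhs => rw [d]
          rw [show (c - Q (wPart Q e f x)) / polar ⇑Q e x = polar ⇑Q f x by
            rw [div_eq_iff hb]; linear_combination -hQ']
      right_inv := fun s => by
        rcases s with ⟨⟨β, hβ⟩, y, hy⟩ | ⟨α, y, hy, hQy⟩
        · obtain ⟨-, e2, e3⟩ := co ((c - Q y) / β) β y hy.2
          simp [e2, e3, hβ]
        · obtain ⟨e1, e2, e3⟩ := co α 0 y hy.2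
          simp only [Sum.elim_inr, e2, dite_true, e1, e3] }
  rw [cnt, Nat.card_congr T, Nat.card_sum, Nat.card_prod, Nat.card_prod, cnt]
  simp [Nat.card_eq_fintype_card, Fintype.card_subtype_compl]

theorem card_sub (U : Submodule F (ι → F)) : Nat.card U = Fintype.card F ^ finrank F U := by
  rw [Module.natCard_eq_pow_finrank (K := F), Nat.card_eq_fintype_card]

theorem cnt_zero_of_aniso {U : Submodule F (ι → F)} (h : ∀ x ∈ U, Q x = 0 → x = 0) :
    cnt Q U 0 = 1 := by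
  rw [cnt, Nat.card_eq_one_iff_unique]
  exact ⟨⟨fun x y => Subtype.ext ((h _ x.2.1 x.2.2).trans (h _ y.2.1 y.2.2).symm)⟩,
    ⟨⟨0, zero_mem _, by simp⟩⟩⟩

theorem cnt_zero_one {U : Submodule F (ι → F)} (hU : NdOn Q U) (h1 : finrank F U ≤ 1) :
    cnt Q U 0 = 1 := by
  refine cnt_zero_of_aniso fun x hx hQx => by_contra fun hx0 => ?_
  obtain ⟨y, hy, h⟩ := exists_hpair_in hU hx hQx hx0
  have := (ndOn_cut hU h hx hy).2
  omega

theorem one_le_cnt_zero (U : Submodule F (ι → F)) : 1 ≤ cnt Q U 0 :=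
  haveI : Nonempty {x : ι → F // x ∈ U ∧ Q x = 0} := ⟨⟨0, zero_mem _, by simp⟩⟩
  Nat.card_pos

theorem cnt_zero_le {U : Submodule F (ι → F)} (hU : NdOn Q U) :
    (1 ≤ finrank F U → cnt Q U 0 ≤ 2 * Fintype.card F ^ (finrank F U - 1)) ∧
    (3 ≤ finrank F U →
      cnt Q U 0 ≤ (Fintype.card F + 1) * Fintype.card F ^ (finrank F U - 2)) := by
  have hq : 2 ≤ Fintype.card F := Fintype.one_lt_card
  obtain ⟨q, hqd⟩ : ∃ q, Fintype.card F = q + 1 := ⟨Fintype.card F - 1, by omega⟩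
  induction hd : finrank F U using Nat.strong_induction_on generalizing U with
  | _ d ih =>
  have step3 : 3 ≤ d → cnt Q U 0 ≤ (Fintype.card F + 1) * Fintype.card F ^ (d - 2) := by
    intro h3
    obtain ⟨e, he, f, hf, h⟩ := exists_hpair_of_three hU (by omega)
    obtain ⟨h1, h2⟩ := ndOn_cut hU h he hf
    have hi := (ih _ (by omega) h1 rfl).1 (by omega)
    rw [cnt_pair h he hf, card_sub]
    rw [show finrank F ↥(U ⊓ perp Q e f) = d - 2 by omega] at hi ⊢
    obtain ⟨k, hk⟩ : ∃ k, d - 2 = k + 1 := ⟨d - 3, by omega⟩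
    rw [hk] at hi ⊢
    rw [Nat.add_sub_cancel] at hi
    have := Nat.mul_le_mul_left (Fintype.card F) hi
    rw [pow_succ, hqd, Nat.add_sub_cancel] at *
    nlinarith
  refine ⟨fun h1 => ?_, step3⟩
  rcases lt_or_ge d 3 with h3 | h3
  · rcases Nat.lt_or_ge d 2 with h2 | h2
    · rw [cnt_zero_one hU (by omega), show d - 1 = 0 by omega]; norm_num
    by_cases hx : ∀ x ∈ U, Q x = 0 → x = 0
    · rw [cnt_zero_of_aniso hx, show d - 1 = 1 by omega, pow_one]; omega
    push Not at hx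
    obtain ⟨e, he, hQe, he0⟩ := hx
    obtain ⟨f, hf, h⟩ := exists_hpair_in hU he hQe he0
    obtain ⟨k1, k2⟩ := ndOn_cut hU h he hf
    rw [cnt_pair h he hf, card_sub, cnt_zero_one k1 (by omega),
      show finrank F ↥(U ⊓ perp Q e f) = 0 by omega, show d - 1 = 1 by omega, pow_one, pow_zero]
    omega
  · refine (step3 h3).trans ?_
    rw [show d - 1 = (d - 2) + 1 by omega, pow_succ, ← mul_assoc, mul_right_comm]
    exact Nat.mul_le_mul_right _ (by omega)

theorem le_cnt_zero {U : Submodule F (ι → F)} (hU : NdOn Q U) (h5 : 5 ≤ finrank F U) :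
    (Fintype.card F - 1) *
      (Fintype.card F ^ (finrank F U - 2) + Fintype.card F ^ (finrank F U - 3)) +
      Fintype.card F ≤ cnt Q U 0 + (Fintype.card F - 1) := by
  obtain ⟨e, he, f, hf, h⟩ := exists_hpair_of_three hU (by omega)
  obtain ⟨h1, h2⟩ := ndOn_cut hU h he hf
  obtain ⟨e', he', f', hf', h'⟩ := exists_hpair_of_three h1 (by omega)
  obtain ⟨-, h4⟩ := ndOn_cut h1 h' he' hf'
  have hq : 1 ≤ Fintype.card F := Fintype.card_pos
  have hc := one_le_cnt_zero (Q := Q) (U ⊓ perp Q e f ⊓ perp Q e' f')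
  rw [cnt_pair h he hf, cnt_pair h' he' hf', card_sub, card_sub,
    show finrank F ↥(U ⊓ perp Q e f) = finrank F U - 2 by omega,
    show finrank F ↥(U ⊓ perp Q e f ⊓ perp Q e' f') = finrank F U - 4 by omega,
    show finrank F U - 3 = (finrank F U - 4) + 1 by omega, pow_succ]
  set q := Fintype.card F
  have hm := Nat.mul_le_mul (Nat.mul_le_mul le_rfl hq : q * 1 ≤ q * q) hc
  rw [mul_add, mul_add (a := q)]
  have : (q - 1) * (q ^ (finrank F U - 4) * q) = q * ((q - 1) * q ^ (finrank F U - 4)) := by ring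
  rw [this, ← mul_assoc q q]
  have : q ≤ q * q * cnt Q (U ⊓ perp Q e f ⊓ perp Q e' f') 0 := by simpa using hm
  omega

/-- Vectors of prescribed norms. -/
theorem class_le_card {U : Submodule F (ι → F)} {e f : ι → F} (h : HPair Q e f) (he : e ∈ U)
    (hf : f ∈ U) {C : Finset F} {O : Finset U} (hO : ∀ v : U, Q (v : ι → F) ∈ C → v ∈ O) :
    C.card * (Fintype.card F - 1) * Nat.card ↥(U ⊓ perp Q e f) ≤ O.card := by
  classical
  let m : {c // c ∈ C} × {β : F // β ≠ 0} × ↥(U ⊓ perp Q e f) → {v : U // v ∈ O} := fun p =>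
    ⟨⟨((p.1.1 - Q p.2.2.1) / p.2.1.1) • e + p.2.1.1 • f + p.2.2.1,
      add_mem (add_mem (U.smul_mem _ he) (U.smul_mem _ hf)) p.2.2.2.1⟩, hO _ (by
      show Q _ ∈ C
      rw [h.Q_comb p.2.2.2.2, div_mul_cancel₀ _ p.2.1.2, sub_add_cancel]; exact p.1.2)⟩
  have hm : Function.Injective m := by
    rintro ⟨⟨c, hc⟩, ⟨β, hβ⟩, ⟨y, hy⟩⟩ ⟨⟨c', hc'⟩, ⟨β', hβ'⟩, ⟨y', hy'⟩⟩ hpp
    simp only [m, Subtype.mk.injEq] at hpp
    obtain ⟨k1, k2⟩ := mem_perp.1 hy.2
    obtain ⟨k1', k2'⟩ := mem_perp.1 hy'.2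
    have e1 := congrArg (polar ⇑Q e) hpp
    have e2 := congrArg (polar ⇑Q f) hpp
    simp [pl_add_right, pl_smul_right, pl_self, h.qe, h.qf, h.pf, h.swap.pf, k1, k2, k1', k2']
      at e1 e2
    subst e1
    rw [e2] at hpp
    obtain rfl := add_left_cancel hpp
    rw [div_left_inj' hβ, sub_left_inj] at e2
    subst e2
    rfl
  have := Nat.card_le_card_of_injective m hm
  rw [Nat.card_prod, Nat.card_prod] at this
  simp only [Nat.card_eq_fintype_card, Fintype.card_subtype_compl, Fintype.card_coe,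
    Fintype.card_subtype_eq] at this ⊢
  rw [mul_assoc]
  exact this

end Cfsg.Agent.MinIndex
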