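import Cfsg.Agent.Lib.MinIndex.OrthMove

/-!
# Exceptional totally singular annihilators

* `spec_many` : if one exists, `q + 1` of them contain each singular point
* `kk_excl` : and nothing else does
* `spec_contra` : twice an orbit of subspaces as blocks is too much
* `spec_false` : they do not occur when no block is a fixed point
-/

set_option autoImplicit false
set_option linter.unusedSectionVars false

namespace Cfsg.Agent.MinIndex

open Cfsg Matrix Module Cfsg.Agent.Orth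
open Cfsg.Agent.AutPOmega (NdOn ndOn_cut exists_hpair_in exists_hpair_of_three finrank_perp_eq Base)
open QuadraticMap (polar)
open scoped Pointwise

variable {ι : Type} [Fintype ι] [DecidableEq ι] {F : Type*} [Field F] [Fintype F]
variable {Q : QuadraticForm F (ι → F)} {a b : ι → F}
variable {X : Type*} [MulAction ↥(Omega F ⇑Q) X] [Fintype X] [DecidableEq X]

attribute [local instance] fintypeSub

theorem arith_five {q n S s : ℕ} (hq : 4 ≤ q) (hS : q ^ 4 ≤ S + q ^ 2)
    (hc : 2 * ((q + 1) * S) ≤ s * (q ^ 2 - 1)) (hn : s + (q + 1) * S ≤ n)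
    (hs : (q - 1) * n + q ≤ (q - 1) * q ^ 5 + q * (S + 1)) : False := by
  obtain ⟨r, rfl⟩ : ∃ r, q = r + 4 := ⟨q - 4, by omega⟩
  rw [show r + 4 - 1 = r + 3 by omega] at hs
  rw [show (r + 4) ^ 2 - 1 = (r + 3) * (r + 5) by
    rw [Nat.sub_eq_iff_eq_add (Nat.one_le_pow _ _ (by omega))]; ring] at hc
  have h0 : 2 * S * (r + 5) ≤ s * (r + 3) * (r + 5) := by linarith
  have h1 : 2 * S ≤ s * (r + 3) := Nat.le_of_mul_le_mul_right h0 (by omega)
  have h2 := Nat.mul_le_mul_left (r + 3) hn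
  have h3 : (r ^ 2 + 7 * r + 13) * S ≤ (r + 3) * (r + 4) ^ 5 := by nlinarith
  have h4 := Nat.mul_le_mul_left (r ^ 2 + 7 * r + 13) hS
  have h5 : 0 < (r + 4) ^ 2 := by positivity
  nlinarith

theorem arith_six {q n S s : ℕ} (hq : 4 ≤ q) (hS : S + 1 + q ^ 2 = q ^ 5 + q ^ 3)
    (hc : 2 * ((q + 1) * S) ≤ s * (q ^ 3 - 1)) (hn : s + (q + 1) * S ≤ n)
    (hs : (q - 1) * n + q ≤ (q - 1) * q ^ 6 + q * (S + 1)) : False := by
  obtain ⟨r, rfl⟩ : ∃ r, q = r + 4 := ⟨q - 4, by omega⟩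
  rw [show r + 4 - 1 = r + 3 by omega] at hs
  obtain ⟨u, hu⟩ : ∃ u, (r + 4) ^ 3 = u + 1 :=
    ⟨(r + 4) ^ 3 - 1, (Nat.sub_add_cancel (Nat.one_le_pow _ _ (by omega))).symm⟩
  rw [hu, Nat.add_sub_cancel] at hc
  have hu0 : 0 < u := by
    by_contra
    have : 4 ^ 3 ≤ (r + 4) ^ 3 := Nat.pow_le_pow_left (by omega) _
    omega
  have hS' : S = u * ((r + 4) ^ 2 + 1) := by
    have : u * ((r + 4) ^ 2 + 1) + ((r + 4) ^ 2 + 1) = (r + 4) ^ 5 + (r + 4) ^ 3 := by
      calc _ = (u + 1) * ((r + 4) ^ 2 + 1) := by ring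
        _ = _ := by rw [← hu]; ring
    omega
  subst hS'
  have h0 : 2 * ((r + 5) * ((r + 4) ^ 2 + 1)) * u ≤ s * u := by linarith
  have h1 : 2 * ((r + 5) * ((r + 4) ^ 2 + 1)) ≤ s := Nat.le_of_mul_le_mul_right h0 hu0
  have h2 := Nat.mul_le_mul_left (r + 3) hn
  have h3 := Nat.mul_le_mul_left (r + 3) h1
  nlinarith

/-- The number of singular vectors of a six-dimensional space with a totally singular 3-space. -/
theorem cnt_six {U T : Submodule F (ι → F)} (hU : NdOn Q U) (hd : finrank F U = 6) (hle : T ≤ U)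
    (hT : ∀ x ∈ T, Q x = 0) (hj : finrank F T = 3) :
    cnt Q U 0 + Fintype.card F ^ 2 = Fintype.card F ^ 5 + Fintype.card F ^ 3 := by
  obtain ⟨x, hx, hx0⟩ := (Submodule.ne_bot_iff T).1 fun h => by rw [h, finrank_bot] at hj; omega
  obtain ⟨x', hx', hp⟩ := exists_hpair_in hU (hle hx) (hT x hx) hx0
  obtain ⟨h1, h1d⟩ := ndOn_cut hU hp (hle hx) hx'
  have hT1 := finrank_inf_perp hp hle hT hx
  have hT1q : ∀ y ∈ T ⊓ (U ⊓ perp Q x x'), Q y = 0 := fun y hy => hT y hy.1
  obtain ⟨y, hy, hy0⟩ := (Submodule.ne_bot_iff (T ⊓ (U ⊓ perp Q x x'))).1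
    fun h => by rw [h, finrank_bot] at hT1; omega
  obtain ⟨y', hy', hp'⟩ := exists_hpair_in h1 hy.2 (hT1q y hy) hy0
  obtain ⟨h2, h2d⟩ := ndOn_cut h1 hp' hy.2 hy'
  have hT2 := finrank_inf_perp hp' inf_le_right hT1q hy
  obtain ⟨v, hv, hv0⟩ := (Submodule.ne_bot_iff
    ((T ⊓ (U ⊓ perp Q x x')) ⊓ ((U ⊓ perp Q x x') ⊓ perp Q y y'))).1
    fun h => by rw [h, finrank_bot] at hT2; omega
  obtain ⟨w, hw, hvw⟩ := exists_hpair_in h2 hv.2 (hT1q v hv.1) hv0
  obtain ⟨h3, h3d⟩ := ndOn_cut h2 hvw hv.2 hw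
  rw [cnt_pair hp (hle hx) hx', card_sub, cnt_pair hp' hy.2 hy', card_sub,
    cnt_pair hvw hv.2 hw, card_sub, cnt_zero_one h3 (by omega),
    show finrank F ↥(U ⊓ perp Q x x') = 4 by omega,
    show finrank F ↥(U ⊓ perp Q x x' ⊓ perp Q y y') = 2 by omega,
    show finrank F ↥(U ⊓ perp Q x x' ⊓ perp Q y y' ⊓ perp Q v w) = 0 by omega]
  obtain ⟨r, hr⟩ : ∃ r, Fintype.card F = r + 1 :=
    ⟨_, (Nat.sub_add_cancel (Fintype.card_pos (α := F))).symm⟩
  rw [hr, Nat.add_sub_cancel]; ring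

theorem spanA_fix (H : Base Q) (hab : HPair Q a b) {g : ↥(Omega F ⇑Q)} {μ : F} (hl : Lev g a b μ)
    (hW : ∀ v ∈ perp Q a b, ap (g : IsoGrp Q) v = v) (B : Finset X) :
    spanA H hab B ≤ spanA H hab (g • B) := by
  refine Submodule.span_le.2 fun v hv => ?_
  have h1 := AV_lev H hab hl hv
  rw [hW v (AV_le hv)] at h1
  have := Submodule.smul_mem _ μ
    (Submodule.subset_span h1 : μ⁻¹ • v ∈ spanA H hab (g • B))
  rwa [smul_inv_smul₀ hl.ne] at this

theorem exists_AV_ne {H : Base Q} {hab : HPair Q a b} {B : Finset X} (h : Spec H hab B) :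
    ∃ v ∈ AV H hab B, v ≠ 0 ∧ Q v = 0 := by
  by_contra! hall
  have h0 : AV H hab B = ⊥ := (AddSubgroup.eq_bot_iff_forall _).2 fun v hv => by
    by_contra hv0
    exact hall v hv hv0 (h.1 v (Submodule.subset_span hv))
  have h2 := h.2
  have h1 : spanA H hab B = ⊥ := by
    rw [spanA, h0]; exact Submodule.span_eq_bot.2 (by simp)
  rw [h1, finrank_bot] at h2
  simp [Exc] at h2

open scoped Classical in
/-- One exceptional block gives `q + 1` at each singular point. -/
theorem spec_many (H : Base Q) (hq : 4 ≤ Fintype.card F) (hab : HPair Q a b) {B : Finset X}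
    (hB : B ∈ blocks (vact H hab)) (hS : Spec H hab B) {φ : ↥(perp Q a b)} (hφ : φ ≠ 0)
    (hQ : Q (φ : ι → F) = 0) :
    Fintype.card F + 1 ≤ ((blocks (X := X) (vact H hab)).filter fun B' =>
      Spec H hab B' ∧ φ ∈ Ab (vact H hab) B').card := by
  classical
  obtain ⟨v, hv, hv0, hQv⟩ := exists_AV_ne hS
  obtain ⟨g, hg, ga, gb, gv⟩ := exists_fix_omega (good_of_base H) H.seven hab (AV_le hv) φ.2 hv0
    (by simpa using hφ) (by rw [hQv, hQ])
  set g' : ↥(Omega F ⇑Q) := ⟨g, hg⟩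
  set B1 := g' • B with hB1d
  have hB1 : B1 ∈ blocks (vact H hab) := move_mem_blocks H hab hab ga gb hB
  have hS1 : Spec H hab B1 := spec_move H hab hab ga gb hB hS
  have hφ1 : (φ : ι → F) ∈ AV H hab B1 := by
    have := AV_move H hab hab (g := g') ga gb hB hv
    rwa [show ap (g' : IsoGrp Q) v = φ from gv] at this
  have hj : 2 ≤ finrank F (spanA H hab B1) := by
    rcases hS1.2 with ⟨-, h⟩ | ⟨-, h⟩ <;> omega
  obtain ⟨s, hs, hsc, -⟩ := stab_images H (by omega) hab (spanA_le H hab B1) hS1.1 hj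
    (Submodule.subset_span hφ1) (by simpa using hφ)
  refine hsc.trans (le_trans (Finset.card_le_card (t := ((blocks (X := X) (vact H hab)).filter
    fun B' => Spec H hab B' ∧ φ ∈ Ab (vact H hab) B').image fun B' => spanA H hab B') ?_)
    Finset.card_image_le)
  intro T hT
  obtain ⟨k, hk, ka, kb, kφ, rfl⟩ := hs T hT
  refine Finset.mem_image.2 ⟨(⟨k, hk⟩ : ↥(Omega F ⇑Q)) • B1, Finset.mem_filter.2
    ⟨move_mem_blocks H hab hab ka kb hB1, spec_move H hab hab ka kb hB1 hS1, ?_⟩,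
    spanA_move H hab hab ka kb hB1⟩
  have := AV_move H hab hab (g := (⟨k, hk⟩ : ↥(Omega F ⇑Q))) ka kb hB1 hφ1
  rw [show ap ((⟨k, hk⟩ : ↥(Omega F ⇑Q)) : IsoGrp Q) φ = φ from kφ] at this
  exact (mem_AV.1 this).2

/-- With an exceptional block, no other block sees a singular point. -/
theorem kk_excl (H : Base Q) (hq : 4 ≤ Fintype.card F) (hab : HPair Q a b) [Nonempty X]
    (hs : Small Q X) {B : Finset X} (hB : B ∈ blocks (vact H hab)) (hS : Spec H hab B)
    {B' : Finset X} (hB' : B' ∈ blocks (vact H hab)) {v : ι → F} (hv : v ∈ AV H hab B')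
    (hv0 : v ≠ 0) (hQv : Q v = 0) : Spec H hab B' := by
  classical
  by_contra hn
  obtain ⟨hvW, hvA⟩ := mem_AV.1 hv
  have h1 := kk_sing_le H hq hab hs (φ := ⟨v, hvW⟩) (fun h => hv0 (congrArg Subtype.val h)) hQv
  have h2 := spec_many H hq hab hB hS (φ := ⟨v, hvW⟩) (fun h => hv0 (congrArg Subtype.val h)) hQv
  have h3 : insert B' ((blocks (X := X) (vact H hab)).filter fun C =>
      Spec H hab C ∧ (⟨v, hvW⟩ : ↥(perp Q a b)) ∈ Ab (vact H hab) C) ⊆
      (blocks (X := X) (vact H hab)).filter fun C =>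
        (⟨v, hvW⟩ : ↥(perp Q a b)) ∈ Ab (vact H hab) C := by
    intro C hC
    rcases Finset.mem_insert.1 hC with rfl | hC
    · exact Finset.mem_filter.2 ⟨hB', hvA⟩
    · obtain ⟨h, -, h'⟩ := Finset.mem_filter.1 hC
      exact Finset.mem_filter.2 ⟨h, h'⟩
  have h4 := Finset.card_le_card h3
  rw [Finset.card_insert_of_notMem fun h => hn (Finset.mem_filter.1 h).2.1] at h4
  rw [kk] at h1
  omega

/-- Two orbits of subspaces among the blocks are too many. -/
theorem spec_contra (H : Base Q) (hq : 4 ≤ Fintype.card F) (hab : HPair Q a b) [Nonempty X]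
    (hs : Small Q X) {B : Finset X} (hB : B ∈ blocks (vact H hab)) (hS : Spec H hab B) {m : ℕ}
    (hc : 2 * ((Fintype.card F + 1) * (cnt Q (perp Q a b) 0 - 1)) ≤
      m * (Fintype.card F ^ finrank F (spanA H hab B) - 1))
    (hm : m ≤ (blocks (X := X) (vact H hab)).card) : False := by
  classical
  obtain ⟨v, hv, hv0, hQv⟩ := exists_AV_ne hS
  have hne : (⟨v, AV_le hv⟩ : ↥(perp Q a b)) ≠ 0 := fun h => hv0 (congrArg Subtype.val h)
  have h1 := sing_bound (X := X) H hab hne hQv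
  have h2 := spec_many H hq hab hB hS hne hQv
  have h3 : Fintype.card F + 1 ≤ kk (vact H hab) X ⟨v, AV_le hv⟩ :=
    h2.trans (Finset.card_le_card fun C hC =>
      Finset.mem_filter.2 ⟨(Finset.mem_filter.1 hC).1, (Finset.mem_filter.1 hC).2.2⟩)
  have hn : m + (Fintype.card F + 1) * (cnt Q (perp Q a b) 0 - 1) ≤ Fintype.card X :=
    le_trans (Nat.add_le_add hm (Nat.mul_le_mul_right _ h3)) h1
  obtain ⟨hWnd, hWd⟩ := finrank_perp_eq H.nd hab
  rw [Small, cnt_top H hab] at hs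
  obtain ⟨S, hS'⟩ : ∃ S, cnt Q (perp Q a b) 0 = S + 1 :=
    ⟨_, (Nat.sub_add_cancel (one_le_cnt_zero _)).symm⟩
  rw [hS'] at hs hc hn
  rw [Nat.add_sub_cancel] at hc hn
  rcases hS.2 with ⟨hd, hj⟩ | ⟨hd, hj⟩
  · rw [hd] at hs; rw [hj] at hc
    refine arith_five hq ?_ hc hn hs
    have hl := le_cnt_zero hWnd (le_of_eq hd.symm)
    rw [hd, hS'] at hl
    obtain ⟨r, hr⟩ : ∃ r, Fintype.card F = r + 1 :=
      ⟨_, (Nat.sub_add_cancel (Fintype.card_pos (α := F))).symm⟩
    rw [hr, Nat.add_sub_cancel] at hl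
    rw [hr]
    norm_num at hl
    nlinarith
  · rw [hd] at hs; rw [hj] at hc
    refine arith_six hq ?_ hc hn hs
    rw [← hS']
    exact cnt_six hWnd hd (spanA_le H hab B) hS.1 hj

/-- No fixed block and no exceptional block. -/
theorem spec_false (H : Base Q) (hq : 4 ≤ Fintype.card F) (hab : HPair Q a b) [Nonempty X]
    (hs : Small Q X)
    (hnf : ∀ {c e : ι → F} (hce : HPair Q c e), ∀ B ∈ blocks (X := X) (vact H hce), AV H hce B ≠ ⊥)
    {B : Finset X} (hB : B ∈ blocks (vact H hab)) : ¬ Spec H hab B := by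
  classical
  intro hS
  have h7 := H.seven
  obtain ⟨hWnd, hWd⟩ := finrank_perp_eq H.nd hab
  set T := spanA H hab B with hTd
  have hj : 2 ≤ finrank F T := by rcases hS.2 with ⟨-, h⟩ | ⟨-, h⟩ <;> rw [hTd] <;> omega
  obtain ⟨s, hs1, hs2⟩ := orbit_count H (by omega) hab (spanA_le H hab B) hS.1 hj
  -- each subspace of the orbit is the span of one block only
  have huniq : ∀ B' ∈ blocks (vact H hab), spanA H hab B' = T → B' = B := by
    intro B' hB' hBT
    by_contra hne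
    refine spec_contra H hq hab hs hB hS (m := 2 * s.card) ?_ ?_
    · rw [mul_assoc]; exact Nat.mul_le_mul_left 2 hs2
    · have : ∀ T' ∈ s, 2 ≤ ((blocks (X := X) (vact H hab)).filter
          fun C => spanA H hab C = T').card := by
        intro T' hT'
        obtain ⟨g, hg, ga, gb, rfl⟩ := hs1 T' hT'
        refine le_of_eq_of_le (Finset.card_pair ?_).symm (Finset.card_le_card
          (s := {(⟨g, hg⟩ : ↥(Omega F ⇑Q)) • B, (⟨g, hg⟩ : ↥(Omega F ⇑Q)) • B'}) fun C hC => ?_)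
        · exact fun h => hne (smul_left_cancel _ h).symm
        · simp only [Finset.mem_insert, Finset.mem_singleton] at hC
          rcases hC with rfl | rfl
          · exact Finset.mem_filter.2 ⟨move_mem_blocks H hab hab ga gb hB,
              spanA_move H hab hab ga gb hB⟩
          · refine Finset.mem_filter.2 ⟨move_mem_blocks H hab hab ga gb hB', ?_⟩
            rw [spanA_move H hab hab ga gb hB', hBT]
      calc 2 * s.card = ∑ _T ∈ s, 2 := by rw [Finset.sum_const, smul_eq_mul, mul_comm]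
        _ ≤ _ := Finset.sum_le_sum this
        _ = _ := (Finset.card_biUnion fun T1 _ T2 _ hne => Finset.disjoint_filter.2
              fun C _ h1 h2 => hne (h1 ▸ h2)).symm
        _ ≤ _ := Finset.card_le_card fun C hC => by
              obtain ⟨_, -, h⟩ := Finset.mem_biUnion.1 hC
              exact (Finset.mem_filter.1 h).1
  obtain ⟨μ, hμ, hμ1, hμs⟩ := exists_scalar (F := F) hq
  obtain ⟨z, hz, hzW⟩ := exists_lev_sq H hab hμ hμs
  have hzB : z • B = B := by
    refine huniq _ (smul_mem_blocks _ (lev_norm H hab hz) hB) ?_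
    obtain ⟨z', hz', hz'W⟩ : ∃ z', Lev z' a b μ⁻¹ ∧
        (∀ v ∈ perp Q a b, ap (z' : IsoGrp Q) v = v) ∧ True ∧ z' = z⁻¹ := by
      refine ⟨z⁻¹, ⟨inv_ne_zero hμ, ?_, ?_⟩, fun v hv => ?_, trivial, rfl⟩
      · refine ap_inj (z : IsoGrp Q) ?_
        rw [ap_inv', map_smul, hz.left, inv_smul_smul₀ hμ]
      · refine ap_inj (z : IsoGrp Q) ?_
        rw [ap_inv', map_smul, hz.right, inv_inv, smul_inv_smul₀ hμ]
      · refine ap_inj (z : IsoGrp Q) ?_
        rw [ap_inv', hzW v hv]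
    refine le_antisymm ?_ (spanA_fix H hab hz hzW B)
    have := spanA_fix H hab hz' hz'W.1 (z • B)
    rwa [hz'W.2.2, inv_smul_smul] at this
  obtain ⟨x, hxB, hx⟩ := fix_point H hab hB hμ1 hz hzW hzB
  -- a point of `T`
  obtain ⟨t, ht, ht0⟩ := (Submodule.ne_bot_iff T).1 fun h => by rw [h, finrank_bot] at hj; omega
  have htW := spanA_le H hab B ht
  obtain ⟨t', ht', htp⟩ := exists_hpair_in hWnd htW (hS.1 t ht) ht0
  obtain ⟨hUnd, hUd⟩ := ndOn_cut hWnd htp htW ht'
  obtain ⟨hat, hbt⟩ := mem_perp.1 htW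
  obtain ⟨hat', hbt'⟩ := mem_perp.1 ht'
  have hQt : Q t = 0 := hS.1 t ht
  have hfixU : ∀ u ∈ perp Q a b ⊓ perp Q t t', el H t u • x = x := by
    intro u hu
    have htu : polar ⇑Q t u = 0 := (mem_perp.1 hu.2).1
    obtain ⟨hau, hbu⟩ := mem_perp.1 hu.1
    have ga : ap (el H t u : IsoGrp Q) a = a := by
      simp [el_coe, eich_ap hQt htu, pl_comm Q t a, pl_comm Q u a, hat, hau]
    have gb : ap (el H t u : IsoGrp Q) b = b := by
      simp [el_coe, eich_ap hQt htu, pl_comm Q t b, pl_comm Q u b, hbt, hbu]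
    refine hx _ ga gb (huniq _ (move_mem_blocks H hab hab ga gb hB) ?_)
    rw [spanA_move H hab hab ga gb hB]
    refine OrthAct.map_ap_eq_of_mapsTo fun v hv => ?_
    rw [el_coe, eich_ap hQt htu, polar_ts hS.1 ht hv, zero_smul, add_zero, mul_zero, add_zero]
    exact sub_mem hv (T.smul_mem _ ht)
  have hfixA : ∀ k : F, el H t (k • a) • x = x := by
    intro k
    have e : el H t (k • a) = el H a ((-k) • t) := by
      refine Subtype.ext (ext_ap fun v => ?_)
      show ap (eich Q t (k • a)) v = ap (eich Q a ((-k) • t)) v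
      rw [eich_ap hQt (by rw [pl_smul_right, pl_comm, hat, mul_zero]),
        eich_ap hab.qe (by rw [pl_smul_right, hat, mul_zero]), Q_smul, Q_smul, hQt, hab.qe,
        pl_smul_left, pl_smul_left]
      module
    rw [e]
    refine fix_of_orth H hab hB hxB (Submodule.smul_mem _ _ htW) fun v hv => ?_
    rw [pl_smul_right, polar_ts hS.1 (Submodule.subset_span hv) ht, mul_zero]
  set B' := orb (vact H htp) x with hB'd
  have hB' : B' ∈ blocks (vact H htp) := (mem_blocks _).2 ⟨x, rfl⟩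
  have hxB' : x ∈ B' := self_mem_orb _ x
  have hline : ∀ v ∈ AV H htp B', v ∈ (F ∙ a) := by
    intro v hv
    obtain ⟨htv, ht'v⟩ := mem_perp.1 (AV_le hv)
    have hU : perp Q a b ⊓ perp Q t t' ≤ perp Q t t' := inf_le_right
    have hA : (F ∙ a) ≤ perp Q t t' := by
      rw [Submodule.span_singleton_le_iff_mem, mem_perp]
      exact ⟨by rw [pl_comm, hat], by rw [pl_comm, hat']⟩
    have h1 := orth_of_fix H htp hB' hxB' hA (fun u hu => by
      obtain ⟨k, rfl⟩ := Submodule.mem_span_singleton.1 hu; exact hfixA k) hv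
      (Submodule.mem_span_singleton_self a)
    have hwm : wPart Q a b v ∈ perp Q a b ⊓ perp Q t t' := by
      refine ⟨hab.wPart_mem v, mem_perp.2 ⟨?_, ?_⟩⟩
      · simp [wPart, pl_sub_right, pl_smul_right, pl_comm Q t a, pl_comm Q t b, hat, hbt, htv]
      · simp [wPart, pl_sub_right, pl_smul_right, pl_comm Q t' a, pl_comm Q t' b, hat', hbt', ht'v]
    have hw0 : wPart Q a b v = 0 := by
      by_contra hne
      obtain ⟨u, hu, hvu⟩ := hUnd _ hwm hne
      apply hvu
      have h2 := orth_of_fix H htp hB' hxB' hU hfixU hv hu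
      obtain ⟨hau, hbu⟩ := mem_perp.1 hu.1
      simp [wPart, pl_sub_left, pl_smul_left, hau, hbu, h2]
    rw [Submodule.mem_span_singleton]
    refine ⟨polar ⇑Q b v, ?_⟩
    have hd := decomp (Q := Q) a b v
    rw [hw0, show polar ⇑Q a v = 0 by rw [pl_comm]; exact h1] at hd
    rw [zero_smul, add_zero, add_zero] at hd
    exact hd.symm
  obtain ⟨g, hg, ga, gb⟩ := exists_pair_omega (good_of_base H) h7 hab htp
  have hS2 := spec_move H hab htp (g := ⟨g, hg⟩) ga gb hB hS
  obtain ⟨v, hv, hv0⟩ : ∃ v ∈ AV H htp B', v ≠ 0 := by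
    by_contra! h
    exact hnf htp B' hB' ((AddSubgroup.eq_bot_iff_forall _).2 h)
  have hQv : Q v = 0 := by
    obtain ⟨k, rfl⟩ := Submodule.mem_span_singleton.1 (hline v hv)
    rw [Q_smul, hab.qe, mul_zero]
  have hS3 := kk_excl H hq htp hs (move_mem_blocks H hab htp (g := ⟨g, hg⟩) ga gb hB) hS2 hB' hv hv0 hQv
  have hle : finrank F (spanA H htp B') ≤ 1 := by
    refine le_trans (Submodule.finrank_mono (Submodule.span_le.2 hline)) ?_
    rw [finrank_span_singleton hab.ne_zero]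
  rcases hS3.2 with ⟨-, h⟩ | ⟨-, h⟩ <;> omega

end Cfsg.Agent.MinIndex
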