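import Mathlib

/-!
# Annihilators for a bilinear pairing over a finite field

* `chr F` : a fixed non-trivial additive character of `F`
* `ann B R` : the vectors `φ` with `chr (B φ r) = 1` on `R`
* `card_ann_mul` : `|ann B R| |R| = |W|`
* `mem_of_ann` : `R` is recovered from its annihilator
-/

set_option autoImplicit false

namespace Cfsg.Agent.MinIndex

open LinearMap (BilinForm)

variable (F : Type*) [Field F] [Finite F]

theorem exists_chr : ∃ χ : AddChar F ℂ, χ ≠ 1 := by
  obtain ⟨χ, h⟩ := (AddChar.exists_apply_ne_zero (α := F)).2 (one_ne_zero : (1 : F) ≠ 0)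
  exact ⟨χ, fun e => h (by simp [e])⟩

/-- A fixed non-trivial additive character. -/
noncomputable def chr : AddChar F ℂ := (exists_chr F).choose

theorem chr_ne_one : chr F ≠ 1 := (exists_chr F).choose_spec

variable {F} {W : Type*} [AddCommGroup W] [Module F W]

/-- The annihilator of an additive subgroup. -/
noncomputable def ann (B : BilinForm F W) (R : AddSubgroup W) : AddSubgroup W where
  carrier := {φ | ∀ r ∈ R, chr F (B φ r) = 1}
  zero_mem' r _ := by simp
  add_mem' hx hy r hr := by simp [map_add, LinearMap.add_apply, AddChar.map_add_eq_mul, hx r hr, hy r hr]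
  neg_mem' hx r hr := by
    simp [LinearMap.neg_apply, AddChar.map_neg_eq_inv, hx r hr]

theorem mem_ann {B : BilinForm F W} {R : AddSubgroup W} {φ : W} :
    φ ∈ ann B R ↔ ∀ r ∈ R, chr F (B φ r) = 1 := Iff.rfl

theorem ann_anti (B : BilinForm F W) {R S : AddSubgroup W} (h : R ≤ S) : ann B S ≤ ann B R :=
  fun _ hx r hr => hx r (h hr)

/-- A linear functional that is not zero has non-trivial character values. -/
theorem exists_chr_ne {l : W →ₗ[F] F} (hl : l ≠ 0) : ∃ w, chr F (l w) ≠ 1 := by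
  obtain ⟨a, ha⟩ := AddChar.ne_one_iff.1 (chr_ne_one F)
  exact ⟨_, (LinearMap.surjective hl a).choose_spec.symm ▸ ha⟩

variable [Finite W]

omit [Finite W] in
theorem sum_chr_eq_zero [Fintype W] {l : W →ₗ[F] F} (hl : l ≠ 0) : ∑ w, chr F (l w) = 0 := by
  refine AddChar.sum_eq_zero_of_ne_one (ψ := (chr F).compAddMonoidHom l.toAddMonoidHom) ?_
  obtain ⟨w, hw⟩ := exists_chr_ne hl
  exact AddChar.ne_one_iff.2 ⟨w, hw⟩

theorem sum_subgroup [Fintype W] (B : BilinForm F W) (R : AddSubgroup W) [Fintype R] (φ : W)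
    [Decidable (φ ∈ ann B R)] :
    ∑ r : R, chr F (B φ (r : W)) = if φ ∈ ann B R then (Fintype.card R : ℂ) else 0 := by
  split_ifs with h
  · rw [Finset.sum_congr rfl fun (r : R) _ => h r r.2]
    simp
  · refine AddChar.sum_eq_zero_of_ne_one
      (ψ := (chr F).compAddMonoidHom ((B φ).toAddMonoidHom.comp R.subtype)) ?_
    rw [mem_ann] at h
    push Not at h
    obtain ⟨r, hr, hr'⟩ := h
    exact AddChar.ne_one_iff.2 ⟨⟨r, hr⟩, hr'⟩

/-- `|ann R| |R| = |W|`. -/
theorem card_ann_mul {B : BilinForm F W} (hB : ∀ x, x ≠ 0 → ∃ y, B y x ≠ 0) (R : AddSubgroup W) :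
    Nat.card (ann B R) * Nat.card R = Nat.card W := by
  classical
  haveI := Fintype.ofFinite W
  have h1 : ∑ φ : W, ∑ r : R, chr F (B φ (r : W)) =
      ((Fintype.card (ann B R) * Fintype.card R : ℕ) : ℂ) := by
    rw [Finset.sum_congr rfl fun φ _ => sum_subgroup B R φ, ← Finset.sum_filter, Finset.sum_const,
      ← Fintype.card_subtype]
    push_cast [nsmul_eq_mul]
    ring
  have h2 : ∑ φ : W, ∑ r : R, chr F (B φ (r : W)) = ((Fintype.card W : ℕ) : ℂ) := by
    rw [Finset.sum_comm, Finset.sum_eq_single (0 : R)]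
    · simp
    · intro r _ hr
      refine sum_chr_eq_zero (l := B.flip (r : W)) fun h0 => ?_
      obtain ⟨y, hy⟩ := hB (r : W) (by simpa using hr)
      exact hy (LinearMap.congr_fun h0 y)
    · simp
  rw [Nat.card_eq_fintype_card, Nat.card_eq_fintype_card, Nat.card_eq_fintype_card]
  exact_mod_cast h1.symm.trans h2

/-- A vector killed by the whole annihilator of `R` lies in `R`. -/
theorem mem_of_ann {B : BilinForm F W} (hB : ∀ x, x ≠ 0 → ∃ y, B y x ≠ 0) {R : AddSubgroup W}
    {w : W} (h : ∀ φ ∈ ann B R, chr F (B φ w) = 1) : w ∈ R := by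
  have hle : ann B R ≤ ann B (R ⊔ AddSubgroup.zmultiples w) := by
    intro φ hφ r hr
    obtain ⟨y, hy, z, hz, rfl⟩ := AddSubgroup.mem_sup.1 hr
    obtain ⟨n, rfl⟩ := AddSubgroup.mem_zmultiples_iff.1 hz
    rw [map_add, AddChar.map_add_eq_mul, hφ y hy, one_mul, map_zsmul, AddChar.map_zsmul_eq_zpow,
      h φ hφ, one_zpow]
  have e := le_antisymm hle (ann_anti B le_sup_left)
  have h1 := card_ann_mul hB R
  have h2 := card_ann_mul hB (R ⊔ AddSubgroup.zmultiples w)
  rw [← e, ← h1] at h2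
  have h0 : 0 < Nat.card (ann B R) := Nat.card_pos
  have h3 := Nat.eq_of_mul_eq_mul_left h0 h2
  have h4 : R = R ⊔ AddSubgroup.zmultiples w :=
    AddSubgroup.eq_of_le_of_card_ge le_sup_left h3.le
  rw [h4]
  exact AddSubgroup.mem_sup_right (AddSubgroup.mem_zmultiples w)

omit [Finite W] in
theorem ann_bot (B : BilinForm F W) : ann B ⊥ = ⊤ := by
  refine eq_top_iff.2 fun φ _ r hr => ?_
  rw [AddSubgroup.mem_bot] at hr
  simp [hr]

theorem eq_top_of_ann_eq_bot {B : BilinForm F W} (hB : ∀ x, x ≠ 0 → ∃ y, B y x ≠ 0)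
    {R : AddSubgroup W} (h : ann B R = ⊥) : R = ⊤ :=
  eq_top_iff.2 fun w _ => mem_of_ann hB fun φ hφ => by
    rw [h, AddSubgroup.mem_bot] at hφ
    simp [hφ]

end Cfsg.Agent.MinIndex
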