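import Cfsg.Agent.Lib.MinIndex.SmallSetup

/-!
# Orbits of a root group, two and three elements

* `two_values_false` : two norms of vectors lying in `q` annihilators are too many
* `ts_false`, `aniso_false` : the planes and larger subspaces with one norm
* `classify_small` : every annihilator is `0`, everything, or a line
-/

set_option autoImplicit false
set_option linter.unusedSectionVars false
set_option linter.style.haveILetI false

namespace Cfsg.Agent.MinIndex

open Cfsg Matrix Module Cfsg.Agent.Orth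
open Cfsg.Agent.AutPOmega (NdOn ndOn_cut exists_hpair_in exists_hpair_of_three finrank_perp_eq Base)
open QuadraticMap (polar)
open scoped Pointwise

variable {ι : Type} [Fintype ι] [DecidableEq ι] {F : Type*} [Field F] [Fintype F]
variable {Q : QuadraticForm F (ι → F)} {a b : ι → F}
variable {X : Type*} [MulAction ↥(Omega F ⇑Q) X] [Fintype X] [DecidableEq X] [Nonempty X]

attribute [local instance] fintypeSub

open scoped Classical in
theorem class_card (W : Submodule F (ι → F)) (c : F) :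
    cnt Q W c ≤ (Finset.univ.filter fun v : W => Q (v : ι → F) = c ∧ v ≠ 0).card + 1 := by
  rw [cnt, Nat.card_eq_fintype_card, Fintype.card_subtype]
  refine le_trans (Finset.card_le_card (t := insert 0 ((Finset.univ.filter fun v : W =>
    Q (v : ι → F) = c ∧ v ≠ 0).map (Function.Embedding.subtype _))) fun x hx => ?_)
    ((Finset.card_insert_le _ _).trans (by rw [Finset.card_map]))
  obtain ⟨-, hxW, hQ⟩ := Finset.mem_filter.1 hx
  rcases eq_or_ne x 0 with h | h
  · exact Finset.mem_insert.2 (.inl h)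
  · exact Finset.mem_insert_of_mem (Finset.mem_map.2
      ⟨⟨x, hxW⟩, Finset.mem_filter.2 ⟨Finset.mem_univ _, hQ, by simpa using h⟩, rfl⟩)

open scoped Classical in
theorem class_card_ne (W : Submodule F (ι → F)) {c : F} (hc : c ≠ 0) :
    cnt Q W c ≤ (Finset.univ.filter fun v : W => Q (v : ι → F) = c ∧ v ≠ 0).card := by
  rw [cnt, Nat.card_eq_fintype_card, Fintype.card_subtype,
    ← Finset.card_map (Function.Embedding.subtype _) (s := Finset.univ.filter fun v : W =>
      Q (v : ι → F) = c ∧ v ≠ 0)]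
  refine Finset.card_le_card fun x hx => ?_
  obtain ⟨-, hxW, hQ⟩ := Finset.mem_filter.1 hx
  exact Finset.mem_map.2 ⟨⟨x, hxW⟩, Finset.mem_filter.2 ⟨Finset.mem_univ _, hQ, fun h => hc (by
    rw [← hQ, show x = 0 from congrArg Subtype.val h, QuadraticMap.map_zero])⟩, rfl⟩

theorem two_small (hq : Fintype.card F = 2) (c : F) : c = 0 ∨ c = 1 := by
  haveI := char_small hq Nat.prime_two
  rcases prime_small (.inl hq) c with h | h | h
  · exact .inl h
  · exact .inr h
  · exact .inr (h.trans (CharTwo.neg_eq 1))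

/-- Two norms, each vector in `q` annihilators. -/
theorem two_values_false (H : Base Q) (hab : HPair Q a b) (hs : SmallQ Q X)
    {ψ1 ψ2 : ↥(perp Q a b)} (h1 : ψ1 ≠ 0) (h2 : ψ2 ≠ 0)
    (hne : Q (ψ1 : ι → F) ≠ Q (ψ2 : ι → F)) (k1 : Fintype.card F ≤ kk (vact H hab) X ψ1)
    (k2 : Fintype.card F ≤ kk (vact H hab) X ψ2) : False := by
  classical
  obtain ⟨hWnd, hWd, hd⟩ := dim_five H hab
  set O1 := Finset.univ.filter fun v : ↥(perp Q a b) => Q (v : ι → F) = Q (ψ1 : ι → F) ∧ v ≠ 0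
  set O2 := Finset.univ.filter fun v : ↥(perp Q a b) => Q (v : ι → F) = Q (ψ2 : ι → F) ∧ v ≠ 0
  have hbd := bound (X := X) (vact H hab) (O := O1 ∪ O2) (k := Fintype.card F) (by simp [O1, O2])
    fun φ hφ => by
      rcases Finset.mem_union.1 hφ with h | h <;> obtain ⟨-, hQ, h0⟩ := Finset.mem_filter.1 h
      · exact k1.trans (kk_le_norm H hab one_ne_zero h1 h0 (by rw [hQ]; ring))
      · exact k2.trans (kk_le_norm H hab one_ne_zero h2 h0 (by rw [hQ]; ring))
  have hdis : Disjoint O1 O2 := Finset.disjoint_filter.2 fun v _ h h' => hne (h.1.symm.trans h'.1)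
  rw [Finset.card_union_of_disjoint hdis] at hbd
  have hb := blocks_pos (X := X) H hab
  have c1 := class_card (Q := Q) (perp Q a b) (Q (ψ1 : ι → F))
  have c2 := class_card (Q := Q) (perp Q a b) (Q (ψ2 : ι → F))
  have e : cnt Q (perp Q a b) (Q (ψ1 : ι → F)) + cnt Q (perp Q a b) (Q (ψ2 : ι → F)) ≤
      O1.card + O2.card + 1 := by
    by_cases h : Q (ψ1 : ι → F) = 0
    · have := class_card_ne (Q := Q) (perp Q a b) (c := Q (ψ2 : ι → F)) (fun h' => hne (h.trans h'.symm))
      show _ ≤ O1.card + O2.card + 1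
      have e1 : cnt Q (perp Q a b) (Q (ψ1 : ι → F)) ≤ O1.card + 1 := c1
      have e2 : cnt Q (perp Q a b) (Q (ψ2 : ι → F)) ≤ O2.card := this
      omega
    · have := class_card_ne (Q := Q) (perp Q a b) h
      have e1 : cnt Q (perp Q a b) (Q (ψ1 : ι → F)) ≤ O1.card := this
      have e2 : cnt Q (perp Q a b) (Q (ψ2 : ι → F)) ≤ O2.card + 1 := c2
      omega
  obtain ⟨d, hdd⟩ : ∃ d, finrank F (perp Q a b) = d := ⟨_, rfl⟩
  rw [hdd] at hd hWd
  rcases hs.cases with ⟨hq, -, hn⟩ | ⟨hq, hn, -⟩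
  · have hsum := sum_cnt_two (Q := Q) hq (perp Q a b)
    rw [hdd] at hsum
    have h01 : cnt Q (perp Q a b) (Q (ψ1 : ι → F)) + cnt Q (perp Q a b) (Q (ψ2 : ι → F)) = 2 ^ d := by
      rcases two_small hq (Q (ψ1 : ι → F)) with e1 | e1 <;>
        rcases two_small hq (Q (ψ2 : ι → F)) with e2 | e2
      · exact absurd (e1.trans e2.symm) hne
      · rw [e1, e2]; exact hsum
      · rw [e1, e2, add_comm]; exact hsum
      · exact absurd (e1.trans e2.symm) hne
    rw [show Fintype.card ι - 1 = d + 1 by omega, pow_succ] at hn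
    rw [hq] at hbd
    omega
  · have l1 := cnt_lower (Q := Q) hWnd (by omega) (Q (ψ1 : ι → F))
    have l2 := cnt_lower (Q := Q) hWnd (by omega) (Q (ψ2 : ι → F))
    rw [hdd, hq] at l1 l2
    rw [hq] at hbd
    have hY : 3 ^ (d / 2) * 3 ^ 2 ≤ 3 ^ (d - 1) := by
      rw [← pow_add]
      exact Nat.pow_le_pow_right (by norm_num) (by omega)
    rw [show Fintype.card ι - 1 = d - 1 + 2 by omega, pow_add] at hn
    norm_num at hn hY
    omega

/-- A totally singular annihilator of dimension at least two. -/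
theorem ts_false (H : Base Q) (hab : HPair Q a b) (hs : SmallQ Q X) {B : Finset X}
    (hB : B ∈ blocks (vact H hab)) (hT : ∀ v ∈ spanA H hab B, Q v = 0)
    (hj : 2 ≤ finrank F (spanA H hab B)) : False := by
  classical
  obtain ⟨hWnd, hWd, hd⟩ := dim_five H hab
  have hle := spanA_le H hab B
  have hjb := ts_bound H hab hle hT
  set T := spanA H hab B with hTd
  obtain ⟨φ, hφT, hφ0⟩ := (Submodule.ne_bot_iff T).1 fun h => by rw [h, finrank_bot] at hj; omega
  obtain ⟨φ', hφ'W, hc⟩ := exists_hpair_in hWnd (hle hφT) (hT φ hφT) hφ0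
  obtain ⟨s0, hs0, hcov⟩ := cover_images H hab hle hT hj hφT hφ'W hc
  have hk := kk_ge_images H hab hB (hle hφT) ((spanA_eq H hab hs.card B).1 hφT) hs0
  have hsb := sing_bound (X := X) H hab (φ := ⟨φ, hle hφT⟩)
    (fun h => hφ0 (congrArg Subtype.val h)) (hT φ hφT)
  obtain ⟨s1, hs1, horb⟩ := orbit_images H hab hle hT hφT hφ0 hs0
  have hs1b := blocks_ge_images H hab hB hs1
  have hb := blocks_pos (X := X) H hab
  obtain ⟨h2nd, h2d⟩ := ndOn_cut hWnd hc (hle hφT) hφ'W
  have hinf := finrank_inf_perp hc hle hT hφT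
  obtain ⟨d, hdd⟩ : ∃ d, finrank F (perp Q a b) = d := ⟨_, rfl⟩
  rw [hdd] at hd hWd hjb h2d
  obtain ⟨k, hkk⟩ : ∃ k, kk (vact H hab) X ⟨φ, hle hφT⟩ = k := ⟨_, rfl⟩
  rw [hkk] at hk hsb
  have hcov' := hcov.trans (Nat.add_le_add_right (Nat.mul_le_mul_right _ hk) 1)
  have h2step := cnt_zero_step (Q := Q) h2nd (by omega)
  obtain ⟨j, hjj⟩ : ∃ j, finrank F T = j + 1 := ⟨finrank F T - 1, by omega⟩
  rw [hjj] at hj hjb hinf horb
  rw [hjj, Nat.add_sub_cancel] at hcov'
  rw [hjj, Nat.add_sub_cancel] at hcov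
  rcases hs.cases with ⟨hq, hev, hn⟩ | ⟨hq, hn, h8⟩
  · -- two elements
    obtain ⟨t, ht⟩ := hev
    obtain ⟨h, rfl⟩ : ∃ h, d = 2 * h + 2 := ⟨t - 2, by omega⟩
    have hl := cnt_zero_even (Q := Q) hWnd hdd
    rw [hq] at hl hcov hcov' h2step horb
    rw [show Fintype.card ι - 1 = h + h + 3 by omega] at hn
    rw [show 2 * h + 1 = h + h + 1 by omega] at hl
    simp only [pow_succ, pow_add, show (2 : ℕ) - 1 = 1 from rfl, one_mul] at hn hl
    by_cases hk5 : 5 ≤ k
    · have hh : 4 ≤ 2 ^ h := le_trans (by norm_num) (Nat.pow_le_pow_right (by norm_num) (by omega : 2 ≤ h))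
      have := Nat.mul_le_mul_right (cnt Q (perp Q a b) 0 - 1) hk5
      have := Nat.mul_le_mul_right (2 ^ h) hh
      generalize 2 ^ h = A at *
      generalize A * A = P at *
      omega
    have hk4 := hcov'.trans (Nat.add_le_add_right
      (Nat.mul_le_mul_right _ (show k ≤ 4 by omega)) 1)
    rw [show finrank F ↥(perp Q a b ⊓ perp Q φ φ') - 2 = 2 * h - 2 by omega] at h2step
    have hle4 : h ≤ 3 := by
      by_contra hcon
      have h6 : 2 ^ (j + 2) ≤ 2 ^ (2 * h - 2) := Nat.pow_le_pow_right (by norm_num) (by omega)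
      rw [pow_add] at h6
      have := Nat.one_le_pow j 2 (by norm_num)
      omega
    have hj3 : j ≤ h := by omega
    have hj' : 1 ≤ j := by omega
    obtain rfl | rfl : h = 2 ∨ h = 3 := by omega
    · obtain rfl | rfl : j = 1 ∨ j = 2 := by omega
      · norm_num at hk4 h2step; omega
      · have p4 := cnt_zero_ts (Q := Q) h2nd (h := 2) (by omega)
          (inf_le_right : T ⊓ (perp Q a b ⊓ perp Q φ φ') ≤ _) (fun x hx => hT x hx.1) (by omega)
        have p6 := cnt_zero_ts (Q := Q) hWnd (h := 3) (by omega) hle hT (by omega)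
        rw [hq] at p4 p6
        norm_num at hcov p4 p6 horb hn
        have hs3 : 3 ≤ s0.card := by omega
        have hk3 : 3 ≤ k := by omega
        have e1 := Nat.mul_le_mul_right (cnt Q (perp Q a b) 0 - 1) hs3
        have e2 := Nat.mul_le_mul_right (cnt Q (perp Q a b) 0 - 1) hk3
        omega
    · by_cases hj2 : j = 3
      · subst hj2
        have p6 := cnt_zero_ts (Q := Q) h2nd (h := 3) (by omega)
          (inf_le_right : T ⊓ (perp Q a b ⊓ perp Q φ φ') ≤ _) (fun x hx => hT x hx.1) (by omega)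
        rw [hq] at p6
        norm_num at hk4 p6
        omega
      · have h6 : 2 ^ j ≤ 2 ^ 2 := Nat.pow_le_pow_right (by norm_num) (by omega)
        norm_num at h6 h2step
        omega
  · -- three elements
    have hl := cnt_lower (Q := Q) hWnd (by omega) 0
    rw [hdd] at hl
    rw [hq] at hl hcov hcov' h2step horb
    rw [show Fintype.card ι - 1 = d + 1 by omega] at hn
    rcases Nat.lt_or_ge d 6 with hd6 | hd6
    · obtain rfl : d = 5 := by omega
      obtain rfl : j = 1 := by omega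
      have p2 := cnt_zero_odd (Q := Q) h2nd (k := 1) (by omega)
      have p5 := cnt_zero_odd (Q := Q) hWnd (k := 2) (by omega)
      rw [hq] at p2 p5
      norm_num at hcov p2 p5 horb hn
      have hs4 : 4 ≤ s0.card := by omega
      have hk4 : 4 ≤ k := by omega
      have e1 := Nat.mul_le_mul_right (cnt Q (perp Q a b) 0 - 1) hs4
      have e2 := Nat.mul_le_mul_right (cnt Q (perp Q a b) 0 - 1) hk4
      omega
    have hj' : j + 5 ≤ d := by
      rcases Nat.lt_or_ge d 7 with hd7 | hd7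
      · have hT' : ∀ x ∈ T ⊔ (F ∙ a), Q x = 0 := by
          intro x hx
          obtain ⟨y, hy, z, hz, rfl⟩ := Submodule.mem_sup.1 hx
          obtain ⟨c, rfl⟩ := Submodule.mem_span_singleton.1 hz
          rw [Q_add, Q_smul, hT y hy, hab.qe, pl_smul_right, pl_comm Q y a,
            (mem_perp.1 (hle hy)).1]
          ring
        have h1 := h8 (by omega) _ hT'
        have hdis : T ⊓ (F ∙ a) = ⊥ := by
          rw [Submodule.eq_bot_iff]
          rintro x ⟨hxT, hxa⟩
          obtain ⟨c, rfl⟩ := Submodule.mem_span_singleton.1 hxa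
          have h2 := (mem_perp.1 (hle hxT)).2
          rw [pl_smul_right, pl_comm, hab.pf, mul_one] at h2
          rw [h2, zero_smul]
        have h2 := Submodule.finrank_sup_add_finrank_inf_eq T (F ∙ a)
        rw [hdis, finrank_bot, finrank_span_singleton hab.ne_zero, hjj] at h2
        omega
      · omega
    have hk6 : 6 ≤ k := by
      by_contra hk6
      have hk5 := hcov'.trans (Nat.add_le_add_right
        (Nat.mul_le_mul_right _ (show k ≤ 5 by omega)) 1)
      rw [show finrank F ↥(perp Q a b ⊓ perp Q φ φ') - 2 = d - 4 by omega] at h2step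
      have h6 : 3 ^ (j + 1) ≤ 3 ^ (d - 4) := Nat.pow_le_pow_right (by norm_num) (by omega)
      rw [pow_succ] at h6
      have := Nat.one_le_pow j 3 (by norm_num)
      omega
    have := Nat.mul_le_mul_right (cnt Q (perp Q a b) 0 - 1) hk6
    have hY : 3 ^ (d / 2) * 3 ^ 2 ≤ 3 ^ (d - 1) := by
      rw [← pow_add]
      exact Nat.pow_le_pow_right (by norm_num) (by omega)
    rw [show d + 1 = d - 1 + 2 by omega, pow_add] at hn
    norm_num at hn hY
    omega

/-- An anisotropic plane, two elements. -/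
theorem aniso_false (H : Base Q) (hab : HPair Q a b) (hs : SmallQ Q X) (hq : Fintype.card F = 2)
    {B : Finset X} (hB : B ∈ blocks (vact H hab)) {φ φ' : ι → F} (hφ : φ ∈ AV H hab B) (hφ0 : φ ≠ 0)
    (hφ' : φ' ∈ AV H hab B) (hne : φ' ∉ (F ∙ φ))
    (hone : ∀ v ∈ AV H hab B, v ≠ 0 → Q v = 1) : False := by
  classical
  haveI := char_small hq Nat.prime_two
  have hφW := AV_le hφ
  have hφ'W := AV_le hφ'
  obtain ⟨hWnd, hWd, hd⟩ := dim_five H hab
  have h2 : (2 : F) = 0 := by exact_mod_cast CharP.cast_eq_zero F 2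
  have hneg : ∀ c : F, -c = c := fun c => CharTwo.neg_eq c
  have hval : ∀ {u v : ι → F}, u ∈ AV H hab B → v ∈ AV H hab B → u ≠ 0 → v ≠ 0 → u ≠ v →
      polar ⇑Q u v = 1 := by
    intro u v hu hv hu0 hv0 huv
    have h1 := hone _ (add_mem hu hv) fun h => huv (by
      rw [← add_right_cancel_iff (a := v), h, ← two_smul F, h2, zero_smul])
    rw [Q_add, hone u hu hu0, hone v hv hv0] at h1
    linear_combination h1 - h2
  have hφ'0 : φ' ≠ 0 := fun h => hne (h ▸ zero_mem _)
  have hφφ' : φ ≠ φ' := fun h => hne (h ▸ Submodule.mem_span_singleton_self φ)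
  have hQφ := hone φ hφ hφ0
  have hQφ' := hone φ' hφ' hφ'0
  have hp := hval hφ hφ' hφ0 hφ'0 hφφ'
  have hA : ∀ v ∈ AV H hab B, v = 0 ∨ v = φ ∨ v = φ' ∨ v = φ + φ' := by
    intro v hv
    by_contra! h
    obtain ⟨h0, h1, h2', h3⟩ := h
    have e1 := hval hv hφ h0 hφ0 h1
    have e2 := hval hv hφ' h0 hφ'0 h2'
    have e3 := hval hv (add_mem hφ hφ') h0 (fun h => hφφ' (by
      rw [← add_right_cancel_iff (a := φ'), h, ← two_smul F, h2, zero_smul])) h3
    rw [pl_add_right, e1, e2] at e3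
    exact one_ne_zero (show (1 : F) = 0 by linear_combination e3)
  set U := orthFam Q ![a, b, φ, φ'] with hU
  have hUm : ∀ {x : ι → F}, x ∈ U →
      x ∈ perp Q a b ∧ polar ⇑Q φ x = 0 ∧ polar ⇑Q φ' x = 0 := fun {x} hx => by
    have hm := mem_orthFam.1 hx
    exact ⟨mem_perp.2 ⟨hm 0, hm 1⟩, hm 2, hm 3⟩
  have hUnd : NdOn Q U := by
    intro x hx hx0
    obtain ⟨hxW, hx1, hx2⟩ := hUm hx
    obtain ⟨y, hy, hxy⟩ := hWnd x hxW hx0
    set y' := y + polar ⇑Q φ' y • φ + polar ⇑Q φ y • φ' with hy'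
    have hy'W : y' ∈ perp Q a b :=
      add_mem (add_mem hy (Submodule.smul_mem _ _ hφW)) (Submodule.smul_mem _ _ hφ'W)
    refine ⟨y', mem_orthFam.2 fun i => ?_, ?_⟩
    · fin_cases i
      · exact (mem_perp.1 hy'W).1
      · exact (mem_perp.1 hy'W).2
      · show polar ⇑Q φ y' = 0
        rw [hy', pl_add_right, pl_add_right, pl_smul_right, pl_smul_right, pl_self, h2, hp]
        linear_combination (polar ⇑Q φ y) * h2
      · show polar ⇑Q φ' y' = 0
        rw [hy', pl_add_right, pl_add_right, pl_smul_right, pl_smul_right, pl_self, h2,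
          pl_comm Q φ' φ, hp]
        linear_combination (polar ⇑Q φ' y) * h2
    · rw [hy', pl_add_right, pl_add_right, pl_smul_right, pl_smul_right, pl_comm Q x φ,
        pl_comm Q x φ', hx1, hx2, mul_zero, mul_zero, add_zero, add_zero]
      exact hxy
  have hUd : 3 ≤ finrank F U := by
    have h4 : Fintype.card ι ≤ finrank F U + 4 := card_le_finrank_orthFam ![a, b, φ, φ']
    have := H.seven
    omega
  have hz := cnt_zero_step hUnd hUd
  have hz6 : 6 ≤ cnt Q U 0 := by
    have h4 : Fintype.card ι ≤ finrank F U + 4 := card_le_finrank_orthFam ![a, b, φ, φ']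
    obtain ⟨t, ht⟩ := (hs.cases.resolve_right fun h => by omega).2.1
    rw [hq] at hz
    have : (2 : ℕ) ^ 2 ≤ 2 ^ (finrank F U - 2) := Nat.pow_le_pow_right (by norm_num) (by
      have := H.seven
      omega)
    omega
  -- the planes through `φ`
  have hspan : ∀ v, v ∈ spanA H hab B ↔ v ∈ AV H hab B := fun v => spanA_eq H hab hs.card B
  set Z := Finset.univ.filter fun x : ι → F => x ∈ U ∧ Q x = 0 with hZ
  have hZc : cnt Q U 0 = Z.card := by
    rw [cnt, Nat.card_eq_fintype_card, Fintype.card_subtype]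
  set pl : (ι → F) → Submodule F (ι → F) := fun x => (spanA H hab B).map (ap (eich Q x φ)) with hpl
  have hmove : ∀ {x : ι → F}, x ∈ U → Q x = 0 → ap (eich Q x φ) a = a ∧ ap (eich Q x φ) b = b ∧
      ap (eich Q x φ) φ = φ ∧ ap (eich Q x φ) φ' = φ' + x := by
    intro x hx hQx
    obtain ⟨hxW, hx1, hx2⟩ := hUm hx
    obtain ⟨hax, hbx⟩ := mem_perp.1 hxW
    obtain ⟨haφ, hbφ⟩ := mem_perp.1 hφW
    have hxφ : polar ⇑Q x φ = 0 := by rw [pl_comm, hx1]
    refine ⟨?_, ?_, ?_, ?_⟩
    · simp [eich_ap hQx hxφ, pl_comm Q x a, pl_comm Q φ a, hax, haφ]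
    · simp [eich_ap hQx hxφ, pl_comm Q x b, pl_comm Q φ b, hbx, hbφ]
    · simp [eich_ap hQx hxφ, hxφ, h2]
    · rw [eich_ap hQx hxφ, pl_comm Q x φ', hx2, zero_smul, add_zero, hp, mul_zero, add_zero,
        one_smul, sub_eq_add_neg, ← neg_one_smul F x, hneg 1, one_smul]
  have hinj : Set.InjOn pl Z := by
    intro x hx y hy hxy
    obtain ⟨-, hxU, hQx⟩ := Finset.mem_filter.1 hx
    obtain ⟨-, hyU, hQy⟩ := Finset.mem_filter.1 hy
    have hm : φ' + y ∈ pl x := by
      rw [hxy, ← (hmove hyU hQy).2.2.2]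
      exact Submodule.mem_map_of_mem ((hspan _).2 hφ')
    obtain ⟨v, hv, hve⟩ := hm
    obtain ⟨-, hx1, hx2⟩ := hUm hxU
    obtain ⟨-, hy1, hy2⟩ := hUm hyU
    rcases hA v ((hspan v).1 hv) with h | h | h | h <;> rw [h] at hve
    · rw [map_zero] at hve
      have := congrArg (polar ⇑Q φ) hve
      rw [pl_zero_right, pl_add_right, hp, hy1, add_zero] at this
      exact absurd this.symm one_ne_zero
    · rw [(hmove hxU hQx).2.2.1] at hve
      have := congrArg (polar ⇑Q φ) hve
      rw [pl_add_right, hp, hy1, add_zero, pl_self, h2, zero_mul] at this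
      exact absurd this.symm one_ne_zero
    · rw [(hmove hxU hQx).2.2.2] at hve
      exact add_left_cancel hve
    · rw [map_add, (hmove hxU hQx).2.2.1, (hmove hxU hQx).2.2.2] at hve
      have := congrArg (polar ⇑Q φ') hve
      rw [pl_add_right, pl_add_right, pl_add_right, pl_comm Q φ' φ, hp, hx2, hy2] at this
      exact absurd (show (1 : F) = 0 by linear_combination this) one_ne_zero
  have hk := kk_ge_images H hab hB hφW hφ (s := Z.image pl) fun T hT => by
    obtain ⟨x, hx, rfl⟩ := Finset.mem_image.1 hT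
    obtain ⟨-, hxU, hQx⟩ := Finset.mem_filter.1 hx
    obtain ⟨ga, gb, gφ, -⟩ := hmove hxU hQx
    exact ⟨_, H.eich_mem x φ, ga, gb, gφ, rfl⟩
  rw [Finset.card_image_of_injOn hinj, ← hZc] at hk
  set O := Finset.univ.filter fun v : ↥(perp Q a b) => Q (v : ι → F) = 1 ∧ v ≠ 0
  have hbd := bound (X := X) (vact H hab) (O := O) (k := 6) (by simp [O]) fun ψ hψ => by
    obtain ⟨-, hQ, h0⟩ := Finset.mem_filter.1 hψ
    exact (hz6.trans hk).trans (kk_le_norm H hab one_ne_zero
      (fun h => hφ0 (congrArg Subtype.val h)) h0 (by rw [hQ, show Q φ = 1 from hQφ]; ring))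
  have hb := blocks_pos (X := X) H hab
  have hO : cnt Q (perp Q a b) 1 ≤ O.card := class_card_ne (perp Q a b) one_ne_zero
  have hl := cnt_lower (Q := Q) hWnd (by omega) 1
  rcases hs.cases with ⟨-, ⟨t, ht⟩, hn⟩ | ⟨h3, -⟩
  swap
  · omega
  obtain ⟨h, hh⟩ : ∃ h, finrank F (perp Q a b) = 2 * h + 2 := ⟨t - 2, by omega⟩
  rw [hh, hq, show 2 * h + 2 - 1 = h + h + 1 by omega, show (2 * h + 2) / 2 = h + 1 by omega] at hl
  rw [show Fintype.card ι - 1 = h + h + 3 by omega] at hn
  simp only [pow_succ, pow_add] at hn hl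
  have hh4 : 4 ≤ 2 ^ h :=
    le_trans (by norm_num) (Nat.pow_le_pow_right (by norm_num) (by omega : 2 ≤ h))
  have := Nat.mul_le_mul_right (2 ^ h) hh4
  generalize 2 ^ h = A at *
  generalize A * A = P at *
  omega

/-- The kinds of blocks. -/
theorem classify_small (H : Base Q) (hab : HPair Q a b) (hs : SmallQ Q X)
    {B : Finset X} (hB : B ∈ blocks (vact H hab)) :
    AV H hab B = ⊥ ∨ Top H hab B ∨ Line H hab B := by
  classical
  by_cases hbot : AV H hab B = ⊥
  · exact .inl hbot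
  refine .inr ?_
  obtain ⟨φ, hφ, hφ0⟩ : ∃ φ ∈ AV H hab B, φ ≠ 0 := by
    by_contra! h
    exact hbot ((AddSubgroup.eq_bot_iff_forall _).2 h)
  by_cases hl : ∀ v ∈ AV H hab B, v ∈ (F ∙ φ)
  · exact .inr ⟨hbot, φ, AV_le hφ, hφ0, hl⟩
  push Not at hl
  obtain ⟨φ', hφ', hne⟩ := hl
  refine .inl ?_
  have hq := hs.card
  obtain ⟨hWnd, hWd, hd⟩ := dim_five H hab
  -- another independent vector
  have hother : ∀ ψ : ι → F, ψ ≠ 0 → ∃ ψ' ∈ AV H hab B, ψ' ∉ (F ∙ ψ) := by
    intro ψ hψ0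
    by_cases h : φ ∈ (F ∙ ψ)
    · refine ⟨φ', hφ', fun h' => hne ?_⟩
      have e : (F ∙ φ) = (F ∙ ψ) := Submodule.eq_of_le_of_finrank_le
        (by rwa [Submodule.span_singleton_le_iff_mem])
        (by rw [finrank_span_singleton hψ0, finrank_span_singleton hφ0])
      rwa [e]
    · exact ⟨φ, hφ, h⟩
  let Big : (ι → F) → Prop := fun ψ => ∀ v ∈ perp Q a b, polar ⇑Q ψ v = 0 → v ∈ AV H hab B
  by_cases hbig : ∃ φ1 ∈ AV H hab B, φ1 ≠ 0 ∧ Big φ1 ∧
      ∃ φ2 ∈ AV H hab B, φ2 ∉ (F ∙ φ1) ∧ Big φ2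
  · obtain ⟨φ1, h1, h10, hb1, φ2, h2, h21, hb2⟩ := hbig
    obtain ⟨y, hy, hy1, hy2⟩ := exists_sep hWnd (AV_le h2) (AV_le h1) h10 h21
    intro v hv
    have := add_mem (hb2 (v - (polar ⇑Q φ2 v / polar ⇑Q φ2 y) • y)
      (sub_mem hv (Submodule.smul_mem _ _ hy))
      (by rw [pl_sub_right, pl_smul_right, div_mul_cancel₀ _ hy2, sub_self]))
      (AV_smul H hab hq (hb1 y hy hy1) (polar ⇑Q φ2 v / polar ⇑Q φ2 y))
    rwa [sub_add_cancel] at this
  exfalso
  push Not at hbig
  have hgood : ∀ ψ (hψ : ψ ∈ AV H hab B), ψ ≠ 0 → ¬ Big ψ →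
      Fintype.card F ≤ kk (vact H hab) X ⟨ψ, AV_le hψ⟩ := fun ψ hψ hψ0 hn => by
    obtain ⟨ψ', h', hn'⟩ := hother ψ hψ0
    exact (perp_or_le_kk H hab hq hB (AV_le hψ) hψ hψ0 h' hn').resolve_left hn
  by_cases hex : ∃ φ0 ∈ AV H hab B, φ0 ≠ 0 ∧ Big φ0
  · obtain ⟨φ0, h0, h00, hb0⟩ := hex
    obtain ⟨e, he, f, hf, hef, hφe, hφf⟩ := exists_pair_orth_vec hWnd hd (AV_le h0)
    have hn1 : e ∉ (F ∙ φ0) := fun hm => by
      obtain ⟨c, hc⟩ := Submodule.mem_span_singleton.1 hm
      have := hef.pf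
      rw [← hc, pl_smul_left, hφf, mul_zero] at this
      exact zero_ne_one this
    have hn2 : e + f ∉ (F ∙ φ0) := fun hm => by
      obtain ⟨c, hc⟩ := Submodule.mem_span_singleton.1 hm
      have h1 := congrArg (polar ⇑Q e) hc
      rw [pl_smul_right, pl_comm, hφe, mul_zero, pl_add_right, pl_self, hef.qe, hef.pf, mul_zero,
        zero_add] at h1
      exact zero_ne_one h1
    have hm1 : e ∈ AV H hab B := hb0 e he hφe
    have hm2 : e + f ∈ AV H hab B :=
      hb0 (e + f) (add_mem he hf) (by rw [pl_add_right, hφe, hφf, add_zero])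
    refine two_values_false H hab hs (ψ1 := ⟨e, AV_le hm1⟩) (ψ2 := ⟨e + f, AV_le hm2⟩)
      (fun h => hef.ne_zero (congrArg Subtype.val h))
      (fun h => hn2 (by rw [show e + f = 0 from congrArg Subtype.val h]; exact zero_mem _))
      ?_ (hgood e hm1 hef.ne_zero fun hb => hbig φ0 h0 h00 hb0 e hm1 hn1 hb)
      (hgood _ hm2 (fun h => hn2 (by rw [h]; exact zero_mem _))
        fun hb => hbig φ0 h0 h00 hb0 _ hm2 hn2 hb)
    show Q e ≠ Q (e + f)
    rw [Q_add, hef.qe, hef.qf, hef.pf, zero_add, zero_add]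
    exact zero_ne_one
  push Not at hex
  by_cases htwo : ∃ u ∈ AV H hab B, ∃ v ∈ AV H hab B, u ≠ 0 ∧ v ≠ 0 ∧ Q u ≠ Q v
  · obtain ⟨u, hu, v, hv, hu0, hv0, hne'⟩ := htwo
    exact two_values_false H hab hs (ψ1 := ⟨u, AV_le hu⟩) (ψ2 := ⟨v, AV_le hv⟩)
      (fun h => hu0 (congrArg Subtype.val h)) (fun h => hv0 (congrArg Subtype.val h)) hne'
      (hgood u hu hu0 (hex u hu hu0)) (hgood v hv hv0 (hex v hv hv0))
  push Not at htwo
  have hval : ∀ v ∈ AV H hab B, v ≠ 0 → Q v = Q φ := fun v hv hv0 => htwo v hv φ hφ hv0 hφ0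
  by_cases hQ : Q φ = 0
  · refine ts_false H hab hs hB (fun v hv => ?_) ?_
    · rcases eq_or_ne v 0 with rfl | hv0
      · exact QuadraticMap.map_zero Q
      · rw [hval v ((spanA_eq H hab hq B).1 hv) hv0, hQ]
    · by_contra! hj
      have he : (F ∙ φ) = spanA H hab B := Submodule.eq_of_le_of_finrank_le ?_ ?_
      · exact hne (by rw [he]; exact Submodule.subset_span hφ')
      · rw [Submodule.span_singleton_le_iff_mem]; exact Submodule.subset_span hφ
      · rw [finrank_span_singleton hφ0]; omega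
  rcases hq with hq2 | hq3
  · have h1 : Q φ = 1 := (two_small hq2 _).resolve_left hQ
    exact aniso_false H hab hs hq2 hB hφ hφ0 hφ' hne fun v hv hv0 => by rw [hval v hv hv0, h1]
  -- one norm on a plane, odd characteristic
  haveI := char_small hq3 Nat.prime_three
  have hφ'0 : φ' ≠ 0 := fun h => hne (h ▸ zero_mem _)
  have e1 := hval _ (add_mem hφ hφ') fun h => hne (Submodule.mem_span_singleton.2 ⟨-1, by
    rw [neg_one_smul]; exact neg_eq_of_add_eq_zero_right h⟩)
  have e2 := hval _ (sub_mem hφ hφ') fun h => hne (by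
    rw [sub_eq_zero.1 h]; exact Submodule.mem_span_singleton_self _)
  rw [Q_add, hval φ' hφ' hφ'0] at e1
  rw [Q_sub, hval φ' hφ' hφ'0] at e2
  have h3 : (3 : F) = 0 := by exact_mod_cast CharP.cast_eq_zero F 3
  exact hQ (by linear_combination (-1 : F) * e1 - e2 + Q φ * h3)

end Cfsg.Agent.MinIndex
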