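import Cfsg.Agent.Lib.MinIndex.OrthImages

/-!
# Lower bounds for numbers of vectors of given norm

* `cnt_lower` : `q^(d-1) ≤ cnt c + q^(d/2)`
* `cnt_zero_odd`, `cnt_zero_even`, `cnt_zero_ts` : sharper for the zeros
* `cnt_zero_step` : one hyperbolic plane
* `cnt_minus` : few zeros means at most as many as vectors of any other norm
* `exists_cnt_eq_odd`, `sum_cnt_two` : exact numbers for one norm
-/

set_option autoImplicit false
set_option linter.unusedSectionVars false

namespace Cfsg.Agent.MinIndex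

open Cfsg Matrix Module Cfsg.Agent.Orth
open Cfsg.Agent.AutPOmega (NdOn ndOn_cut exists_hpair_in exists_hpair_of_three finrank_perp_eq)
open QuadraticMap (polar)

variable {ι : Type} [Fintype ι] [DecidableEq ι] {F : Type*} [Field F] [Fintype F]
variable {Q : QuadraticForm F (ι → F)}

theorem cnt_rec {U : Submodule F (ι → F)} (hU : NdOn Q U) {e f : ι → F} (h : HPair Q e f)
    (he : e ∈ U) (hf : f ∈ U) {d : ℕ} (hd : finrank F U = d + 2) :
    NdOn Q (U ⊓ perp Q e f) ∧ finrank F ↥(U ⊓ perp Q e f) = d ∧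
      ∀ c, cnt Q U c = (Fintype.card F - 1) * Fintype.card F ^ d +
        Fintype.card F * cnt Q (U ⊓ perp Q e f) c := by
  obtain ⟨h1, h2⟩ := ndOn_cut hU h he hf
  have h3 : finrank F ↥(U ⊓ perp Q e f) = d := by omega
  exact ⟨h1, h3, fun c => by rw [cnt_pair h he hf, card_sub, h3]⟩

theorem cnt_lower {U : Submodule F (ι → F)} (hU : NdOn Q U) (h1 : 1 ≤ finrank F U) (c : F) :
    Fintype.card F ^ (finrank F U - 1) ≤ cnt Q U c + Fintype.card F ^ (finrank F U / 2) := by
  induction hd : finrank F U using Nat.strong_induction_on generalizing U with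
  | _ d ih =>
  rcases Nat.lt_or_ge d 3 with h3 | h3
  · refine le_add_left (Nat.pow_le_pow_right Fintype.card_pos ?_)
    omega
  obtain ⟨k, rfl⟩ : ∃ k, d = k + 3 := ⟨d - 3, by omega⟩
  obtain ⟨e, he, f, hf, h⟩ := exists_hpair_of_three hU (by omega)
  obtain ⟨k1, k2, k3⟩ := cnt_rec hU h he hf (d := k + 1) (by omega)
  have hi := ih (k + 1) (by omega) k1 (by omega) k2
  rw [Nat.add_sub_cancel] at hi
  rw [k3 c, show k + 3 - 1 = k + 2 by omega, show (k + 3) / 2 = (k + 1) / 2 + 1 by omega]
  obtain ⟨r, hr⟩ : ∃ r, Fintype.card F = r + 1 :=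
    ⟨_, (Nat.sub_add_cancel (Fintype.card_pos (α := F))).symm⟩
  generalize Fintype.card F = q at *
  subst hr
  simp only [Nat.add_sub_cancel] at *
  have h4 := Nat.mul_le_mul_left (r + 1) hi
  simp only [pow_succ] at h4 ⊢
  nlinarith

theorem cnt_zero_step {U : Submodule F (ι → F)} (hU : NdOn Q U) (h3 : 3 ≤ finrank F U) :
    (Fintype.card F - 1) * Fintype.card F ^ (finrank F U - 2) + Fintype.card F ≤ cnt Q U 0 := by
  obtain ⟨e, he, f, hf, h⟩ := exists_hpair_of_three hU h3
  obtain ⟨d, hd⟩ : ∃ d, finrank F U = d + 2 := ⟨finrank F U - 2, by omega⟩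
  obtain ⟨-, -, k3⟩ := cnt_rec hU h he hf hd
  rw [k3 0, hd, Nat.add_sub_cancel]
  exact Nat.add_le_add_left (Nat.le_mul_of_pos_right _ (one_le_cnt_zero _)) _

theorem cnt_zero_odd {U : Submodule F (ι → F)} (hU : NdOn Q U) {k : ℕ}
    (hk : finrank F U = 2 * k + 1) : Fintype.card F ^ (2 * k) ≤ cnt Q U 0 := by
  induction k generalizing U with
  | zero => simpa using one_le_cnt_zero U
  | succ k ih =>
    obtain ⟨e, he, f, hf, h⟩ := exists_hpair_of_three hU (by omega)
    obtain ⟨k1, k2, k3⟩ := cnt_rec hU h he hf (d := 2 * k + 1) (by omega)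
    have hi := Nat.mul_le_mul_left (Fintype.card F) (ih k1 k2)
    obtain ⟨r, hr⟩ : ∃ r, Fintype.card F = r + 1 :=
      ⟨_, (Nat.sub_add_cancel (Fintype.card_pos (α := F))).symm⟩
    generalize Fintype.card F = q at *
    subst hr
    rw [k3 0, show 2 * (k + 1) = 2 * k + 1 + 1 by omega]
    simp only [Nat.add_sub_cancel] at *
    simp only [pow_succ] at hi ⊢
    nlinarith

theorem cnt_zero_even {U : Submodule F (ι → F)} (hU : NdOn Q U) {k : ℕ}
    (hk : finrank F U = 2 * k + 2) :
    Fintype.card F ^ (2 * k + 1) ≤ cnt Q U 0 + (Fintype.card F - 1) * Fintype.card F ^ k := by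
  induction k generalizing U with
  | zero =>
    have := one_le_cnt_zero (Q := Q) U
    have := Fintype.card_pos (α := F)
    simp only [Nat.mul_zero, Nat.zero_add, pow_one, pow_zero, mul_one]
    omega
  | succ k ih =>
    obtain ⟨e, he, f, hf, h⟩ := exists_hpair_of_three hU (by omega)
    obtain ⟨k1, k2, k3⟩ := cnt_rec hU h he hf (d := 2 * k + 2) (by omega)
    have hi := Nat.mul_le_mul_left (Fintype.card F) (ih k1 k2)
    obtain ⟨r, hr⟩ : ∃ r, Fintype.card F = r + 1 :=
      ⟨_, (Nat.sub_add_cancel (Fintype.card_pos (α := F))).symm⟩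
    generalize Fintype.card F = q at *
    subst hr
    rw [k3 0, show 2 * (k + 1) + 1 = 2 * k + 1 + 1 + 1 by omega,
      show 2 * k + 2 = 2 * k + 1 + 1 by omega]
    simp only [Nat.add_sub_cancel] at *
    simp only [pow_succ] at hi ⊢
    nlinarith

/-- Hyperbolic spaces have the most zeros. -/
theorem cnt_zero_ts {U T : Submodule F (ι → F)} (hU : NdOn Q U) {h : ℕ}
    (hd : finrank F U = 2 * h) (hT : T ≤ U) (hTs : ∀ x ∈ T, Q x = 0) (hTd : finrank F T = h) :
    Fintype.card F ^ (2 * h) + (Fintype.card F - 1) * Fintype.card F ^ h ≤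
      Fintype.card F * cnt Q U 0 := by
  induction h generalizing U T with
  | zero =>
    have := Nat.mul_le_mul_left (Fintype.card F) (one_le_cnt_zero (Q := Q) U)
    have := Fintype.card_pos (α := F)
    simp only [Nat.mul_zero, pow_zero, mul_one] at *
    omega
  | succ h ih =>
    obtain ⟨e, he, he0⟩ := (Submodule.ne_bot_iff T).1 fun hb => by
      rw [hb, finrank_bot] at hTd; omega
    obtain ⟨f, hf, hef⟩ := exists_hpair_in hU (hT he) (hTs e he) he0
    obtain ⟨k1, k2, k3⟩ := cnt_rec hU hef (hT he) hf (d := 2 * h) (by omega)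
    have hTd' := finrank_inf_perp hef hT hTs he
    have hi := Nat.mul_le_mul_left (Fintype.card F)
      (ih (T := T ⊓ (U ⊓ perp Q e f)) k1 k2 inf_le_right (fun x hx => hTs x hx.1) (by omega))
    obtain ⟨r, hr⟩ : ∃ r, Fintype.card F = r + 1 :=
      ⟨_, (Nat.sub_add_cancel (Fintype.card_pos (α := F))).symm⟩
    generalize Fintype.card F = q at *
    subst hr
    rw [k3 0, show 2 * (h + 1) = 2 * h + 1 + 1 by omega]
    simp only [Nat.add_sub_cancel] at *
    simp only [pow_succ] at hi ⊢
    nlinarith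

/-- In even dimension, few zeros force at least as many vectors of every non-zero norm. -/
theorem cnt_minus {U : Submodule F (ι → F)} (hU : NdOn Q U) {k : ℕ}
    (hk : finrank F U = 2 * k + 2)
    (hlt : cnt Q U 0 + Fintype.card F ^ k < Fintype.card F ^ (2 * k + 1) + Fintype.card F ^ (k + 1))
    (c : F) : cnt Q U 0 ≤ cnt Q U c := by
  induction k generalizing U with
  | zero =>
    simp only [pow_zero, Nat.mul_zero, Nat.zero_add, pow_one] at hlt
    by_cases hiso : ∀ x ∈ U, Q x = 0 → x = 0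
    · rw [cnt_zero_of_aniso hiso]
      obtain ⟨x, hx, hQ⟩ := exists_Q_eq_in U (fun x hx hx0 => hU x hx hx0) (by omega) c
      haveI : Nonempty {x : ι → F // x ∈ U ∧ Q x = c} := ⟨⟨x, hx, hQ⟩⟩
      exact Nat.card_pos
    · push Not at hiso
      obtain ⟨e, he, hQe, he0⟩ := hiso
      obtain ⟨f, hf, h⟩ := exists_hpair_in hU he hQe he0
      obtain ⟨-, -, k3⟩ := cnt_rec hU h he hf (d := 0) (by omega)
      have := k3 0
      have := Nat.mul_le_mul_left (Fintype.card F)
        (one_le_cnt_zero (Q := Q) (U ⊓ perp Q e f))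
      have := Fintype.card_pos (α := F)
      rw [pow_zero, mul_one] at *
      omega
  | succ k ih =>
    obtain ⟨e, he, f, hf, h⟩ := exists_hpair_of_three hU (by omega)
    obtain ⟨k1, k2, k3⟩ := cnt_rec hU h he hf (d := 2 * k + 2) (by omega)
    rw [k3 0, k3 c]
    refine Nat.add_le_add_left (Nat.mul_le_mul_left _ (ih k1 k2 ?_)) _
    rw [k3 0, show 2 * (k + 1) + 1 = 2 * k + 1 + 1 + 1 by omega,
      show 2 * k + 2 = 2 * k + 1 + 1 by omega] at hlt
    obtain ⟨r, hr⟩ : ∃ r, Fintype.card F = r + 1 :=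
      ⟨_, (Nat.sub_add_cancel (Fintype.card_pos (α := F))).symm⟩
    generalize Fintype.card F = q at *
    subst hr
    simp only [Nat.add_sub_cancel] at *
    simp only [pow_succ] at hlt ⊢
    nlinarith

/-- A norm with as few vectors as possible in odd dimension. -/
theorem exists_cnt_eq_odd (h2 : (2 : F) ≠ 0) {U : Submodule F (ι → F)} (hU : NdOn Q U) {k : ℕ}
    (hk : finrank F U = 2 * k + 1) :
    ∃ c : F, c ≠ 0 ∧ cnt Q U c + Fintype.card F ^ k = Fintype.card F ^ (2 * k) := by
  induction k generalizing U with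
  | zero =>
    have hU0 : U ≠ ⊥ := fun h => by rw [h, finrank_bot] at hk; omega
    obtain ⟨u, hu, hQu⟩ := exists_ns hU hU0
    obtain ⟨t, ht⟩ := FiniteField.exists_nonsquare (F := F)
      (fun h => h2 (by have := CharP.cast_eq_zero F (ringChar F); rw [h] at this; exact_mod_cast this))
    have ht0 : t ≠ 0 := fun h => ht ⟨0, by rw [h, mul_zero]⟩
    refine ⟨t * Q u, mul_ne_zero ht0 hQu, ?_⟩
    simp only [Nat.mul_zero, pow_zero, Nat.add_eq_right]
    haveI : IsEmpty {x : ι → F // x ∈ U ∧ Q x = t * Q u} := ⟨fun ⟨x, hx, hQx⟩ => by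
      have he : U = F ∙ u := (Submodule.eq_of_le_of_finrank_le
        (by rwa [Submodule.span_singleton_le_iff_mem])
        (by rw [finrank_span_singleton (fun h => hQu (by simp [h]))]; omega)).symm
      rw [he, Submodule.mem_span_singleton] at hx
      obtain ⟨s, rfl⟩ := hx
      rw [Q_smul] at hQx
      exact ht ⟨s, (mul_right_cancel₀ hQu hQx).symm⟩⟩
    exact Nat.card_of_isEmpty
  | succ k ih =>
    obtain ⟨e, he, f, hf, h⟩ := exists_hpair_of_three hU (by omega)
    obtain ⟨k1, k2, k3⟩ := cnt_rec hU h he hf (d := 2 * k + 1) (by omega)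
    obtain ⟨c, hc, hc'⟩ := ih k1 k2
    refine ⟨c, hc, ?_⟩
    obtain ⟨r, hr⟩ : ∃ r, Fintype.card F = r + 1 :=
      ⟨_, (Nat.sub_add_cancel (Fintype.card_pos (α := F))).symm⟩
    generalize Fintype.card F = q at *
    subst hr
    rw [k3 c, show 2 * (k + 1) = 2 * k + 1 + 1 by omega]
    simp only [Nat.add_sub_cancel] at *
    have := congrArg ((r + 1) * ·) hc'
    simp only [pow_succ] at this ⊢
    nlinarith

/-- Over the field with two elements. -/
theorem sum_cnt_two (hq : Fintype.card F = 2) (U : Submodule F (ι → F)) :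
    cnt Q U 0 + cnt Q U 1 = 2 ^ finrank F U := by
  classical
  have hF : ∀ x : F, x = 0 ∨ x = 1 := by
    intro x
    by_contra! h
    have := Finset.card_le_univ ({0, 1, x} : Finset F)
    rw [Finset.card_insert_of_notMem (by simp [h.1.symm]),
      Finset.card_insert_of_notMem (by simp [h.2.symm]), Finset.card_singleton, hq] at this
    omega
  rw [← hq, ← card_sub U, cnt, cnt]
  simp only [Nat.card_eq_fintype_card, Fintype.card_subtype]
  rw [← Finset.card_union_of_disjoint]
  · congr 1
    ext x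
    simp only [Finset.mem_union, Finset.mem_filter, Finset.mem_univ, true_and]
    rcases hF (Q x) with h | h <;> simp [h]
  · exact Finset.disjoint_filter.2 fun x _ h h' => one_ne_zero (h'.2.symm.trans h.2)

end Cfsg.Agent.MinIndex
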