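import Cfsg.Agent.Lib.MinIndex.SmallClassify
import Cfsg.Agent.Lib.MinIndex.OrthFix

/-!
# A root group fixing a point, two and three elements

* `stabT_false_small`, `fix_false_small`
-/

set_option autoImplicit false
set_option linter.unusedSectionVars false
set_option linter.unusedSimpArgs false
set_option linter.style.haveILetI false

namespace Cfsg.Agent.MinIndex

open Cfsg Matrix Module Cfsg.Agent.Orth
open Cfsg.Agent.AutPOmega (NdOn ndOn_cut exists_hpair_in exists_hpair_of_three finrank_perp_eq Base)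
open QuadraticMap (polar)
open scoped Pointwise

variable {ι : Type} [Fintype ι] [DecidableEq ι] {F : Type*} [Field F] [Fintype F]
variable {Q : QuadraticForm F (ι → F)} {a b : ι → F}

attribute [local instance] fintypeSub

variable {X : Type*} [MulAction ↥(Omega F ⇑Q) X] [Fintype X] [DecidableEq X]

set_option maxHeartbeats 1600000 in
/-- Stabilisers of totally singular subspaces of dimension at least two are small. -/
theorem stabT_false_small (H : Base Q) (hab : HPair Q a b)
    {T : Submodule F (ι → F)} (hT : ∀ x ∈ T, Q x = 0) (ha : a ∈ T) (hj : 2 ≤ finrank F T)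
    (hs : SmallQ Q X) (x0 : X)
    (hx0 : ∀ g : ↥(Omega F ⇑Q), g • x0 = x0 ↔ T.map (ap (g : IsoGrp Q)) = T) : False := by
  classical
  haveI : Nonempty X := ⟨x0⟩
  have h7 := H.seven
  have hG := good_of_base H
  obtain ⟨hWnd, hWd⟩ := finrank_perp_eq H.nd hab
  have hd : 5 ≤ finrank F (perp Q a b) := by omega
  -- `R_b` is totally singular
  have hR : ∀ w ∈ perp Q a b, el H b w • x0 = x0 → w ∈ T := by
    intro w hw h
    obtain ⟨haw, hbw⟩ := mem_perp.1 hw
    have h1 : ap (el H b w : IsoGrp Q) a ∈ T := by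
      have := Submodule.mem_map_of_mem (f := ap (el H b w : IsoGrp Q)) ha
      rwa [(hx0 _).1 h] at this
    rw [el_coe, eich_ap hab.qf hbw, hab.swap.pf, pl_comm Q w a, haw, one_smul, zero_add, mul_one]
      at h1
    have h2 := polar_ts hT ha h1
    rw [pl_sub_right, pl_add_right, pl_smul_right, pl_self, hab.qe, haw, hab.pf] at h2
    have hQw : Q w = 0 := by linear_combination -h2
    rw [hQw, zero_smul, sub_zero] at h1
    simpa using sub_mem h1 ha
  obtain ⟨t, ht, htW, ht0⟩ : ∃ t ∈ T, t ∈ perp Q a b ∧ t ≠ 0 := by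
    obtain ⟨y, hy, hya⟩ := SetLike.not_le_iff_exists.1 (fun hle : T ≤ (F ∙ a) => by
      have := Submodule.finrank_mono hle
      rw [finrank_span_singleton hab.ne_zero] at this; omega)
    refine ⟨wPart Q a b y, ?_, hab.wPart_mem y, fun h => hya ?_⟩
    · rw [wPart, polar_ts hT ha hy, zero_smul, sub_zero]
      exact sub_mem hy (T.smul_mem _ ha)
    · have hd' := decomp (Q := Q) a b y
      rw [h, polar_ts hT ha hy, zero_smul, add_zero, add_zero] at hd'
      exact Submodule.mem_span_singleton.2 ⟨_, hd'.symm⟩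
  obtain ⟨hat, hbt⟩ := mem_perp.1 htW
  have htfix : el H b t • x0 = x0 := by
    refine (hx0 _).2 (OrthAct.map_ap_eq_of_mapsTo fun v hv => ?_)
    rw [el_coe, eich_ap hab.qf hbt, polar_ts hT ht hv, hT t ht]
    simpa using add_mem hv (T.smul_mem _ ht)
  set B' := orb (vact H hab.swap) x0
  have hB' : B' ∈ blocks (X := X) (vact H hab.swap) := (mem_blocks _).2 ⟨x0, rfl⟩
  have hxB' : x0 ∈ B' := self_mem_orb _ x0
  have hsw : perp Q b a = perp Q a b := perp_swap a b
  have hfix : ∀ w ∈ perp Q a b, (∀ v ∈ AV H hab.swap B', polar ⇑Q v w = 0) → w ∈ T := fun w hw h =>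
    hR w hw (fix_of_orth H hab.swap hB' hxB' (by rw [hsw]; exact hw) h)
  rcases classify_small H hab.swap hs hB' with h | h | h
  · obtain ⟨w, hw, hQw⟩ := exists_ns hWnd fun h => by rw [h, finrank_bot] at hWd; omega
    exact hQw (hT w (hfix w hw fun v hv => by
      rw [h, AddSubgroup.mem_bot] at hv
      rw [hv, pl_zero_left]))
  · obtain ⟨y, hy, hty⟩ := hWnd t htW ht0
    refine hty ?_
    rw [pl_comm]
    exact orth_of_sub H hab.swap hB' hxB' (U := perp Q a b) (fun u hu => h u (by rwa [hsw]))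
      (by rwa [hsw]) htfix hy
  · obtain ⟨-, φ, hφW, -, hφ⟩ := h
    rw [hsw] at hφW
    obtain ⟨e, he, f, hf, hef, h1, h2⟩ := exists_pair_orth_vec hWnd hd hφW
    have key : ∀ w ∈ perp Q a b, polar ⇑Q φ w = 0 → w ∈ T := fun w hw hφw => hfix w hw fun v hv => by
      obtain ⟨c, rfl⟩ := Submodule.mem_span_singleton.1 (hφ v hv)
      rw [pl_smul_left, hφw, mul_zero]
    have := polar_ts hT (key e he h1) (key f hf h2)
    rw [hef.pf] at this
    exact one_ne_zero this

/-- No block is a single fixed point. -/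
theorem fix_false_small (H : Base Q) (hab : HPair Q a b) [Nontrivial X]
    [MulAction.IsPretransitive ↥(Omega F ⇑Q) X] (hs : SmallQ Q X) {B : Finset X}
    (hB : B ∈ blocks (vact H hab)) : AV H hab B ≠ ⊥ := by
  classical
  intro hbot
  have h7 := H.seven
  obtain ⟨x, hx⟩ := (mem_blocks _).1 hB
  have hxB : x ∈ B := hx ▸ self_mem_orb _ x
  let P : (ι → F) → Prop := fun v => Q v = 0 ∧ ∀ w, polar ⇑Q v w = 0 → el H v w • x = x
  have hPa : P a := by
    refine ⟨hab.qe, fun w hw => ?_⟩
    have hd := decomp (Q := Q) a b w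
    rw [hw, zero_smul, add_zero, add_comm] at hd
    have he : el H a w = el H a (wPart Q a b w) := Subtype.ext (by
      rw [el_coe, el_coe]
      conv_lhs => rw [hd]
      exact eich_add_smul_self hab.qe (mem_perp.1 (hab.wPart_mem w)).1 _)
    rw [he]
    exact fix_of_orth H hab hB hxB (hab.wPart_mem w) fun v hv => by
      rw [hbot, AddSubgroup.mem_bot] at hv
      rw [hv, pl_zero_left]
  have hpair : ∀ v, P v → ∀ c, P c → polar ⇑Q v c = 0 := by
    intro v hv c hc
    by_contra hne
    set c' := (polar ⇑Q v c)⁻¹ • c with hc'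
    have hvc : HPair Q v c' := ⟨hv.1, by rw [hc', Q_smul, hc.1, mul_zero],
      by rw [hc', pl_smul_right, inv_mul_cancel₀ hne]⟩
    have hPc : ∀ w, polar ⇑Q c' w = 0 → el H c' w • x = x := by
      intro w hw
      rw [hc', el_smul_left]
      refine hc.2 _ ?_
      rw [hc', pl_smul_left, mul_eq_zero] at hw
      rw [pl_smul_right, hw.resolve_left (inv_ne_zero hne), mul_zero]
    have hall : ∀ g : ↥(Omega F ⇑Q), g • x = x := by
      intro g
      have hle : Omega F ⇑Q ≤
          (MulAction.stabilizer ↥(Omega F ⇑Q) x).map (Omega F ⇑Q).subtype := by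
        refine (omega_eq_eichPair (good_of_base H) (by omega) (.inr (by omega)) hvc).le.trans ?_
        rw [eichPair, Subgroup.closure_le]
        rintro _ ⟨w, hw, rfl | rfl⟩
        · exact ⟨el H v w, hv.2 w (mem_perp.1 hw).1, rfl⟩
        · exact ⟨el H c' w, hPc w (mem_perp.1 hw).2, rfl⟩
      obtain ⟨g', hg', he⟩ := hle g.2
      rw [← show g' = g from Subtype.ext he]
      exact hg'
    obtain ⟨y, hy⟩ := exists_ne x
    obtain ⟨g, rfl⟩ := MulAction.exists_smul_eq ↥(Omega F ⇑Q) x y
    exact hy (hall g)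
  set T := Submodule.span F {v | P v} with hTd
  have hT : ∀ v ∈ T, Q v = 0 := span_ts (fun v hv => hv.1) fun v hv c hc => hpair v hv c hc
  have haT : a ∈ T := Submodule.subset_span hPa
  have hle : MulAction.stabilizer ↥(Omega F ⇑Q) x ≤ stabT Q T := by
    intro g hg
    refine OrthAct.map_ap_eq_of_mapsTo fun v hv => ?_
    have hsub : T ≤ T.comap (ap (g : IsoGrp Q)) := by
      rw [hTd, Submodule.span_le]
      intro u hu
      refine Submodule.subset_span ⟨by rw [Q_ap, hu.1], fun w hw => ?_⟩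
      rw [← ap_inv' g w, ← (hg : g • x = x), el_smul_iff]
      refine hu.2 _ ?_
      rw [← polar_ap (g : IsoGrp Q), ap_inv']
      exact hw
    exact hsub hv
  haveI : Finite ↥(Omega F ⇑Q) := inferInstance
  haveI := Fintype.ofFinite (↥(Omega F ⇑Q) ⧸ stabT Q T)
  have hcard : Fintype.card (↥(Omega F ⇑Q) ⧸ stabT Q T) ≤ Fintype.card X := by
    rw [← Nat.card_eq_fintype_card, ← Nat.card_eq_fintype_card,
      ← MulAction.index_stabilizer_of_transitive ↥(Omega F ⇑Q) x, ← Subgroup.index_eq_card]
    exact Nat.le_of_dvd (Nat.pos_of_ne_zero Subgroup.index_ne_zero_of_finite)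
      (Subgroup.index_dvd_of_le hle)
  have hs2 : SmallQ Q (↥(Omega F ⇑Q) ⧸ stabT Q T) := hs.mono hcard
  have hs' := hs2.small
  rcases Nat.lt_or_ge (finrank F T) 2 with hj | hj
  swap
  · refine stabT_false_small (X := ↥(Omega F ⇑Q) ⧸ stabT Q T) H hab hT haT hj hs2 (QuotientGroup.mk 1)
      fun g => ?_
    show (QuotientGroup.mk (g * 1) : ↥(Omega F ⇑Q) ⧸ stabT Q T) = QuotientGroup.mk 1 ↔ _
    rw [mul_one, QuotientGroup.eq, mul_one, inv_mem_iff, mem_stabT]
  -- a point
  have hTa : T = (F ∙ a) := (Submodule.eq_of_le_of_finrank_le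
    (by rw [Submodule.span_singleton_le_iff_mem]; exact haT)
    (by rw [finrank_span_singleton hab.ne_zero]; omega)).symm
  haveI := isPretransitive_spt H.nd (by omega) H.hE
  have hst : stabT Q T = MulAction.stabilizer ↥(Omega F ⇑Q) (spt a hab.ne_zero hab.qe) := by
    ext g
    rw [MulAction.mem_stabilizer_iff,
      show g • spt a hab.ne_zero hab.qe = (g : IsoGrp Q) • spt a hab.ne_zero hab.qe from rfl,
      smul_spt_eq_self_iff, mem_stabT, hTa]
    constructor
    · intro h
      have h1 : ap (g : IsoGrp Q) a ∈ (F ∙ a) := by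
        rw [← h]; exact Submodule.mem_map_of_mem (Submodule.mem_span_singleton_self a)
      obtain ⟨k, hk⟩ := Submodule.mem_span_singleton.1 h1
      exact ⟨k, hk.symm⟩
    · rintro ⟨k, hk⟩
      refine OrthAct.map_ap_eq_of_mapsTo fun v hv => ?_
      obtain ⟨c, rfl⟩ := Submodule.mem_span_singleton.1 hv
      rw [map_smul, hk, smul_smul]
      exact Submodule.mem_span_singleton.2 ⟨_, rfl⟩
  rw [Small, ← Nat.card_eq_fintype_card (α := _ ⧸ _), ← Subgroup.index_eq_card, hst,
    MulAction.index_stabilizer_of_transitive, ← card_spt Q] at hs'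
  have := Fintype.one_lt_card (α := F)
  omega

end Cfsg.Agent.MinIndex
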