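import Cfsg.Agent.Lib.MinIndex.SmallTop
import Cfsg.Agent.Lib.MinIndex.OrthModels

/-!
# The minimal index of `PΩ(Q)` over the fields with two and three elements

* `pomega_of_omega` : from `Ω` to `PΩ`
* `nsLine_index` : the stabiliser of a nonsingular point
* `plus_two`, `odd_three`, `minus_small` : the three standard forms
-/

set_option autoImplicit false
set_option linter.unusedSectionVars false
set_option linter.style.haveILetI false

namespace Cfsg.Agent.MinIndex

open Cfsg Cfsg.Agent Matrix Module Cfsg.Agent.Orth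
open Cfsg.Agent.AutPOmega (NdOn ndOn_top exists_hpair_of_three Base)
open QuadraticMap (polar)

variable {ι : Type} [Fintype ι] [DecidableEq ι] {F : Type*} [Field F] [Fintype F]
variable {Q : QuadraticForm F (ι → F)}

theorem pomega_of_omega {N : ℕ}
    (hge : ∀ K : Subgroup ↥(Omega F ⇑Q), K ≠ ⊤ → N ≤ K.index) (K0 : Subgroup ↥(Omega F ⇑Q))
    (hc : Subgroup.center ↥(Omega F ⇑Q) ≤ K0) (hK0 : K0.index = N) :
    (∀ K : Subgroup (POmega F ⇑Q), K ≠ ⊤ → N ≤ K.index) ∧
      ∃ K : Subgroup (POmega F ⇑Q), K.index = N := by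
  set π := QuotientGroup.mk' (Subgroup.center ↥(Omega F ⇑Q))
  have hπ : Function.Surjective π := QuotientGroup.mk'_surjective _
  refine ⟨fun K hK => ?_, K0.map π, ?_⟩
  · rw [← Subgroup.index_comap_of_surjective K hπ]
    exact hge _ fun h => hK (by
      rw [← Subgroup.map_comap_eq_self_of_surjective hπ K, h, Subgroup.map_top_of_surjective π hπ])
  · rw [Subgroup.index_map_eq _ hπ, hK0]
    rwa [QuotientGroup.ker_mk']

theorem center_le_stabT (H : Base Q) (T : Submodule F (ι → F)) :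
    Subgroup.center ↥(Omega F ⇑Q) ≤ stabT Q T := by
  intro g hg
  obtain ⟨c, -, hc⟩ := (mem_center_omega_iff H.nd (by have := H.seven; omega) H.hE g).1 hg
  refine OrthAct.map_ap_eq_of_mapsTo fun v hv => ?_
  rw [hc]
  exact T.smul_mem _ hv

/-- The stabiliser of a nonsingular point. -/
theorem nsLine_index (H : Base Q) (hq : Fintype.card F = 2 ∨ Fintype.card F = 3) {v : ι → F}
    (hQ : Q v ≠ 0) :
    (stabT Q (F ∙ v)).index * (Fintype.card F - 1) = cnt Q ⊤ (Q v) := by
  classical
  haveI : Finite (Submodule F (ι → F)) := Finite.of_injective _ SetLike.coe_injective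
  haveI := Fintype.ofFinite (Submodule F (ι → F))
  have hG := good_of_base H
  have htr : ∀ x : ι → F, Q x = Q v → ∃ g : ↥(Omega F ⇑Q), ap (g : IsoGrp Q) v = x := by
    intro x hx
    have hli : ∀ {y : ι → F}, Q y ≠ 0 → LinearIndependent F ![y] := fun {y} hy =>
      LinearIndependent.of_subsingleton 0 (by simpa using fun h : y = 0 => hy (by simp [h]))
    obtain ⟨g, hg⟩ := exists_iso_vec H.nd (hli hQ) (hli (hx ▸ hQ))
      (fun i => by fin_cases i; simp [hx]) fun i j => by fin_cases i; fin_cases j; simp [hx]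
    obtain ⟨e, -, f, -, hef, h1, h2⟩ := exists_pair_orth_vec (ndOn_top H.nd) (by
      rw [finrank_top, finrank_space]; have := H.seven; omega) (φ := x) Submodule.mem_top
    obtain ⟨k, hk, hkf⟩ := exists_signs hG g hef
    refine ⟨⟨k * g, hk⟩, ?_⟩
    show ap (k * g) v = x
    rw [ap_mul, show ap g v = x from hg 0, hkf x h1 h2]
  set S := Finset.univ.filter fun x : ι → F => Q x = Q v with hS
  have hSc : cnt Q ⊤ (Q v) = S.card := by
    rw [cnt, Nat.card_eq_fintype_card, Fintype.card_subtype]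
    congr 1; ext x; simp [hS]
  set L := S.image fun x => (F ∙ x) with hL
  let f : ↥(Omega F ⇑Q) ⧸ stabT Q (F ∙ v) → {T // T ∈ L} := fun z =>
    Quotient.liftOn' z (fun g => ⟨(F ∙ v).map (ap (g : IsoGrp Q)), Finset.mem_image.2
      ⟨ap (g : IsoGrp Q) v, by simp [hS, Q_ap], by rw [Submodule.map_span, Set.image_singleton]⟩⟩)
      fun g h hgh => Subtype.ext (by
        rw [QuotientGroup.leftRel_apply, mem_stabT] at hgh
        show (F ∙ v).map (ap (g : IsoGrp Q)) = (F ∙ v).map (ap (h : IsoGrp Q))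
        conv_lhs => rw [← hgh]
        rw [← OrthAct.map_ap_mul, show (g : IsoGrp Q) * ((g⁻¹ * h : ↥(Omega F ⇑Q)) : IsoGrp Q) =
          (h : IsoGrp Q) from mul_inv_cancel_left _ _])
  have hf : Function.Bijective f := by
    constructor
    · intro z z'
      induction z using Quotient.inductionOn' with | h g => ?_
      induction z' using Quotient.inductionOn' with | h h => ?_
      intro he
      refine Quotient.sound' (QuotientGroup.leftRel_apply.2 (mem_stabT.2 ?_))
      have h' : (F ∙ v).map (ap (g : IsoGrp Q)) = (F ∙ v).map (ap (h : IsoGrp Q)) :=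
        congrArg Subtype.val he
      rw [show ((g⁻¹ * h : ↥(Omega F ⇑Q)) : IsoGrp Q) = (g : IsoGrp Q)⁻¹ * (h : IsoGrp Q) from rfl,
        OrthAct.map_ap_mul, ← h', ← OrthAct.map_ap_mul, inv_mul_cancel]
      exact OrthAct.map_ap_eq_of_mapsTo fun x hx => by rwa [ap_one]
    · rintro ⟨T, hT⟩
      obtain ⟨x, hx, rfl⟩ := Finset.mem_image.1 hT
      obtain ⟨g, hg⟩ := htr x (Finset.mem_filter.1 hx).2
      refine ⟨Quotient.mk'' g, Subtype.ext ?_⟩
      show (F ∙ v).map (ap (g : IsoGrp Q)) = _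
      rw [Submodule.map_span, Set.image_singleton, hg]
  rw [Subgroup.index_eq_card, Nat.card_congr (Equiv.ofBijective f hf), Nat.card_eq_fintype_card,
    Fintype.card_coe, hSc, hL, Finset.card_eq_sum_card_image (fun x => (F ∙ x)) S]
  refine (Finset.sum_const_nat fun T hT => ?_).symm
  obtain ⟨x, hx, rfl⟩ := Finset.mem_image.1 hT
  have hQx : Q x = Q v := (Finset.mem_filter.1 hx).2
  have hx0 : x ≠ 0 := fun h => hQ (by rw [← hQx, h, QuadraticMap.map_zero])
  have he : S.filter (fun y => (F ∙ y) = (F ∙ x)) =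
      ((Finset.univ : Finset F).erase 0).image fun s => s • x := by
    ext y
    simp only [Finset.mem_filter, Finset.mem_image, Finset.mem_erase, Finset.mem_univ, and_true, hS,
      true_and]
    constructor
    · rintro ⟨hy, he⟩
      obtain ⟨s, rfl⟩ := Submodule.mem_span_singleton.1 (he ▸ Submodule.mem_span_singleton_self y)
      exact ⟨s, fun h => hQ (by rw [← hy, h, zero_smul, QuadraticMap.map_zero]), rfl⟩
    · rintro ⟨s, hs, rfl⟩
      refine ⟨?_, Submodule.span_singleton_smul_eq (isUnit_iff_ne_zero.2 hs) x⟩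
      rcases (prime_small hq s).resolve_left hs with rfl | rfl <;> simp [hQx]
  rw [he, Finset.card_image_of_injective _ (smul_left_injective F hx0),
    Finset.card_erase_of_mem (Finset.mem_univ _), Finset.card_univ]

theorem base_plus (m : ℕ) (hm : 4 ≤ m) : Base (quadPlus m F) :=
  ⟨quadPlus_nondeg m, by simp; omega⟩

/-- `Ω⁺(2m, 2)`. -/
theorem plus_two (hq : Fintype.card F = 2) (m : ℕ) (hm : 4 ≤ m) :
    (∀ K : Subgroup (POmega F ⇑(quadPlus m F)), K ≠ ⊤ → 2 ^ (m - 1) * (2 ^ m - 1) ≤ K.index) ∧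
      ∃ K : Subgroup (POmega F ⇑(quadPlus m F)), K.index = 2 ^ (m - 1) * (2 ^ m - 1) := by
  have H := base_plus (F := F) m hm
  obtain ⟨k, rfl⟩ : ∃ k, m = k + 1 := ⟨m - 1, by omega⟩
  have h0 := card_spt (quadPlus (k + 1) F)
  have hN := spt_quadPlus (F := F) (k + 1) (by omega)
  rw [hq] at h0 hN
  rw [Nat.add_sub_cancel] at hN ⊢
  simp only [show (2 : ℕ) - 1 = 1 from rfl, one_mul, Nat.div_one] at h0 hN
  have hsum := sum_cnt_two (Q := quadPlus (k + 1) F) hq ⊤
  rw [finrank_top, finrank_space] at hsum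
  simp only [Fintype.card_sum, Fintype.card_fin] at hsum
  rw [show k + 1 + (k + 1) = k + k + 1 + 1 by omega] at hsum
  simp only [pow_succ, pow_add] at hsum hN ⊢
  have hk : 8 ≤ 2 ^ k := by
    calc 8 = 2 ^ 3 := rfl
      _ ≤ _ := Nat.pow_le_pow_right (by norm_num) (by omega)
  obtain ⟨A, hA⟩ : ∃ A, 2 ^ k = A := ⟨_, rfl⟩
  rw [hA] at hsum hN hk ⊢
  obtain ⟨B, rfl⟩ : ∃ B, A = B + 1 := ⟨A - 1, by omega⟩
  rw [show (B + 1) * 2 - 1 = 2 * B + 1 by omega] at hN ⊢
  have hspt : (B + 1) * (2 * B + 1) ≤ Nat.card (SPt (quadPlus (k + 1) F)) := by rw [hN]; nlinarith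
  have hc1 : cnt (quadPlus (k + 1) F) ⊤ 1 = (B + 1) * (2 * B + 1) := by nlinarith
  have hge : ∀ K : Subgroup ↥(Omega F ⇑(quadPlus (k + 1) F)), K ≠ ⊤ →
      (B + 1) * (2 * B + 1) ≤ K.index := by
    refine omega_index_small H hspt (fun c hc => ?_) (.inl ⟨hq, by simp, ?_⟩)
    · rw [(two_small hq c).resolve_left hc, hq, hc1]; omega
    · simp only [Fintype.card_sum, Fintype.card_fin]
      rw [show k + 1 + (k + 1) - 1 = k + k + 1 by omega, pow_succ, pow_add, hA]
      nlinarith
  obtain ⟨v, -, hv⟩ := exists_Q_eq_in ⊤ (Q := quadPlus (k + 1) F)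
    (fun x hx hx0 => ndOn_top H.nd x hx hx0)
    (by rw [finrank_top, finrank_space]; have := H.seven; omega) 1
  refine pomega_of_omega hge _ (center_le_stabT H (F ∙ v)) ?_
  have h := nsLine_index H (.inl hq) (v := v) (by rw [hv]; exact one_ne_zero)
  rw [hv, hc1, hq] at h
  omega

/-- `PΩ(2m+1, 3)`. -/
theorem odd_three (hq : Fintype.card F = 3) (m : ℕ) (hm : 3 ≤ m) :
    (∀ K : Subgroup (POmega F ⇑(quadOdd m F)), K ≠ ⊤ → 3 ^ m * (3 ^ m - 1) / 2 ≤ K.index) ∧
      ∃ K : Subgroup (POmega F ⇑(quadOdd m F)), K.index = 3 ^ m * (3 ^ m - 1) / 2 := by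
  haveI := char_small hq Nat.prime_three
  have h2 : (2 : F) ≠ 0 := fun e => by
    have := (CharP.cast_eq_zero_iff F 3 2).1 (by exact_mod_cast e)
    omega
  have H : Base (quadOdd m F) := ⟨quadOdd_nondeg m h2, by simp; omega⟩
  have hd : finrank F (⊤ : Submodule F (Unit ⊕ (Fin m ⊕ Fin m) → F)) = 2 * m + 1 := by
    rw [finrank_top, finrank_space]; simp; omega
  have hN := spt_quadOdd (F := F) m
  rw [hq] at hN
  have hk : 27 ≤ 3 ^ m := by
    calc 27 = 3 ^ 3 := rfl
      _ ≤ _ := Nat.pow_le_pow_right (by norm_num) hm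
  obtain ⟨A, hA⟩ : ∃ A, 3 ^ m = A := ⟨_, rfl⟩
  have h2m : 3 ^ (2 * m) = A * A := by rw [two_mul, pow_add, hA]
  rw [h2m] at hN
  rw [hA] at hk ⊢
  obtain ⟨B, hB⟩ : ∃ B, A = 2 * B + 1 := by
    obtain ⟨B, hB⟩ : Odd A := hA ▸ (by decide : Odd 3).pow
    exact ⟨B, hB⟩
  subst hB
  rw [show (2 * B + 1) * (2 * B + 1 - 1) / 2 = (2 * B + 1) * B by
    rw [Nat.add_sub_cancel, mul_left_comm, Nat.mul_div_cancel_left _ (by norm_num)]]
  rw [show ((2 * B + 1) * (2 * B + 1) - 1) / (3 - 1) = 2 * (B * B) + 2 * B by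
    rw [show (2 * B + 1) * (2 * B + 1) - 1 = 2 * (2 * (B * B) + 2 * B) by
      rw [Nat.sub_eq_iff_eq_add (by nlinarith)]; ring]
    exact Nat.mul_div_cancel_left _ (by norm_num)] at hN
  have hlow : ∀ c : F, (2 * B + 1) * (2 * B + 1) ≤ cnt (quadOdd m F) ⊤ c + (2 * B + 1) := by
    intro c
    have := cnt_lower (Q := quadOdd m F) (ndOn_top H.nd) (by omega) c
    rwa [hd, hq, Nat.add_sub_cancel, show (2 * m + 1) / 2 = m by omega, h2m, hA] at this
  have hge : ∀ K : Subgroup ↥(Omega F ⇑(quadOdd m F)), K ≠ ⊤ →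
      (2 * B + 1) * B ≤ K.index := by
    refine omega_index_small H (by rw [hN]; nlinarith) (fun c hc => ?_)
      (.inr ⟨hq, ?_, fun h => by simp at h; omega⟩)
    · have := hlow c
      rw [hq]
      nlinarith
    · simp only [Fintype.card_sum, Fintype.card_fin, Fintype.card_unit]
      rw [show 1 + (m + m) - 1 = m + m by omega, pow_add, hA]
      nlinarith
  obtain ⟨c, hc, hcc⟩ := exists_cnt_eq_odd h2 (Q := quadOdd m F) (ndOn_top H.nd) hd
  rw [hq, h2m, hA] at hcc
  obtain ⟨v, -, hv⟩ := exists_Q_eq_in ⊤ (Q := quadOdd m F)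
    (fun x hx hx0 => ndOn_top H.nd x hx hx0) (by omega) c
  refine pomega_of_omega hge _ (center_le_stabT H (F ∙ v)) ?_
  have h := nsLine_index H (.inr hq) (v := v) (by rw [hv]; exact hc)
  rw [hv, hq] at h
  have e1 : (stabT (quadOdd m F) (F ∙ v)).index * 2 = (2 * B + 1) * B * 2 := by
    simp only [show (3 : ℕ) - 1 = 2 from rfl] at h
    nlinarith
  omega

/-- `PΩ⁻(2m, q)`, `q = 2, 3`. -/
theorem minus_small (hq : Fintype.card F = 2 ∨ Fintype.card F = 3) (k : ℕ) (hk : 3 ≤ k) {a b : F}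
    (hab : Aniso a b) :
    (∀ K : Subgroup (POmega F ⇑(quadMinus k F a b)), K ≠ ⊤ →
      Nat.card (SPt (quadMinus k F a b)) ≤ K.index) ∧
      ∃ K : Subgroup (POmega F ⇑(quadMinus k F a b)),
        K.index = Nat.card (SPt (quadMinus k F a b)) := by
  have H : Base (quadMinus k F a b) :=
    ⟨quadMinus_nondeg k hab, by simp; omega⟩
  have hd : finrank F (⊤ : Submodule F ((Fin k ⊕ Fin k) ⊕ Fin 2 → F)) = 2 * k + 2 := by
    rw [finrank_top, finrank_space]; simp; omega
  have h0 := card_spt (quadMinus k F a b)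
  have hN := spt_quadMinus (F := F) k hab
  have hA : (Fintype.card F - 1) * Nat.card (SPt (quadMinus k F a b)) =
      (Fintype.card F ^ (k + 1) + 1) * (Fintype.card F ^ k - 1) := by
    rw [hN]
    exact Nat.mul_div_cancel' (Dvd.dvd.mul_left (Nat.sub_one_dvd_pow_sub_one _ k) _)
  have hex : cnt (quadMinus k F a b) ⊤ 0 + Fintype.card F ^ (k + 1) =
      Fintype.card F ^ (2 * k + 1) + Fintype.card F ^ k := by
    rw [← h0, hA]
    obtain ⟨B, hB⟩ : ∃ B, Fintype.card F ^ k = B + 1 :=
      ⟨_, (Nat.sub_add_cancel (Nat.one_le_pow _ _ (Fintype.card_pos (α := F)))).symm⟩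
    rw [show 2 * k + 1 = k + k + 1 by omega, pow_succ, pow_succ, pow_add, hB, Nat.add_sub_cancel]
    ring
  have hlt : cnt (quadMinus k F a b) ⊤ 0 + Fintype.card F ^ k <
      Fintype.card F ^ (2 * k + 1) + Fintype.card F ^ (k + 1) := by
    have : Fintype.card F ^ k < Fintype.card F ^ (k + 1) :=
      Nat.pow_lt_pow_right Fintype.one_lt_card (by omega)
    omega
  have hge : ∀ K : Subgroup ↥(Omega F ⇑(quadMinus k F a b)), K ≠ ⊤ →
      Nat.card (SPt (quadMinus k F a b)) ≤ K.index := by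
    refine omega_index_small H le_rfl (fun c _ => ?_) ?_
    · refine le_trans (Nat.le_succ _) ?_
      rw [Nat.succ_eq_add_one, h0]
      exact cnt_minus (ndOn_top H.nd) hd hlt c
    rcases hq with hq | hq
    · refine .inl ⟨hq, ⟨k + 1, by simp; omega⟩, ?_⟩
      rw [hq, show 2 * k + 1 = k + k + 1 by omega] at hex
      rw [hq] at h0
      simp only [Fintype.card_sum, Fintype.card_fin]
      rw [show k + k + 2 - 1 = k + k + 1 by omega]
      have : 2 ^ 3 ≤ 2 ^ k := Nat.pow_le_pow_right (by norm_num) hk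
      simp only [pow_succ] at hex ⊢
      omega
    · refine .inr ⟨hq, ?_, fun hc T hT => ?_⟩
      · rw [hq, show 2 * k + 1 = k + k + 1 by omega] at hex
        rw [hq] at h0
        simp only [Fintype.card_sum, Fintype.card_fin]
        rw [show k + k + 2 - 1 = k + k + 1 by omega]
        have : 3 ^ 3 ≤ 3 ^ k := Nat.pow_le_pow_right (by norm_num) hk
        simp only [pow_succ] at hex ⊢
        omega
      · obtain rfl : k = 3 := by simp at hc; omega
        have hle : finrank F T + finrank F T ≤ 8 := by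
          have h1 := LinearMap.BilinForm.finrank_orthogonal H.nd T
          have h2 : T ≤ LinearMap.BilinForm.orthogonal (quadMinus 3 F a b).polarBilin T :=
            fun x hx y hy => polar_ts hT hy hx
          have h3 := Submodule.finrank_mono h2
          rw [finrank_space] at h1
          simp at h1
          omega
        by_contra! h4
        have h5 := cnt_zero_ts (Q := quadMinus 3 F a b) (ndOn_top H.nd) (h := 4) (by omega)
          (le_top : T ≤ ⊤) hT (by omega)
        rw [hq] at hex h5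
        norm_num at hex h5
        omega
  obtain ⟨v, w, hvw⟩ := exists_hpair H.nd (by have := H.seven; omega)
  haveI := isPretransitive_spt H.nd (by have := H.seven; omega) H.hE
  refine pomega_of_omega hge (MulAction.stabilizer ↥(Omega F ⇑(quadMinus k F a b))
    (spt v hvw.ne_zero hvw.qe)) ?_ (MulAction.index_stabilizer_of_transitive _ _)
  intro g hg
  obtain ⟨c, -, hc⟩ := (mem_center_omega_iff H.nd (by have := H.seven; omega) H.hE g).1 hg
  exact fix_of_scalar hc _

end Cfsg.Agent.MinIndex
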