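import Cfsg.Agent.Lib.MinIndex.SmallClassify
import Cfsg.Agent.Lib.MinIndex.OrthTop

/-!
# A regular root group, two and three elements

If every root group is regular on `X`, the complement fixing a point gives for each element of the
Levi complement a translation; this is impossible.
* `comm_diff`, `coc_perp`, `T_false` : the translation of a long root element
* `refl_pair_false` : the general case
* `three_false`, `two_false` : the complement is too small (`dim W = 5`, resp. `6` of plus type)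
* `reg_false`
-/

set_option autoImplicit false
set_option linter.unusedSectionVars false
set_option linter.style.haveILetI false
set_option linter.unusedSimpArgs false

namespace Cfsg.Agent.MinIndex

open Cfsg Matrix Module Cfsg.Agent.Orth
open Cfsg.Agent.AutPOmega (NdOn ndOn_cut exists_hpair_in exists_hpair_of_three finrank_perp_eq
  eich_right_inj Base)
open QuadraticMap (polar)
open scoped Pointwise

variable {ι : Type} [Fintype ι] [DecidableEq ι] {F : Type*} [Field F] [Fintype F]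
variable {Q : QuadraticForm F (ι → F)} {a b : ι → F}
variable {X : Type*} [MulAction ↥(Omega F ⇑Q) X] [Fintype X] [DecidableEq X]

attribute [local instance] fintypeSub

/-- All root groups are regular, and `x0` is a point. -/
structure Reg (H : Base Q) (a b : ι → F) (x0 : X) : Prop where
  free : ∀ (v : ι → F), Q v = 0 → v ≠ 0 → ∀ x : X, Free H v x
  trans : ∀ g : ↥(Omega F ⇑Q), ∃ v ∈ perp Q a b, el H a v • x0 = g • x0

/-- `v` translates `x0` as `g` does. -/
def Tr (H : Base Q) (a b : ι → F) (x0 : X) (g : ↥(Omega F ⇑Q)) (v : ι → F) : Prop :=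
  v ∈ perp Q a b ∧ el H a v • x0 = g • x0

theorem el_eq_one (H : Base Q) (hab : HPair Q a b) {w : ι → F} (hw : w ∈ perp Q a b)
    (h : el H a w = 1) : w = 0 := by
  obtain ⟨c, hc⟩ := eich_right_inj H.nd hab.qe hab.ne_zero (mem_perp.1 hw).1
    (pl_zero_right Q a) (by rw [eich_zero]; exact congrArg Subtype.val h)
  have hc0 : c = 0 := by
    have := congrArg (polar ⇑Q b) hc
    rw [pl_zero_right, pl_add_right, (mem_perp.1 hw).2, pl_smul_right, hab.swap.pf] at this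
    simpa using this.symm
  rw [hc0, zero_smul, add_zero] at hc
  exact hc.symm

theorem tr_unique (H : Base Q) (hab : HPair Q a b) {x0 : X} (hr : Reg H a b x0)
    {g : ↥(Omega F ⇑Q)} {v v' : ι → F} (h : Tr H a b x0 g v) (h' : Tr H a b x0 g v') : v = v' := by
  have h1 : el H a (-v' + v) • x0 = x0 := by
    rw [el_add H hab.qe (by rw [pl_neg_right, (mem_perp.1 h'.1).1, neg_zero]) (mem_perp.1 h.1).1,
      mul_smul, h.2, ← h'.2, ← mul_smul,
      ← el_add H hab.qe (by rw [pl_neg_right, (mem_perp.1 h'.1).1, neg_zero]) (mem_perp.1 h'.1).1,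
      neg_add_cancel, el_zero, one_smul]
  have h2 := el_eq_one H hab (add_mem (neg_mem h'.1) h.1)
    (hr.free a hab.qe hab.ne_zero x0 _ (mem_perp.1 (add_mem (neg_mem h'.1) h.1)).1 h1)
  exact (neg_add_eq_zero.1 h2).symm

/-- Commuting elements of the Levi complement. -/
theorem comm_diff (H : Base Q) (hab : HPair Q a b) {x0 : X} (hr : Reg H a b x0)
    {g h : ↥(Omega F ⇑Q)} {vg vh : ι → F} (ga : ap (g : IsoGrp Q) a = a)
    (gb : ap (g : IsoGrp Q) b = b) (ha : ap (h : IsoGrp Q) a = a) (hb : ap (h : IsoGrp Q) b = b)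
    (hc : g * h = h * g) (hg : Tr H a b x0 g vg) (hh : Tr H a b x0 h vh) :
    ap (g : IsoGrp Q) vh - vh = ap (h : IsoGrp Q) vg - vg := by
  have key : ∀ {g h : ↥(Omega F ⇑Q)} {vg vh : ι → F}, ap (g : IsoGrp Q) a = a →
      ap (g : IsoGrp Q) b = b → Tr H a b x0 g vg → Tr H a b x0 h vh →
      Tr H a b x0 (g * h) (ap (g : IsoGrp Q) vh + vg) := by
    intro g h vg vh ga gb hg hh
    have hm : ap (g : IsoGrp Q) vh ∈ perp Q a b := move_mem ga gb hh.1
    refine ⟨add_mem hm hg.1, ?_⟩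
    rw [el_add H hab.qe (mem_perp.1 hm).1 (mem_perp.1 hg.1).1, mul_smul, hg.2, mul_smul, ← hh.2]
    conv_lhs => rw [← ga, ← conj_el, ← mul_smul, inv_mul_cancel_right, mul_smul]
  have h1 := key ga gb hg hh
  rw [hc] at h1
  have h2 := tr_unique H hab hr h1 (key ha hb hh hg)
  linear_combination (norm := module) h2

/-- The translation of `e_p(u)` is orthogonal to `p`. -/
theorem coc_perp (H : Base Q) (hab : HPair Q a b) {x0 : X} (hr : Reg H a b x0) {p u u' r : ι → F}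
    (hp : p ∈ perp Q a b) (hu : u ∈ perp Q a b) (hu' : u' ∈ perp Q a b) (hQp : Q p = 0)
    (hpu : polar ⇑Q p u = 0) (hpu' : polar ⇑Q p u' = 0) (hrp : polar ⇑Q r p = 0)
    (hru : polar ⇑Q r u = 0) (hru' : polar ⇑Q r u' = 1) {v : ι → F}
    (hv : Tr H a b x0 (el H p u) v) : polar ⇑Q p v = 0 := by
  obtain ⟨v', hv'⟩ := hr.trans (el H p u')
  have hfix : ∀ {z : ι → F}, z ∈ perp Q a b → polar ⇑Q p z = 0 →
      ap (el H p z : IsoGrp Q) a = a ∧ ap (el H p z : IsoGrp Q) b = b := by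
    intro z hz hpz
    obtain ⟨haz, hbz⟩ := mem_perp.1 hz
    obtain ⟨hap, hbp⟩ := mem_perp.1 hp
    constructor <;>
      simp [el_coe, eich_ap hQp hpz, pl_comm Q p a, pl_comm Q z a, pl_comm Q p b, pl_comm Q z b,
        hap, haz, hbp, hbz]
  have h := comm_diff H hab hr (hfix hu hpu).1 (hfix hu hpu).2 (hfix hu' hpu').1 (hfix hu' hpu').2
    (by rw [← el_add H hQp hpu hpu', ← el_add H hQp hpu' hpu, add_comm]) hv hv'
  have h1 := congrArg (polar ⇑Q r) h
  rw [el_coe, el_coe, eich_ap hQp hpu, eich_ap hQp hpu'] at h1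
  simp only [pl_sub_right, pl_add_right, pl_smul_right, hrp, hru, hru', mul_zero, mul_one, add_zero,
    sub_zero, sub_self, add_sub_cancel_left] at h1
  exact h1.symm

/-- Two orthogonal pairs of the orthogonal of `a, b`. -/
structure Frame (Q : QuadraticForm F (ι → F)) (a b c c' w w' : ι → F) : Prop where
  hc : c ∈ perp Q a b
  hc' : c' ∈ perp Q a b
  pc : HPair Q c c'
  hw : w ∈ perp Q a b ⊓ perp Q c c'
  hw' : w' ∈ perp Q a b ⊓ perp Q c c'
  pw : HPair Q w w'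

variable {c c' w w' : ι → F}

theorem Frame.fix (H : Base Q) (hfr : Frame Q a b c c' w w') :
    ap (el H c w : IsoGrp Q) a = a ∧ ap (el H c w : IsoGrp Q) b = b := by
  obtain ⟨hac, hbc⟩ := mem_perp.1 hfr.hc
  obtain ⟨haw, hbw⟩ := mem_perp.1 hfr.hw.1
  have hcw := (mem_perp.1 hfr.hw.2).1
  constructor <;>
    simp [el_coe, eich_ap hfr.pc.qe hcw, pl_comm Q c a, pl_comm Q w a, pl_comm Q c b, pl_comm Q w b,
      hac, haw, hbc, hbw]

theorem Frame.swap (hfr : Frame Q a b c c' w w') : Frame Q a b w w' c c' := by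
  obtain ⟨hc1, hc2⟩ := mem_perp.1 hfr.hw.2
  obtain ⟨hd1, hd2⟩ := mem_perp.1 hfr.hw'.2
  exact ⟨hfr.hw.1, hfr.hw'.1, hfr.pw,
    ⟨hfr.hc, mem_perp.2 ⟨by rw [pl_comm]; exact hc1, by rw [pl_comm]; exact hd1⟩⟩,
    ⟨hfr.hc', mem_perp.2 ⟨by rw [pl_comm]; exact hc2, by rw [pl_comm]; exact hd2⟩⟩, hfr.pc⟩

theorem el_flip (H : Base Q) {u z : ι → F} (hu : Q u = 0) (hz : Q z = 0)
    (huz : polar ⇑Q u z = 0) : el H u z = el H z (-u) := Subtype.ext (ext_ap fun x => by
  rw [el_coe, el_coe, eich_ap hu huz, eich_ap hz (by rw [pl_neg_right, pl_comm, huz, neg_zero]), hz,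
    QuadraticMap.map_neg, hu, pl_neg_left]
  module)

/-- The translation of `e_c(w)` is orthogonal to `c` and `w`. -/
theorem Frame.tr_perp (H : Base Q) (hab : HPair Q a b) {x0 : X} (hr : Reg H a b x0)
    (hfr : Frame Q a b c c' w w') {v : ι → F} (hv : Tr H a b x0 (el H c w) v) :
    polar ⇑Q c v = 0 ∧ polar ⇑Q w v = 0 := by
  obtain ⟨hcw, hc'w⟩ := mem_perp.1 hfr.hw.2
  obtain ⟨hcw', hc'w'⟩ := mem_perp.1 hfr.hw'.2
  refine ⟨coc_perp H hab hr (r := w) (u' := w') hfr.hc hfr.hw.1 hfr.hw'.1 hfr.pc.qe hcw hcw'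
    (by rw [pl_comm, hcw]) (by rw [pl_self, hfr.pw.qe, mul_zero]) hfr.pw.pf hv, ?_⟩
  rw [el_flip H hfr.pc.qe hfr.pw.qe hcw] at hv
  exact coc_perp H hab hr (r := c) (u' := c') hfr.hw.1 (neg_mem hfr.hc) hfr.hc' hfr.pw.qe
    (by rw [pl_neg_right, pl_comm, hcw, neg_zero]) (by rw [pl_comm, hc'w]) hcw
    (by rw [pl_neg_right, pl_self, hfr.pc.qe, mul_zero, neg_zero]) hfr.pc.pf hv

theorem Frame.decomp (H : Base Q) (hab : HPair Q a b) (hfr : Frame Q a b c c' w w') {v : ι → F}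
    (hv : v ∈ perp Q a b) (hcv : polar ⇑Q c v = 0) (hwv : polar ⇑Q w v = 0)
    (hU : ∀ y ∈ perp Q a b ⊓ perp Q c c' ⊓ perp Q w w', polar ⇑Q v y = 0) :
    v = polar ⇑Q c' v • c + polar ⇑Q w' v • w := by
  obtain ⟨hWnd, -⟩ := finrank_perp_eq H.nd hab
  obtain ⟨h1, -⟩ := ndOn_cut hWnd hfr.pc hfr.hc hfr.hc'
  obtain ⟨h2, -⟩ := ndOn_cut h1 hfr.pw hfr.hw hfr.hw'
  obtain ⟨hcw, hc'w⟩ := mem_perp.1 hfr.hw.2
  obtain ⟨hcw', hc'w'⟩ := mem_perp.1 hfr.hw'.2
  set z := v - polar ⇑Q c' v • c - polar ⇑Q w' v • w with hz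
  have hm : z ∈ perp Q a b ⊓ perp Q c c' ⊓ perp Q w w' := by
    refine ⟨⟨sub_mem (sub_mem hv (Submodule.smul_mem _ _ hfr.hc)) (Submodule.smul_mem _ _ hfr.hw.1),
      mem_perp.2 ⟨?_, ?_⟩⟩, mem_perp.2 ⟨?_, ?_⟩⟩ <;>
      simp [hz, hfr.pc.qe, pl_sub_right, pl_smul_right, pl_self, hfr.pw.qe, hfr.pc.swap.pf,
        hfr.pw.swap.pf, hcv, hwv, hcw, hc'w, pl_comm Q w c, pl_comm Q w' c, hcw']
  have hz0 : z = 0 := by
    by_contra hne
    obtain ⟨y, hy, hzy⟩ := h2 z hm hne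
    apply hzy
    obtain ⟨hyc, hyc'⟩ := mem_perp.1 hy.1.2
    obtain ⟨hyw, hyw'⟩ := mem_perp.1 hy.2
    rw [hz, pl_sub_left, pl_sub_left, pl_smul_left, pl_smul_left, hyc, hyw, hU y hy]
    ring
  rw [hz, sub_sub, sub_eq_zero] at hz0
  exact hz0

/-- The translation is not in the plane. -/
theorem T_false (H : Base Q) (hab : HPair Q a b) {x0 : X} (hr : Reg H a b x0)
    (hfr : Frame Q a b c c' w w') {α β : F} (hv : Tr H a b x0 (el H c w) (α • c + β • w)) :
    False := by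
  obtain ⟨hac, hbc⟩ := mem_perp.1 hfr.hc
  obtain ⟨haw, hbw⟩ := mem_perp.1 hfr.hw.1
  obtain ⟨hac', hbc'⟩ := mem_perp.1 hfr.hc'
  obtain ⟨hcw, hc'w⟩ := mem_perp.1 hfr.hw.2
  have hca : polar ⇑Q c a = 0 := by rw [pl_comm, hac]
  have hwa : polar ⇑Q w a = 0 := by rw [pl_comm, haw]
  set W2 := w + α • a with hW2
  have hQW2 : Q W2 = 0 := by
    rw [hW2, Q_add, Q_smul, hfr.pw.qe, hab.qe, pl_smul_right, hwa]; ring
  have hcW2 : polar ⇑Q c W2 = 0 := by rw [hW2, pl_add_right, pl_smul_right, hcw, hca]; ring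
  have hW2a : polar ⇑Q W2 a = 0 := by
    rw [hW2, pl_add_left, pl_smul_left, hwa, pl_self, hab.qe]; ring
  have h1 : el H c W2 • x0 = el H a (β • w) • x0 := by
    rw [hW2, el_add H hfr.pc.qe hcw (by rw [pl_smul_right, hca, mul_zero]), mul_smul]
    have e1 : el H c (α • a) = el H a (-(α • c)) := by
      rw [← el_smul_left, el_flip H (by rw [Q_smul, hfr.pc.qe, mul_zero]) hab.qe
        (by rw [pl_smul_left, hca, mul_zero])]
    rw [e1]
    have hn : polar ⇑Q a (-(α • c)) = 0 := by rw [pl_neg_right, pl_smul_right, hac]; ring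
    have hb' : polar ⇑Q a (β • w) = 0 := by rw [pl_smul_right, haw, mul_zero]
    have hcomm : el H c w * el H a (-(α • c)) = el H a (-(α • c)) * el H c w := by
      have h := conj_el H (el H c w) a (-(α • c))
      rw [el_coe, eich_ap hfr.pc.qe hcw, eich_ap hfr.pc.qe hcw, hca, hwa, pl_neg_right,
        pl_smul_right, pl_self, hfr.pc.qe, pl_neg_right, pl_smul_right, pl_comm Q w c, hcw] at h
      simp only [mul_zero, neg_zero, zero_smul, add_zero, sub_zero] at h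
      calc _ = (el H c w * el H a (-(α • c)) * (el H c w)⁻¹) * el H c w :=
            (inv_mul_cancel_right _ _).symm
        _ = _ := by rw [h]
    rw [← mul_smul, hcomm, mul_smul, ← hv.2, ← mul_smul,
      ← el_add H hab.qe hn (mem_perp.1 hv.1).1, neg_add_cancel_left]
  have e2 : el H a (β • w) = el H W2 (-(β • a)) := by
    rw [show el H a (β • w) = el H a (β • W2) from Subtype.ext (by
      rw [el_coe, el_coe, hW2, smul_add, smul_smul,
        eich_add_smul_self hab.qe (by rw [pl_smul_right, haw, mul_zero])])]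
    rw [← el_smul_left, el_flip H (by rw [Q_smul, hab.qe, mul_zero]) hQW2
      (by rw [pl_smul_left, pl_comm, hW2a, mul_zero])]
  rw [el_flip H hfr.pc.qe hQW2 hcW2, e2] at h1
  have hp1 : polar ⇑Q W2 (β • a) = 0 := by rw [pl_smul_right, hW2a, mul_zero]
  have hp2 : polar ⇑Q W2 (-c) = 0 := by rw [pl_neg_right, pl_comm, hcW2, neg_zero]
  have hp3 : polar ⇑Q W2 (-(β • a)) = 0 := by rw [pl_neg_right, hp1, neg_zero]
  have h2 : el H W2 (β • a + -c) • x0 = x0 := by
    rw [el_add H hQW2 hp1 hp2, mul_smul, h1, ← mul_smul, ← el_add H hQW2 hp1 hp3, add_neg_cancel,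
      el_zero, one_smul]
  have hW20 : W2 ≠ 0 := fun h => by
    have := congrArg (polar ⇑Q w') h
    rw [hW2, pl_add_right, pl_smul_right, hfr.pw.swap.pf, pl_comm Q w' a,
      (mem_perp.1 hfr.hw'.1).1, pl_zero_right, mul_zero, add_zero] at this
    exact one_ne_zero this
  have hp4 : polar ⇑Q W2 (β • a + -c) = 0 := by rw [pl_add_right, hp1, hp2, add_zero]
  have h3 := hr.free W2 hQW2 hW20 x0 _ hp4 h2
  obtain ⟨k, hk⟩ := eich_right_inj H.nd hQW2 hW20 hp4 (pl_zero_right Q W2)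
    (by rw [eich_zero]; exact congrArg Subtype.val h3)
  have h4 := congrArg (polar ⇑Q c') hk
  simp [hW2, pl_add_right, pl_smul_right, pl_neg_right, hfr.pc.swap.pf, hc'w, pl_comm Q c' a,
    hac'] at h4

theorem refl_pair_mem (H : Base Q) {z z' : ι → F} (hz : Q z ≠ 0) (hzz : Q z' = Q z) :
    refl Q z * refl Q z' ∈ Omega F ⇑Q := by
  classical
  have hG := good_of_base H
  refine (mem_omega_iff hG _).2 ⟨?_, ?_⟩
  · rw [dick_mul hG, dick_refl hG.nd hz, dick_refl hG.nd (hzz ▸ hz)]; norm_num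
  · rw [spin_mul hG, spin_refl hG.nd hz, spin_refl hG.nd (hzz ▸ hz), hzz, ← pow_two,
      quadraticChar_sq_one hz]

theorem refl_pair_fix {z z' x : ι → F} (h : polar ⇑Q z x = 0) (h' : polar ⇑Q z' x = 0) :
    ap (refl Q z * refl Q z') x = x := by
  rw [ap_mul, refl_ap_of_orth Q h', refl_ap_of_orth Q h]

/-- A pair of nonsingular vectors of the same norm in the complement. -/
theorem sigma_zero (H : Base Q) (hab : HPair Q a b) {x0 : X} (hr : Reg H a b x0)
    (hfr : Frame Q a b c c' w w') {v : ι → F} (hv : Tr H a b x0 (el H c w) v) {z z' : ι → F}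
    (hz : z ∈ perp Q a b ⊓ perp Q c c' ⊓ perp Q w w')
    (hz' : z' ∈ perp Q a b ⊓ perp Q c c' ⊓ perp Q w w') (hQz : Q z ≠ 0) (hzz : Q z' = Q z)
    (hne : z' ∉ (F ∙ z)) : polar ⇑Q z' v = 0 := by
  set g : ↥(Omega F ⇑Q) := ⟨refl Q z * refl Q z', refl_pair_mem H hQz hzz⟩
  have hgf : ∀ {x : ι → F}, polar ⇑Q z x = 0 → polar ⇑Q z' x = 0 → ap (g : IsoGrp Q) x = x :=
    fun {x} h h' => refl_pair_fix h h'
  obtain ⟨hza, hzb⟩ := mem_perp.1 hz.1.1
  obtain ⟨hz'a, hz'b⟩ := mem_perp.1 hz'.1.1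
  obtain ⟨hzc, hzc'⟩ := mem_perp.1 hz.1.2
  obtain ⟨hz'c, hz'c'⟩ := mem_perp.1 hz'.1.2
  obtain ⟨hzw, hzw'⟩ := mem_perp.1 hz.2
  obtain ⟨hz'w, hz'w'⟩ := mem_perp.1 hz'.2
  have ga := hgf (x := a) (by rw [pl_comm, hza]) (by rw [pl_comm, hz'a])
  have gb := hgf (x := b) (by rw [pl_comm, hzb]) (by rw [pl_comm, hz'b])
  have gc := hgf (x := c) (by rw [pl_comm, hzc]) (by rw [pl_comm, hz'c])
  have gw := hgf (x := w) (by rw [pl_comm, hzw]) (by rw [pl_comm, hz'w])
  obtain ⟨vg, hvg⟩ := hr.trans g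
  have hcomm : g * el H c w = el H c w * g := by
    have h := conj_el H g c w
    rw [gc, gw] at h
    exact mul_inv_eq_iff_eq_mul.1 h
  obtain ⟨hla, hlb⟩ := hfr.fix H
  have h := comm_diff H hab hr ga gb hla hlb hcomm hvg hv
  obtain ⟨hcw, hc'w⟩ := mem_perp.1 hfr.hw.2
  obtain ⟨hcw', -⟩ := mem_perp.1 hfr.hw'.2
  obtain ⟨k, hk⟩ : ∃ k, ap (g : IsoGrp Q) v - v =
      (-k) • z + (-((Q z')⁻¹ * polar ⇑Q z' v)) • z' :=
    ⟨(Q z)⁻¹ * polar ⇑Q z (v - ((Q z')⁻¹ * polar ⇑Q z' v) • z'), by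
      show ap (refl Q z * refl Q z') v - v = _
      rw [ap_mul, refl_ap Q z' v, refl_ap Q z]
      module⟩
  rw [hk, el_coe, eich_ap hfr.pc.qe hcw] at h
  have h1 := congrArg (polar ⇑Q c') h
  have h2 := congrArg (polar ⇑Q w') h
  simp [pl_add_right, pl_sub_right, pl_smul_right, hzc', hz'c', hfr.pc.swap.pf, hc'w,
    hfr.pw.qe] at h1
  simp [pl_add_right, pl_sub_right, pl_smul_right, hzw', hz'w', hfr.pw.swap.pf,
    pl_comm Q w' c, hcw'] at h2
  have h3 : (-k) • z + (-((Q z')⁻¹ * polar ⇑Q z' v)) • z' = 0 := by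
    rw [h, ← h2, h1]; simp
  by_contra hne'
  refine hne (Submodule.mem_span_singleton.2
    ⟨-(k / ((Q z')⁻¹ * polar ⇑Q z' v)), ?_⟩)
  have hn : (Q z')⁻¹ * polar ⇑Q z' v ≠ 0 :=
    mul_ne_zero (inv_ne_zero (hzz ▸ hQz)) hne'
  have := congrArg (fun x => ((Q z')⁻¹ * polar ⇑Q z' v)⁻¹ • x) h3
  simp only [smul_add, smul_smul, smul_zero, mul_neg, inv_mul_cancel₀ hn] at this
  rw [div_eq_inv_mul]
  linear_combination (norm := module) this

/-- The general case: every nonsingular vector of the complement has a partner. -/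
theorem refl_pair_false (H : Base Q) (hab : HPair Q a b) {x0 : X} (hr : Reg H a b x0)
    (hq : Fintype.card F = 2 ∨ Fintype.card F = 3) (hfr : Frame Q a b c c' w w')
    (hU : 3 ≤ finrank F ↥(perp Q a b ⊓ perp Q c c' ⊓ perp Q w w') ∨
      (2 ≤ finrank F ↥(perp Q a b ⊓ perp Q c c' ⊓ perp Q w w') ∧
        ∀ x ∈ perp Q a b ⊓ perp Q c c' ⊓ perp Q w w', Q x = 0 → x = 0)) : False := by
  obtain ⟨hWnd, -⟩ := finrank_perp_eq H.nd hab
  obtain ⟨k1, -⟩ := ndOn_cut hWnd hfr.pc hfr.hc hfr.hc'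
  obtain ⟨k2, -⟩ := ndOn_cut k1 hfr.pw hfr.hw hfr.hw'
  set U := perp Q a b ⊓ perp Q c c' ⊓ perp Q w w'
  obtain ⟨v, hv⟩ := hr.trans (el H c w)
  obtain ⟨hcv, hwv⟩ := hfr.tr_perp H hab hr hv
  have key : ∀ {z z' : ι → F}, z ∈ U → z' ∈ U → Q z ≠ 0 → Q z' = Q z → z' ∉ (F ∙ z) →
      polar ⇑Q v z = 0 := by
    intro z z' hz hz' hQ hzz hne
    rw [pl_comm]
    refine sigma_zero H hab hr hfr hv hz' hz (hzz ▸ hQ) hzz.symm fun h => hne ?_
    obtain ⟨s, rfl⟩ := Submodule.mem_span_singleton.1 h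
    have hs : s ≠ 0 := fun h => hQ (by simp [h])
    exact Submodule.mem_span_singleton.2 ⟨s⁻¹, inv_smul_smul₀ hs _⟩
  refine T_false H hab hr hfr (α := polar ⇑Q c' v) (β := polar ⇑Q w' v)
    ((hfr.decomp H hab hv.1 hcv hwv fun y hy => ?_) ▸ hv)
  rcases hU with h3 | ⟨h2, hani⟩
  · obtain ⟨e, he, f, hf, hef⟩ := exists_hpair_of_three k2 h3
    obtain ⟨k3, k4⟩ := ndOn_cut k2 hef he hf
    obtain ⟨u, hu, hQu⟩ := exists_ns k3 fun h => by rw [h, finrank_bot] at k4; omega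
    obtain ⟨heu, hfu⟩ := mem_perp.1 hu.2
    have hns : ∀ z ∈ U, Q z ≠ 0 → polar ⇑Q v z = 0 := by
      intro z hz hQ
      set z1 := Q z • e + f
      set z2 := (Q z - Q u) • e + f + u
      have m1 : z1 ∈ U := add_mem (Submodule.smul_mem _ _ he) hf
      have m2 : z2 ∈ U := add_mem (add_mem (Submodule.smul_mem _ _ he) hf) hu.1
      have q1 : Q z1 = Q z := by
        show Q (Q z • e + f) = _
        rw [Q_add, Q_smul, hef.qe, hef.qf, pl_smul_left, hef.pf]; ring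
      have q2 : Q z2 = Q z := by
        show Q ((Q z - Q u) • e + f + u) = _
        rw [Q_add, Q_add, Q_smul, hef.qe, hef.qf, pl_smul_left, hef.pf, pl_add_left, pl_smul_left,
          heu, hfu]; ring
      by_cases n1 : z1 ∈ (F ∙ z)
      · refine key hz m2 hQ q2 fun n2 => ?_
        obtain ⟨s, hs⟩ := Submodule.mem_span_singleton.1 n1
        obtain ⟨t, ht⟩ := Submodule.mem_span_singleton.1 n2
        have e1 := congrArg (polar ⇑Q e) hs
        have e2 := congrArg (polar ⇑Q e) ht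
        simp [z1, z2, pl_add_right, pl_smul_right, pl_self, hef.qe, hef.pf, heu] at e1 e2
        have hst : s = t := mul_right_cancel₀ (b := polar ⇑Q e z)
          (fun h => by rw [h, mul_zero] at e1; exact zero_ne_one e1) (e1.trans e2.symm)
        have e3 := congrArg (polar ⇑Q f) (hs.symm.trans ((hst ▸ rfl : s • z = t • z).trans ht))
        simp [z1, z2, pl_add_right, pl_smul_right, pl_self, hef.qf, hef.swap.pf, hfu] at e3
        exact hQu (by linear_combination e3)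
      · exact key hz m1 hQ q1 n1
    have hu0 := hns u hu.1 hQu
    have he0 : polar ⇑Q v e = 0 := by
      have := hns (e + u) (add_mem he hu.1) (by rw [Q_add, hef.qe, heu]; simpa using hQu)
      rwa [pl_add_right, hu0, add_zero] at this
    have hf0 : polar ⇑Q v f = 0 := by
      have := hns (f + u) (add_mem hf hu.1) (by rw [Q_add, hef.qf, hfu]; simpa using hQu)
      rwa [pl_add_right, hu0, add_zero] at this
    by_cases hQp : Q (wPart Q e f y) = 0
    · have hp : polar ⇑Q v (e + f + wPart Q e f y) = 0 := hns _ (add_mem (add_mem he hf)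
        (sub_mem (sub_mem hy (U.smul_mem _ he)) (U.smul_mem _ hf))) (by
        obtain ⟨h1, h2⟩ := mem_perp.1 (hef.wPart_mem y)
        rw [Q_add, Q_add, hef.qe, hef.qf, hef.pf, hQp, pl_add_left, h1, h2]; simp)
      rw [pl_add_right, pl_add_right, he0, hf0, zero_add, zero_add] at hp
      rw [decomp (Q := Q) e f y]
      simp [pl_add_right, pl_smul_right, he0, hf0, hp]
    · have hp := hns _ (sub_mem (sub_mem hy (U.smul_mem _ he)) (U.smul_mem _ hf)) hQp
      change polar ⇑Q v (wPart Q e f y) = 0 at hp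
      rw [decomp (Q := Q) e f y]
      simp [pl_add_right, pl_smul_right, he0, hf0, hp]
  · rcases eq_or_ne y 0 with rfl | hy0
    · exact pl_zero_right Q v
    have hQy : Q y ≠ 0 := fun h => hy0 (hani y hy h)
    obtain ⟨z, hz, hzy⟩ : ∃ z ∈ U ⊓ LinearMap.ker (Q.polarBilin y), z ≠ 0 := by
      refine (Submodule.ne_bot_iff _).1 fun h => ?_
      have e1 := Submodule.finrank_sup_add_finrank_inf_eq U (LinearMap.ker (Q.polarBilin y))
      have e2 := Submodule.finrank_le (U ⊔ LinearMap.ker (Q.polarBilin y))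
      have e3 := LinearMap.finrank_range_add_finrank_ker (Q.polarBilin y)
      have e4 := Submodule.finrank_le (LinearMap.range (Q.polarBilin y))
      rw [finrank_space] at e2 e3
      rw [Module.finrank_self] at e4
      rw [h, finrank_bot] at e1
      omega
    have hyz : polar ⇑Q y z = 0 := hz.2
    have hQz : Q z ≠ 0 := fun h => hzy (hani z hz.1 h)
    rcases hq with hq2 | hq3
    · haveI := char_small hq2 Nat.prime_two
      have hone : ∀ t : F, t ≠ 0 → t = 1 := fun t ht => by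
        rcases prime_small (.inl hq2) t with h | h | h
        · exact absurd h ht
        · exact h
        · exact h.trans (CharTwo.neg_eq 1)
      by_cases hm : z ∈ (F ∙ y)
      · obtain ⟨x, hx, hxy⟩ := k2 y hy hy0
        refine key hy hx hQy (by rw [hone _ hQy, hone (Q x) (fun h => hxy (by
          rw [hani x hx h, pl_zero_right]))]) fun h => hxy ?_
        obtain ⟨s, rfl⟩ := Submodule.mem_span_singleton.1 h
        rw [pl_smul_right, pl_self, show (2 : F) = 0 by exact_mod_cast CharP.cast_eq_zero F 2,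
          zero_mul, mul_zero]
      · exact key hy hz.1 hQy (by rw [hone _ hQy, hone _ hQz]) hm
    · haveI := char_small hq3 Nat.prime_three
      have h2' : (2 : F) ≠ 0 := by
        intro e
        have := (CharP.cast_eq_zero_iff F 3 2).1 (by exact_mod_cast e)
        omega
      have hn : z ∉ (F ∙ y) := fun h => by
        obtain ⟨s, rfl⟩ := Submodule.mem_span_singleton.1 h
        rw [pl_smul_right, pl_self, mul_eq_zero] at hyz
        exact hzy (by rw [hyz.resolve_right (mul_ne_zero h2' hQy), zero_smul])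
      refine key hy hz.1 hQy ?_ hn
      by_contra hne
      have hsum : Q (z + y) = 0 := by
        rw [Q_add, pl_comm, hyz, add_zero]
        rcases prime_small (.inr hq3) (Q z / Q y) with h | h | h
        · exact absurd ((div_eq_zero_iff.1 h).resolve_right hQy) hQz
        · exact absurd (eq_of_div_eq_one h) hne
        · rw [(div_eq_iff hQy).1 h]; ring
      exact hn (Submodule.mem_span_singleton.2 ⟨-1, by
        rw [neg_one_smul]; exact neg_eq_of_add_eq_zero_left (hani _ (add_mem hz.1 hy) hsum)⟩)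

/-- `e_c(z)` with `z` nonsingular is not a translation along `c`. -/
theorem tr_ns (H : Base Q) (hab : HPair Q a b) {x0 : X} (hr : Reg H a b x0) {c c' z y : ι → F}
    (hc : c ∈ perp Q a b) (hc' : HPair Q c c') (_hz : z ∈ perp Q a b) (hcz : polar ⇑Q c z = 0)
    (hyc : polar ⇑Q y c = 0) (hyz : polar ⇑Q y z ≠ 0) (hay : polar ⇑Q a y = 0) {α : F}
    (hv : Tr H a b x0 (el H c z) (α • c)) : False := by
  obtain ⟨hac, hbc⟩ := mem_perp.1 hc
  have hca : polar ⇑Q c a = 0 := by rw [pl_comm, hac]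
  have hp : polar ⇑Q c (α • a) = 0 := by rw [pl_smul_right, hca, mul_zero]
  have e1 : el H a (α • c) = el H c (-(α • a)) := by
    rw [← el_smul_left, el_flip H (by rw [Q_smul, hab.qe, mul_zero]) hc'.qe
      (by rw [pl_smul_left, hac, mul_zero])]
  have hn : polar ⇑Q c (-(α • a)) = 0 := by rw [pl_neg_right, hp, neg_zero]
  have h1 : el H c (α • a + z) • x0 = x0 := by
    rw [el_add H hc'.qe hp hcz, mul_smul, ← hv.2, e1, ← mul_smul, ← el_add H hc'.qe hp hn,
      add_neg_cancel, el_zero, one_smul]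
  have hp2 : polar ⇑Q c (α • a + z) = 0 := by rw [pl_add_right, hp, hcz, add_zero]
  obtain ⟨k, hk⟩ := eich_right_inj H.nd hc'.qe hc'.ne_zero hp2 (pl_zero_right Q c)
    (by rw [eich_zero]; exact congrArg Subtype.val (hr.free c hc'.qe hc'.ne_zero x0 _ hp2 h1))
  have h2 := congrArg (polar ⇑Q y) hk
  rw [pl_zero_right, pl_add_right, pl_add_right, pl_smul_right, pl_smul_right, hyc,
    pl_comm Q y a, hay] at h2
  exact hyz (by linear_combination -h2)

theorem tr_mul (H : Base Q) (hab : HPair Q a b) {x0 : X} {g h : ↥(Omega F ⇑Q)} {vg vh : ι → F}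
    (ga : ap (g : IsoGrp Q) a = a) (gb : ap (g : IsoGrp Q) b = b) (hg : Tr H a b x0 g vg)
    (hh : Tr H a b x0 h vh) : Tr H a b x0 (g * h) (ap (g : IsoGrp Q) vh + vg) := by
  have hm : ap (g : IsoGrp Q) vh ∈ perp Q a b := move_mem ga gb hh.1
  refine ⟨add_mem hm hg.1, ?_⟩
  rw [el_add H hab.qe (mem_perp.1 hm).1 (mem_perp.1 hg.1).1, mul_smul, hg.2, mul_smul, ← hh.2]
  conv_lhs => rw [← ga, ← conj_el, ← mul_smul, inv_mul_cancel_right, mul_smul]

theorem el_fix_pair (H : Base Q) {c z : ι → F} (hc : c ∈ perp Q a b) (hz : z ∈ perp Q a b)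
    (hQc : Q c = 0) (hcz : polar ⇑Q c z = 0) :
    ap (el H c z : IsoGrp Q) a = a ∧ ap (el H c z : IsoGrp Q) b = b := by
  obtain ⟨haz, hbz⟩ := mem_perp.1 hz
  obtain ⟨hac, hbc⟩ := mem_perp.1 hc
  constructor <;>
    simp [el_coe, eich_ap hQc hcz, pl_comm Q c a, pl_comm Q z a, pl_comm Q c b, pl_comm Q z b,
      hac, haz, hbc, hbz]

theorem refl_pair_fixes (H : Base Q) (_hc : c ∈ perp Q a b) {z z' t : ι → F}
    (hz : z ∈ perp Q a b ⊓ perp Q c c') (hz' : z' ∈ perp Q a b ⊓ perp Q c c')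
    (hQz : Q z ≠ 0) (hzz : Q z' = Q z) (h : polar ⇑Q z t = 0) (h' : polar ⇑Q z' t = 0) :
    ∃ g : ↥(Omega F ⇑Q), (g : IsoGrp Q) = refl Q z * refl Q z' ∧ ap (g : IsoGrp Q) a = a ∧
      ap (g : IsoGrp Q) b = b ∧ g * el H c t = el H c t * g := by
  obtain ⟨hza, hzb⟩ := mem_perp.1 hz.1
  obtain ⟨hz'a, hz'b⟩ := mem_perp.1 hz'.1
  obtain ⟨hzc, -⟩ := mem_perp.1 hz.2
  obtain ⟨hz'c, -⟩ := mem_perp.1 hz'.2
  set g : ↥(Omega F ⇑Q) := ⟨refl Q z * refl Q z', refl_pair_mem H hQz hzz⟩ with hg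
  have gc : ap (g : IsoGrp Q) c = c :=
    refl_pair_fix (by rw [pl_comm, hzc]) (by rw [pl_comm, hz'c])
  have gt : ap (g : IsoGrp Q) t = t := refl_pair_fix h h'
  refine ⟨g, rfl, refl_pair_fix (by rw [pl_comm, hza]) (by rw [pl_comm, hz'a]),
    refl_pair_fix (by rw [pl_comm, hzb]) (by rw [pl_comm, hz'b]), ?_⟩
  have h := conj_el H g c t
  rw [gc, gt] at h
  exact mul_inv_eq_iff_eq_mul.1 h

/-- Three orthogonal vectors of the same norm. -/
theorem three_vec (H : Base Q) (hab : HPair Q a b) {x0 : X} (hr : Reg H a b x0)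
    (hc : c ∈ perp Q a b) (hpc : HPair Q c c') {z zj zk : ι → F}
    (hz : z ∈ perp Q a b ⊓ perp Q c c') (hj : zj ∈ perp Q a b ⊓ perp Q c c')
    (hk : zk ∈ perp Q a b ⊓ perp Q c c') (h2 : (2 : F) ≠ 0) (hQj : Q zj ≠ 0) (hQk : Q zk = Q zj)
    (pj : polar ⇑Q z zj = 0) (pk : polar ⇑Q z zk = 0) (pjk : polar ⇑Q zj zk = 0) {v : ι → F}
    (hv : Tr H a b x0 (el H c z) v) : polar ⇑Q c v = 0 ∧ polar ⇑Q zj v = 0 := by
  obtain ⟨hcz, hc'z⟩ := mem_perp.1 hz.2
  obtain ⟨hcj, hc'j⟩ := mem_perp.1 hj.2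
  refine ⟨coc_perp H hab hr (r := (polar ⇑Q zj zj)⁻¹ • zj) (u' := zj) hc hz.1 hj.1 hpc.qe hcz hcj
    (by rw [pl_smul_left, pl_comm Q zj c, hcj, mul_zero])
    (by rw [pl_smul_left, pl_comm Q zj z, pj, mul_zero])
    (by rw [pl_smul_left, inv_mul_cancel₀ (by rw [pl_self]; exact mul_ne_zero h2 hQj)]) hv, ?_⟩
  obtain ⟨g, hg, ga, gb, hcomm⟩ := refl_pair_fixes H hc hj hk hQj hQk
    (t := z) (by rw [pl_comm, pj]) (by rw [pl_comm, pk])
  obtain ⟨vg, hvg⟩ := hr.trans g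
  have h := comm_diff H hab hr ga gb (el_fix_pair H hc hz.1 hpc.qe hcz).1
    (el_fix_pair H hc hz.1 hpc.qe hcz).2 hcomm hvg hv
  have h1 := congrArg (polar ⇑Q zj) h
  rw [hg, ap_mul, refl_ap Q zk v, refl_ap Q zj, el_coe, eich_ap hpc.qe hcz] at h1
  simp only [pl_sub_right, pl_add_right, pl_smul_right, pl_self, pjk, pl_comm Q zj c, hcj,
    pl_comm Q zj z, pj, mul_zero, sub_zero, add_zero, sub_self] at h1
  field_simp at h1
  have h3 : 2 * polar ⇑Q zj v = 0 := by linear_combination -h1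
  exact (mul_eq_zero.1 h3).resolve_left h2

/-- The case `dim W = 5`. -/
theorem three_false (H : Base Q) (hab : HPair Q a b) {x0 : X} (hr : Reg H a b x0)
    (hq : Fintype.card F = 3) (hfr : Frame Q a b c c' w w')
    (hU : finrank F ↥(perp Q a b ⊓ perp Q c c' ⊓ perp Q w w') = 1) : False := by
  haveI := char_small hq Nat.prime_three
  have h3 : (3 : F) = 0 := by exact_mod_cast CharP.cast_eq_zero F 3
  have h2 : (2 : F) ≠ 0 := fun e => one_ne_zero (show (1 : F) = 0 by linear_combination h3 - e)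
  obtain ⟨hWnd, -⟩ := finrank_perp_eq H.nd hab
  obtain ⟨k1, -⟩ := ndOn_cut hWnd hfr.pc hfr.hc hfr.hc'
  obtain ⟨k2, -⟩ := ndOn_cut k1 hfr.pw hfr.hw hfr.hw'
  obtain ⟨u, hu, hQu⟩ := exists_ns k2 fun h => by rw [h, finrank_bot] at hU; omega
  have hspan : ∀ y ∈ perp Q a b ⊓ perp Q c c' ⊓ perp Q w w', y ∈ (F ∙ u) := by
    intro y hy
    have he : (F ∙ u) = perp Q a b ⊓ perp Q c c' ⊓ perp Q w w' :=
      Submodule.eq_of_le_of_finrank_le (by rwa [Submodule.span_singleton_le_iff_mem])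
        (by rw [hU, finrank_span_singleton (fun h => hQu (by simp [h]))])
    rwa [he]
  obtain ⟨hwu, hw'u⟩ := mem_perp.1 hu.2
  obtain ⟨hcu, hc'u⟩ := mem_perp.1 hu.1.2
  obtain ⟨hcw, hc'w⟩ := mem_perp.1 hfr.hw.2
  obtain ⟨hcw', hc'w'⟩ := mem_perp.1 hfr.hw'.2
  set t := Q u with ht
  set z1 := w - t • w' with hz1
  set z2 := w + t • w' + u with hz2
  set z3 := w + t • w' - u with hz3
  have m1 : z1 ∈ perp Q a b ⊓ perp Q c c' := sub_mem hfr.hw (Submodule.smul_mem _ _ hfr.hw')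
  have m2 : z2 ∈ perp Q a b ⊓ perp Q c c' :=
    add_mem (add_mem hfr.hw (Submodule.smul_mem _ _ hfr.hw')) hu.1
  have m3 : z3 ∈ perp Q a b ⊓ perp Q c c' :=
    sub_mem (add_mem hfr.hw (Submodule.smul_mem _ _ hfr.hw')) hu.1
  have q1 : Q z1 = -t := by
    rw [hz1, Q_sub, Q_smul, hfr.pw.qe, hfr.pw.qf, pl_smul_right, hfr.pw.pf]; ring
  have q2 : Q z2 = -t := by
    rw [hz2, Q_add, Q_add, Q_smul, hfr.pw.qe, hfr.pw.qf, pl_smul_right, hfr.pw.pf, pl_add_left,
      pl_smul_left, hwu, hw'u, ← ht]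
    linear_combination t * h3
  have q3 : Q z3 = -t := by
    rw [hz3, Q_sub, Q_add, Q_smul, hfr.pw.qe, hfr.pw.qf, pl_smul_right, hfr.pw.pf, pl_add_left,
      pl_smul_left, hwu, hw'u, ← ht]
    linear_combination t * h3
  have p12 : polar ⇑Q z1 z2 = 0 := by
    simp [hz1, hz2, pl_add_right, pl_sub_left, pl_smul_left, pl_smul_right, pl_self, hfr.pw.qe,
      hfr.pw.qf, hfr.pw.pf, hfr.pw.swap.pf, hwu, hw'u]
  have p13 : polar ⇑Q z1 z3 = 0 := by
    simp [hz1, hz3, pl_add_right, pl_sub_right, pl_sub_left, pl_smul_left, pl_smul_right, pl_self,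
      hfr.pw.qe, hfr.pw.qf, hfr.pw.pf, hfr.pw.swap.pf, hwu, hw'u]
  have p23 : polar ⇑Q z2 z3 = 0 := by
    simp [hz2, hz3, pl_add_right, pl_add_left, pl_sub_right, pl_smul_left, pl_smul_right, pl_self,
      hfr.pw.qe, hfr.pw.qf, hfr.pw.pf, hfr.pw.swap.pf, hwu, hw'u, pl_comm Q u w, pl_comm Q u w',
      ← ht]
    ring
  have p21 : polar ⇑Q z2 z1 = 0 := by rw [pl_comm, p12]
  have p31 : polar ⇑Q z3 z1 = 0 := by rw [pl_comm, p13]
  have p32 : polar ⇑Q z3 z2 = 0 := by rw [pl_comm, p23]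
  have n1 : Q z1 ≠ 0 := by rw [q1]; exact neg_ne_zero.2 hQu
  have n2 : Q z2 ≠ 0 := by rw [q2]; exact neg_ne_zero.2 hQu
  have n3 : Q z3 ≠ 0 := by rw [q3]; exact neg_ne_zero.2 hQu
  obtain ⟨v1, hv1⟩ := hr.trans (el H c z1)
  obtain ⟨v2, hv2⟩ := hr.trans (el H c z2)
  obtain ⟨v3, hv3⟩ := hr.trans (el H c z3)
  obtain ⟨c1, o12⟩ := three_vec H hab hr hfr.hc hfr.pc m1 m2 m3 h2 n2 (q3.trans q2.symm) p12 p13 p23 hv1
  obtain ⟨-, o13⟩ := three_vec H hab hr hfr.hc hfr.pc m1 m3 m2 h2 n3 (q2.trans q3.symm) p13 p12 p32 hv1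
  obtain ⟨c2, o21⟩ := three_vec H hab hr hfr.hc hfr.pc m2 m1 m3 h2 n1 (q3.trans q1.symm) p21 p23 p13 hv2
  obtain ⟨-, o23⟩ := three_vec H hab hr hfr.hc hfr.pc m2 m3 m1 h2 n3 (q1.trans q3.symm) p23 p21 p31 hv2
  obtain ⟨c3, o31⟩ := three_vec H hab hr hfr.hc hfr.pc m3 m1 m2 h2 n1 (q2.trans q1.symm) p31 p32 p12 hv3
  obtain ⟨-, o32⟩ := three_vec H hab hr hfr.hc hfr.pc m3 m2 m1 h2 n2 (q1.trans q2.symm) p32 p31 p21 hv3
  -- the diagonal values are not zero
  have hdiag : ∀ {z v : ι → F}, z ∈ perp Q a b ⊓ perp Q c c' → Q z ≠ 0 →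
      Tr H a b x0 (el H c z) v → polar ⇑Q c v = 0 → polar ⇑Q z1 v = 0 → polar ⇑Q z2 v = 0 →
      polar ⇑Q z3 v = 0 → False := by
    intro z v hz hQz hv hcv e1 e2 e3
    simp only [hz1, hz2, hz3, pl_sub_left, pl_add_left, pl_smul_left] at e1 e2 e3
    have d1 : polar ⇑Q u v = 0 := by
      have h : 2 * polar ⇑Q u v = 0 := by linear_combination e2 - e3
      exact (mul_eq_zero.1 h).resolve_left h2
    have d2 : polar ⇑Q w v = 0 := by
      have h : 2 * polar ⇑Q w v = 0 := by linear_combination e1 + e2 - d1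
      exact (mul_eq_zero.1 h).resolve_left h2
    have d3 : polar ⇑Q w' v = 0 := by
      have h : t * polar ⇑Q w' v = 0 := by linear_combination d2 - e1
      exact (mul_eq_zero.1 h).resolve_left hQu
    have hd := hfr.decomp H hab hv.1 hcv d2 fun y hy => by
      obtain ⟨s, rfl⟩ := Submodule.mem_span_singleton.1 (hspan y hy)
      rw [pl_smul_right, pl_comm, d1, mul_zero]
    rw [d3, zero_smul, add_zero] at hd
    rw [hd] at hv
    exact tr_ns H hab hr hfr.hc hfr.pc hz.1 (mem_perp.1 hz.2).1 (y := z)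
      (by rw [pl_comm]; exact (mem_perp.1 hz.2).1)
      (by rw [pl_self]; exact mul_ne_zero h2 hQz) (mem_perp.1 hz.1).1 hv
  obtain ⟨hca, hcb⟩ := mem_perp.1 hfr.hc
  have hQc := hfr.pc.qe
  have hcz : ∀ {z : ι → F}, z ∈ perp Q a b ⊓ perp Q c c' → polar ⇑Q c z = 0 := fun hz =>
    (mem_perp.1 hz.2).1
  have f1 := el_fix_pair H hfr.hc m1.1 hQc (hcz m1)
  have t12 := tr_mul H hab f1.1 f1.2 hv1 hv2
  rw [← el_add H hQc (hcz m1) (hcz m2), el_coe, eich_ap hQc (hcz m1), c2, o21, zero_smul, add_zero,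
    mul_zero, add_zero, zero_smul, sub_zero] at t12
  have f12 := el_fix_pair H hfr.hc (add_mem m1.1 m2.1) hQc (hcz (add_mem m1 m2))
  have t123 := tr_mul H hab f12.1 f12.2 t12 hv3
  rw [← el_add H hQc (hcz (add_mem m1 m2)) (hcz m3), el_coe, eich_ap hQc (hcz (add_mem m1 m2)), c3,
    pl_add_left, o31, o32, zero_smul, add_zero, add_zero, mul_zero, add_zero, zero_smul,
    sub_zero] at t123
  have hsum : z1 + z2 + z3 = t • w' := by
    rw [hz1, hz2, hz3]
    have : (3 : F) • w = 0 := by rw [h3, zero_smul]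
    linear_combination (norm := module) this
  rw [hsum] at t123
  have hfr' : Frame Q a b c c' (t • w') (t⁻¹ • w) := ⟨hfr.hc, hfr.hc', hfr.pc,
    Submodule.smul_mem _ _ hfr.hw', Submodule.smul_mem _ _ hfr.hw,
    ⟨by rw [Q_smul, hfr.pw.qf, mul_zero], by rw [Q_smul, hfr.pw.qe, mul_zero],
      by rw [pl_smul_left, pl_smul_right, hfr.pw.swap.pf, mul_one, mul_inv_cancel₀ hQu]⟩⟩
  obtain ⟨hcv, hwv⟩ := hfr'.tr_perp H hab hr t123
  have hs1 : polar ⇑Q z1 (v3 + (v2 + v1)) = polar ⇑Q z1 v1 := by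
    rw [pl_add_right, pl_add_right, o31, o21, zero_add, zero_add]
  have hs2 : polar ⇑Q z2 (v3 + (v2 + v1)) = polar ⇑Q z2 v2 := by
    rw [pl_add_right, pl_add_right, o32, o12, zero_add, add_zero]
  have hs3 : polar ⇑Q z3 (v3 + (v2 + v1)) = polar ⇑Q z3 v3 := by
    rw [pl_add_right, pl_add_right, o23, o13, add_zero, add_zero]
  have hP1 : polar ⇑Q z1 v1 ≠ 0 := fun e => hdiag m1 n1 hv1 c1 e o12 o13
  have hP2 : polar ⇑Q z2 v2 ≠ 0 := fun e => hdiag m2 n2 hv2 c2 o21 e o23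
  have hP3 : polar ⇑Q z3 v3 ≠ 0 := fun e => hdiag m3 n3 hv3 c3 o31 o32 e
  have hsumP : polar ⇑Q z1 v1 + polar ⇑Q z2 v2 + polar ⇑Q z3 v3 = 0 := by
    rw [← hs1, ← hs2, ← hs3, ← pl_add_left, ← pl_add_left, hsum]
    exact hwv
  have h23 : polar ⇑Q z2 v2 = polar ⇑Q z3 v3 := by
    rcases (prime_small (.inr hq) (polar ⇑Q z2 v2)).resolve_left hP2 with e | e <;>
      rcases (prime_small (.inr hq) (polar ⇑Q z3 v3)).resolve_left hP3 with e' | e'
    · rw [e, e']
    · exact absurd (by rw [e, e'] at hsumP; linear_combination hsumP) hP1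
    · exact absurd (by rw [e, e'] at hsumP; linear_combination hsumP) hP1
    · rw [e, e']
  have d1 : polar ⇑Q u (v3 + (v2 + v1)) = 0 := by
    have h : 2 * polar ⇑Q u (v3 + (v2 + v1)) = 0 := by
      rw [← hs2, ← hs3, hz2, hz3, pl_sub_left, pl_add_left (Q := Q) (w + t • w') u] at h23
      linear_combination h23
    exact (mul_eq_zero.1 h).resolve_left h2
  refine T_false H hab hr hfr' ((hfr'.decomp H hab t123.1 hcv hwv fun y hy => ?_) ▸ t123)
  obtain ⟨hyw, hyw'⟩ := mem_perp.1 hy.2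
  rw [pl_smul_left] at hyw hyw'
  obtain ⟨s, rfl⟩ := Submodule.mem_span_singleton.1 (hspan y ⟨hy.1, mem_perp.2
    ⟨(mul_eq_zero.1 hyw').resolve_left (inv_ne_zero hQu), (mul_eq_zero.1 hyw).resolve_left hQu⟩⟩)
  rw [pl_smul_right, pl_comm, d1, mul_zero]

/-- Two elements: an elliptic pair fixes the translation off its plane. -/
theorem two_vec (H : Base Q) (hab : HPair Q a b) {x0 : X} (hr : Reg H a b x0)
    (hc : c ∈ perp Q a b) (hpc : HPair Q c c') (h2 : (2 : F) = 0) {x y z : ι → F}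
    (hx : x ∈ perp Q a b ⊓ perp Q c c') (hy : y ∈ perp Q a b ⊓ perp Q c c')
    (hz : z ∈ perp Q a b ⊓ perp Q c c') (qx : Q x = 1) (qy : Q y = 1) (pxy : polar ⇑Q x y = 1)
    (pxz : polar ⇑Q x z = 0) (pyz : polar ⇑Q y z = 0) {v : ι → F}
    (hv : Tr H a b x0 (el H c z) v) :
    polar ⇑Q c v = 0 ∧ polar ⇑Q x v = 0 ∧ polar ⇑Q y v = 0 ∧ polar ⇑Q z v = 0 := by
  obtain ⟨hcz, hc'z⟩ := mem_perp.1 hz.2
  obtain ⟨hcx, -⟩ := mem_perp.1 hx.2
  obtain ⟨hcy, -⟩ := mem_perp.1 hy.2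
  have hcv : polar ⇑Q c v = 0 := coc_perp H hab hr (r := y) (u' := x) hc hz.1 hx.1 hpc.qe hcz hcx
    (by rw [pl_comm, hcy]) pyz (by rw [pl_comm, pxy]) hv
  obtain ⟨fa, fb⟩ := el_fix_pair H hc hz.1 hpc.qe hcz
  obtain ⟨g, hg, ga, gb, hcomm⟩ := refl_pair_fixes H hc hx hy (by rw [qx]; exact one_ne_zero)
    (qy.trans qx.symm) pxz pyz
  obtain ⟨vg, hvg⟩ := hr.trans g
  have h := comm_diff H hab hr ga gb fa fb hcomm hvg hv
  rw [hg, ap_mul, refl_ap Q y v, refl_ap Q x, el_coe, eich_ap hpc.qe hcz] at h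
  have h1 := congrArg (polar ⇑Q x) h
  have h3 := congrArg (polar ⇑Q y) h
  simp only [pl_sub_right, pl_add_right, pl_smul_right, pl_self, pl_comm Q x c, pl_comm Q y c, hcx,
    hcy, pxz, pyz, pxy, pl_comm Q y x, qx, qy, h2, inv_one, one_mul, mul_one, mul_zero, sub_zero,
    add_zero, sub_self] at h1 h3
  have hy0 : polar ⇑Q y v = 0 := by linear_combination -h1
  refine ⟨hcv, by linear_combination -h3 + hy0, hy0, ?_⟩
  have hll := tr_mul H hab fa fb hv hv
  rw [← el_add H hpc.qe hcz hcz, show z + z = 0 by rw [← two_smul F, h2, zero_smul], el_zero,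
    el_coe, eich_ap hpc.qe hcz, hcv] at hll
  have h1' : Tr H a b x0 (1 : ↥(Omega F ⇑Q)) 0 := ⟨zero_mem _, by rw [el_zero]⟩
  have he := congrArg (polar ⇑Q c') (tr_unique H hab hr hll h1')
  simp only [pl_zero_right, pl_add_right, pl_sub_right, pl_smul_right, zero_smul, mul_zero,
    add_zero, hpc.swap.pf, mul_one] at he
  linear_combination -he + (polar ⇑Q c' v) * h2

/-- The case `dim W = 6` of plus type, two elements. -/
theorem two_false (H : Base Q) (hab : HPair Q a b) {x0 : X} (hr : Reg H a b x0)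
    (hq : Fintype.card F = 2) (hfr : Frame Q a b c c' w w') {e f : ι → F}
    (he : e ∈ perp Q a b ⊓ perp Q c c' ⊓ perp Q w w')
    (hf : f ∈ perp Q a b ⊓ perp Q c c' ⊓ perp Q w w') (hef : HPair Q e f)
    (hU : finrank F ↥(perp Q a b ⊓ perp Q c c' ⊓ perp Q w w') = 2) : False := by
  haveI := char_small hq Nat.prime_two
  have h2 : (2 : F) = 0 := by exact_mod_cast CharP.cast_eq_zero F 2
  obtain ⟨hWnd, -⟩ := finrank_perp_eq H.nd hab
  obtain ⟨k1, -⟩ := ndOn_cut hWnd hfr.pc hfr.hc hfr.hc'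
  obtain ⟨k2, -⟩ := ndOn_cut k1 hfr.pw hfr.hw hfr.hw'
  obtain ⟨-, k4⟩ := ndOn_cut k2 hef he hf
  have hspan : ∀ z ∈ perp Q a b ⊓ perp Q c c' ⊓ perp Q w w',
      z = polar ⇑Q f z • e + polar ⇑Q e z • f := by
    intro z hz
    have hbot := Submodule.finrank_eq_zero.1
      (show finrank F ↥(perp Q a b ⊓ perp Q c c' ⊓ perp Q w w' ⊓ perp Q e f) = 0 by omega)
    have hw0 : wPart Q e f z = 0 := by
      have hm : wPart Q e f z ∈ perp Q a b ⊓ perp Q c c' ⊓ perp Q w w' ⊓ perp Q e f :=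
        ⟨sub_mem (sub_mem hz (Submodule.smul_mem _ _ he)) (Submodule.smul_mem _ _ hf),
          hef.wPart_mem z⟩
      rwa [hbot, Submodule.mem_bot] at hm
    conv_lhs => rw [decomp (Q := Q) e f z, hw0, add_zero]
  obtain ⟨hwe, hw'e⟩ := mem_perp.1 he.2
  obtain ⟨hwf, hw'f⟩ := mem_perp.1 hf.2
  set x := w + w' with hx
  set y := w' + e + f with hy
  set x' := e + f with hx'
  set y' := w + w' + e with hy'
  have mx : x ∈ perp Q a b ⊓ perp Q c c' := add_mem hfr.hw hfr.hw'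
  have my : y ∈ perp Q a b ⊓ perp Q c c' := add_mem (add_mem hfr.hw' he.1) hf.1
  have mx' : x' ∈ perp Q a b ⊓ perp Q c c' := add_mem he.1 hf.1
  have my' : y' ∈ perp Q a b ⊓ perp Q c c' := add_mem (add_mem hfr.hw hfr.hw') he.1
  have facts : Q x = 1 ∧ Q y = 1 ∧ Q x' = 1 ∧ Q y' = 1 ∧ polar ⇑Q x y = 1 ∧
      polar ⇑Q x' y' = 1 ∧ polar ⇑Q x x' = 0 ∧ polar ⇑Q x y' = 0 ∧ polar ⇑Q y x' = 0 ∧
      polar ⇑Q y y' = 0 := by
    refine ⟨?_, ?_, ?_, ?_, ?_, ?_, ?_, ?_, ?_, ?_⟩ <;>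
      simp [hx, hy, hx', hy', Q_add, pl_add_left, pl_add_right, pl_self, hfr.pw.qe, hfr.pw.qf,
        hfr.pw.pf, hfr.pw.swap.pf, hef.qe, hef.qf, hef.pf, hef.swap.pf, hwe, hw'e, hwf, hw'f,
        pl_comm Q e w, pl_comm Q e w', pl_comm Q f w, pl_comm Q f w', h2,
        show (1 : F) + 1 = 0 by linear_combination h2]
  obtain ⟨qx, qy, qx', qy', pxy, px'y', pxx', pxy', pyx', pyy'⟩ := facts
  obtain ⟨v1, hv1⟩ := hr.trans (el H c x)
  obtain ⟨v2, hv2⟩ := hr.trans (el H c y)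
  obtain ⟨v3, hv3⟩ := hr.trans (el H c x')
  obtain ⟨c1, a1, b1, z1⟩ := two_vec H hab hr hfr.hc hfr.pc h2 mx' my' mx qx' qy' px'y'
    (by rw [pl_comm, pxx']) (by rw [pl_comm, pxy']) hv1
  obtain ⟨c2, a2, b2, z2⟩ := two_vec H hab hr hfr.hc hfr.pc h2 mx' my' my qx' qy' px'y'
    (by rw [pl_comm, pyx']) (by rw [pl_comm, pyy']) hv2
  obtain ⟨c3, a3, b3, z3⟩ := two_vec H hab hr hfr.hc hfr.pc h2 mx my mx' qx qy pxy pxx' pyx' hv3
  -- the remaining values are one
  have hlast : ∀ {z r v : ι → F}, z ∈ perp Q a b ⊓ perp Q c c' → r ∈ perp Q a b ⊓ perp Q c c' →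
      polar ⇑Q r z ≠ 0 → Tr H a b x0 (el H c z) v → polar ⇑Q c v = 0 → polar ⇑Q x v = 0 →
      polar ⇑Q y v = 0 → polar ⇑Q x' v = 0 → polar ⇑Q y' v = 0 → False := by
    intro z r v hz hr' hrz hv hcv e1 e2 e3 e4
    simp only [hx, hy, hx', hy', pl_add_left] at e1 e2 e3 e4
    have dw : polar ⇑Q w v = 0 := by linear_combination e1 + e2 + e3 - (polar ⇑Q w' v + polar ⇑Q e v + polar ⇑Q f v) * h2
    have dw' : polar ⇑Q w' v = 0 := by linear_combination e1 - dw
    have de : polar ⇑Q e v = 0 := by linear_combination e4 - e1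
    have df : polar ⇑Q f v = 0 := by linear_combination e3 - de
    have hd := hfr.decomp H hab hv.1 hcv dw fun u hu => by
      rw [hspan u hu, pl_add_right, pl_smul_right, pl_smul_right, pl_comm Q v e, de,
        pl_comm Q v f, df]
      ring
    rw [dw', zero_smul, add_zero] at hd
    rw [hd] at hv
    exact tr_ns H hab hr hfr.hc hfr.pc hz.1 (mem_perp.1 hz.2).1 (y := r)
      (by rw [pl_comm]; exact (mem_perp.1 hr'.2).1) hrz (mem_perp.1 hr'.1).1 hv
  have o1 : polar ⇑Q y v1 = 1 := (two_small hq _).resolve_left fun h =>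
    hlast mx my (by rw [pl_comm, pxy]; exact one_ne_zero) hv1 c1 z1 h a1 b1
  have o2 : polar ⇑Q x v2 = 1 := (two_small hq _).resolve_left fun h =>
    hlast my mx (by rw [pxy]; exact one_ne_zero) hv2 c2 h z2 a2 b2
  have o3 : polar ⇑Q y' v3 = 1 := (two_small hq _).resolve_left fun h =>
    hlast mx' my' (by rw [pl_comm, px'y']; exact one_ne_zero) hv3 c3 a3 b3 z3 h
  have hQc := hfr.pc.qe
  have hcz : ∀ {z : ι → F}, z ∈ perp Q a b ⊓ perp Q c c' → polar ⇑Q c z = 0 := fun hz =>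
    (mem_perp.1 hz.2).1
  have f1 := el_fix_pair H hfr.hc mx.1 hQc (hcz mx)
  have t12 := tr_mul H hab f1.1 f1.2 hv1 hv2
  rw [← el_add H hQc (hcz mx) (hcz my), el_coe, eich_ap hQc (hcz mx), c2, zero_smul, add_zero,
    mul_zero, add_zero] at t12
  have f12 := el_fix_pair H hfr.hc (add_mem mx.1 my.1) hQc (hcz (add_mem mx my))
  have t123 := tr_mul H hab f12.1 f12.2 t12 hv3
  rw [← el_add H hQc (hcz (add_mem mx my)) (hcz mx'), el_coe, eich_ap hQc (hcz (add_mem mx my)),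
    c3, zero_smul, add_zero, mul_zero, add_zero] at t123
  have hsum : x + y + x' = w := by
    rw [hx, hy, hx']
    have : (2 : F) • (w' + e + f) = 0 := by rw [h2, zero_smul]
    linear_combination (norm := module) this
  rw [hsum] at t123
  obtain ⟨hcv, hwv⟩ := hfr.tr_perp H hab hr t123
  refine T_false H hab hr hfr ((hfr.decomp H hab t123.1 hcv hwv fun u hu => ?_) ▸ t123)
  rw [hspan u hu, pl_add_right, pl_smul_right, pl_smul_right]
  have ec : ∀ {z : ι → F}, z ∈ perp Q a b ⊓ perp Q c c' → polar ⇑Q z c = 0 := fun hz => by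
    rw [pl_comm]; exact hcz hz
  generalize hV : v3 - polar ⇑Q (x + y) v3 • c + (v2 - polar ⇑Q x v2 • c + v1) = V
  have sx : polar ⇑Q x V = 1 := by
    simp [← hV, pl_add_right, pl_sub_right, pl_smul_right, ec mx, a3, o2, z1]
  have sx' : polar ⇑Q x' V = 0 := by
    simp [← hV, pl_add_right, pl_sub_right, pl_smul_right, ec mx', a1, a2, z3]
  have sy' : polar ⇑Q y' V = 1 := by
    simp [← hV, pl_add_right, pl_sub_right, pl_smul_right, ec my', b1, b2, o3]
  simp only [hx, hx', hy', pl_add_left] at sx sx' sy'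
  have de : polar ⇑Q e V = 0 := by linear_combination sy' - sx
  have df : polar ⇑Q f V = 0 := by linear_combination sx' - de
  rw [pl_comm Q V e, de, pl_comm Q V f, df]
  ring

end Cfsg.Agent.MinIndex
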