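import Cfsg.Agent.Lib.MinIndex.OrthMove
import Cfsg.Agent.Lib.MinIndex.SmallCount

/-!
# Two and three elements: the vectors in an annihilator

* `SmallQ` : `X` has fewer points than any orbit of points of the space, `q = 2` or `3`
* `prime_small`, `AV_smul` : annihilators are subspaces
* `perp_of_inv` : an annihilator invariant under the unipotent stabiliser of `φ` contains `φ^⊥`
* `perp_or_le_kk` : so `q ≤ kk φ` unless it does
* `kk_ge_images`, `blocks_ge_images`, `cover_images`, `orbit_images`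
-/

set_option autoImplicit false
set_option linter.unusedSectionVars false

namespace Cfsg.Agent.MinIndex

open Cfsg Matrix Module Cfsg.Agent.Orth
open Cfsg.Agent.AutPOmega (NdOn ndOn_cut exists_hpair_in exists_hpair_of_three finrank_perp_eq Base)
open QuadraticMap (polar)
open scoped Pointwise

variable {ι : Type} [Fintype ι] [DecidableEq ι] {F : Type*} [Field F] [Fintype F]
variable {Q : QuadraticForm F (ι → F)}

attribute [local instance] fintypeSub

/-- The hypotheses on a small action over the fields with two and three elements. -/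
structure SmallQ (Q : QuadraticForm F (ι → F)) (X : Type*) [Fintype X] : Prop where
  small : Small Q X
  ns : ∀ c : F, c ≠ 0 → (Fintype.card F - 1) * Fintype.card X < cnt Q ⊤ c
  cases : (Fintype.card F = 2 ∧ Even (Fintype.card ι) ∧
      Fintype.card X + 9 ≤ 2 ^ (Fintype.card ι - 1)) ∨
    (Fintype.card F = 3 ∧ 2 * Fintype.card X + 27 ≤ 3 ^ (Fintype.card ι - 1) ∧
      (Fintype.card ι = 8 → ∀ T : Submodule F (ι → F), (∀ x ∈ T, Q x = 0) → finrank F T ≤ 3))

theorem SmallQ.mono {X Y : Type*} [Fintype X] [Fintype Y] (hs : SmallQ Q X)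
    (h : Fintype.card Y ≤ Fintype.card X) : SmallQ Q Y where
  small := le_trans (Nat.add_le_add_right (Nat.mul_le_mul_left _ h) _) hs.small
  ns c hc := lt_of_le_of_lt (Nat.mul_le_mul_left _ h) (hs.ns c hc)
  cases := hs.cases.imp (fun ⟨h1, h2, h3⟩ => ⟨h1, h2, by omega⟩)
    fun ⟨h1, h2, h3⟩ => ⟨h1, by omega, h3⟩

theorem SmallQ.card {X : Type*} [Fintype X] (hs : SmallQ Q X) :
    Fintype.card F = 2 ∨ Fintype.card F = 3 := hs.cases.imp And.left And.left

theorem char_small {q : ℕ} (hq : Fintype.card F = q) (hp : q.Prime) : CharP F q := by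
  obtain ⟨p, hpc⟩ := CharP.exists F
  obtain ⟨n, hpp, hc⟩ := FiniteField.card F p
  obtain ⟨rfl, -⟩ : p = q ∧ (n : ℕ) = 1 := by
    have := hp.pow_eq_iff.1 (hq ▸ hc).symm
    exact this
  exact hpc

theorem prime_small (hq : Fintype.card F = 2 ∨ Fintype.card F = 3) (c : F) :
    c = 0 ∨ c = 1 ∨ c = -1 := by
  classical
  by_contra! h
  obtain ⟨h0, h1, h2⟩ := h
  rcases hq with hq | hq
  · have := Finset.card_le_univ ({0, 1, c} : Finset F)
    rw [Finset.card_insert_of_notMem (by simp [h0.symm]),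
      Finset.card_insert_of_notMem (by simp [h1.symm]), Finset.card_singleton, hq] at this
    omega
  · haveI := char_small hq Nat.prime_three
    have h2' : (2 : F) ≠ 0 := by
      intro e
      have := (CharP.cast_eq_zero_iff F 3 2).1 (by exact_mod_cast e)
      omega
    have hne : (1 : F) ≠ -1 := fun e => h2' (by linear_combination e)
    have := Finset.card_le_univ ({0, 1, -1, c} : Finset F)
    rw [Finset.card_insert_of_notMem (by simp [h0.symm]),
      Finset.card_insert_of_notMem (by simp [h1.symm, hne]),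
      Finset.card_insert_of_notMem (by simp [h2.symm]), Finset.card_singleton, hq] at this
    omega

theorem dim_five (H : Base Q) {a b : ι → F} (hab : HPair Q a b) :
    NdOn Q (perp Q a b) ∧ finrank F (perp Q a b) + 2 = Fintype.card ι ∧
      5 ≤ finrank F (perp Q a b) := by
  obtain ⟨h1, h2⟩ := finrank_perp_eq H.nd hab
  exact ⟨h1, h2, by have := H.seven; omega⟩

variable {X : Type*} [MulAction ↥(Omega F ⇑Q) X] [Fintype X] [DecidableEq X]
variable {a b : ι → F}

theorem AV_smul (H : Base Q) (hab : HPair Q a b) (hq : Fintype.card F = 2 ∨ Fintype.card F = 3)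
    {B : Finset X} {v : ι → F} (hv : v ∈ AV H hab B) (c : F) : c • v ∈ AV H hab B := by
  rcases prime_small hq c with rfl | rfl | rfl
  · rw [zero_smul]; exact zero_mem _
  · rwa [one_smul]
  · rw [neg_smul, one_smul]; exact neg_mem hv

theorem spanA_eq (H : Base Q) (hab : HPair Q a b) (hq : Fintype.card F = 2 ∨ Fintype.card F = 3)
    (B : Finset X) {v : ι → F} : v ∈ spanA H hab B ↔ v ∈ AV H hab B := by
  refine ⟨fun hv => ?_, fun hv => Submodule.subset_span hv⟩
  induction hv using Submodule.span_induction with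
  | mem x hx => exact hx
  | zero => exact zero_mem _
  | add x y _ _ hx hy => exact add_mem hx hy
  | smul c x _ hx => exact AV_smul H hab hq hx c

/-- Invariance under the unipotent stabiliser of `φ`. -/
theorem perp_of_inv (H : Base Q) (hab : HPair Q a b) (hq : Fintype.card F = 2 ∨ Fintype.card F = 3)
    {B : Finset X} {φ φ' : ι → F} (hφ : φ ∈ AV H hab B) (h0 : φ ≠ 0) (hφ' : φ' ∈ AV H hab B)
    (hne : φ' ∉ (F ∙ φ))
    (hfix : ∀ x ∈ perp Q a b, Q x = 0 → polar ⇑Q φ x = 0 → ∀ w ∈ perp Q a b,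
      polar ⇑Q x w = 0 → polar ⇑Q φ w = 0 → el H x w • B = B) :
    ∀ v ∈ perp Q a b, polar ⇑Q φ v = 0 → v ∈ AV H hab B := by
  obtain ⟨hWnd, hWd, hd⟩ := dim_five H hab
  have hφW := AV_le hφ
  have hinv : ∀ {x w v : ι → F}, x ∈ perp Q a b → Q x = 0 → polar ⇑Q φ x = 0 → w ∈ perp Q a b →
      polar ⇑Q x w = 0 → polar ⇑Q φ w = 0 → v ∈ AV H hab B →
      polar ⇑Q x v • w - (polar ⇑Q w v + Q w * polar ⇑Q x v) • x ∈ AV H hab B := by
    intro x w v hx hQx hφx hw hxw hφw hv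
    obtain ⟨hax, hbx⟩ := mem_perp.1 hx
    obtain ⟨haw, hbw⟩ := mem_perp.1 hw
    have hl : Lev (el H x w) a b 1 := lev_of_fix
      (by simp [el_coe, eich_ap hQx hxw, pl_comm Q x a, pl_comm Q w a, hax, haw])
      (by simp [el_coe, eich_ap hQx hxw, pl_comm Q x b, pl_comm Q w b, hbx, hbw])
    have h1 := AV_lev H hab hl hv
    rw [hfix x hx hQx hφx w hw hxw hφw, inv_one, one_smul, el_coe, eich_ap hQx hxw] at h1
    have h2 := sub_mem h1 hv
    rwa [add_sub_assoc, add_sub_cancel_left] at h2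
  have step : ∀ {x v : ι → F}, x ∈ perp Q a b → Q x = 0 → polar ⇑Q φ x = 0 → v ∈ AV H hab B →
      polar ⇑Q x v ≠ 0 → x ∈ AV H hab B ∧
        ∀ w ∈ perp Q a b, polar ⇑Q x w = 0 → polar ⇑Q φ w = 0 → w ∈ AV H hab B := by
    intro x v hx hQx hφx hv hxv
    set S := orthFam Q ![a, b, x, φ] with hS
    have hSm : ∀ {w : ι → F}, w ∈ S →
        w ∈ perp Q a b ∧ polar ⇑Q x w = 0 ∧ polar ⇑Q φ w = 0 := fun {w} hw => by
      have hm := mem_orthFam.1 hw
      exact ⟨mem_perp.2 ⟨hm 0, hm 1⟩, hm 2, hm 3⟩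
    set Dv : (ι → F) → (ι → F) :=
      fun w => polar ⇑Q x v • w - (polar ⇑Q w v + Q w * polar ⇑Q x v) • x with hDv
    have hD : ∀ {w : ι → F}, w ∈ S → Dv w ∈ AV H hab B := fun {w} hw =>
      hinv hx hQx hφx (hSm hw).1 (hSm hw).2.1 (hSm hw).2.2 hv
    obtain ⟨w0, hw0, w1, hw1, hw01⟩ : ∃ w0 ∈ S, ∃ w1 ∈ S, polar ⇑Q w0 w1 ≠ 0 := by
      by_contra! hall
      have h1 := isotropic_perp_bound H.nd hab S (fun z hz => (hSm hz).1)
        fun y hy z hz => hall y hy z hz
      have h2 : Fintype.card ι ≤ finrank F S + 4 := card_le_finrank_orthFam ![a, b, x, φ]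
      omega
    have hxA : x ∈ AV H hab B := by
      have h1 := sub_mem (sub_mem (hD hw0) (hD (add_mem hw0 hw1))) (neg_mem (hD hw1))
      have h2 : (polar ⇑Q w0 w1 * polar ⇑Q x v) • x ∈ AV H hab B := by
        convert h1 using 1
        simp only [hDv, Q_add, pl_add_left]
        module
      have h3 := AV_smul H hab hq h2 (polar ⇑Q w0 w1 * polar ⇑Q x v)⁻¹
      rwa [smul_smul, inv_mul_cancel₀ (mul_ne_zero hw01 hxv), one_smul] at h3
    refine ⟨hxA, fun w hw hxw hφw => ?_⟩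
    have h4 := add_mem (hinv hx hQx hφx hw hxw hφw hv)
      (AV_smul H hab hq hxA (polar ⇑Q w v + Q w * polar ⇑Q x v))
    rw [sub_add_cancel] at h4
    have h5 := AV_smul H hab hq h4 (polar ⇑Q x v)⁻¹
    rwa [inv_smul_smul₀ hxv] at h5
  by_cases hcase : Q φ = 0 ∧ polar ⇑Q φ φ' ≠ 0
  · obtain ⟨hQ, hp⟩ := hcase
    exact fun v hv hφv =>
      (step hφW hQ (by rw [pl_self, hQ, mul_zero]) hφ' hp).2 v hv hφv hφv
  obtain ⟨x, hx, hQx, hφx, hφ'x⟩ := exists_singular_sep hWnd hd hφW h0 (AV_le hφ') hne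
  have hx0 : x ≠ 0 := fun h => hφ'x (by rw [h, pl_zero_right])
  have hxn : x ∉ (F ∙ φ) := by
    intro hm
    obtain ⟨c, rfl⟩ := Submodule.mem_span_singleton.1 hm
    rw [Q_smul] at hQx
    have hc : c ≠ 0 := fun h => hx0 (by rw [h, zero_smul])
    have hQ : Q φ = 0 := (mul_eq_zero.1 hQx).resolve_left (mul_ne_zero hc hc)
    exact hcase ⟨hQ, fun e => hφ'x (by rw [pl_smul_right, pl_comm, e, mul_zero])⟩
  obtain ⟨hxA, -⟩ := step hx hQx hφx hφ' (by rwa [pl_comm])
  obtain ⟨y, hy, hy1, hy2⟩ := exists_sep hWnd hx hφW h0 hxn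
  set y1 := (polar ⇑Q x y)⁻¹ • y with hy1d
  have hxy1 : polar ⇑Q x y1 = 1 := by rw [hy1d, pl_smul_right, inv_mul_cancel₀ hy2]
  set x' := y1 - Q y1 • x with hx'
  have hx'W : x' ∈ perp Q a b :=
    sub_mem (Submodule.smul_mem _ _ hy) (Submodule.smul_mem _ _ hx)
  have hφx' : polar ⇑Q φ x' = 0 := by
    rw [hx', pl_sub_right, hy1d, pl_smul_right, pl_smul_right, hy1, hφx]; ring
  have hQx' : Q x' = 0 := by
    rw [hx', Q_sub, Q_smul Q (Q y1) x, hQx, pl_smul_right, pl_comm Q y1 x, hxy1]; ring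
  have hx'x : polar ⇑Q x' x = 1 := by
    rw [hx', pl_sub_left, pl_comm Q y1 x, hxy1, pl_smul_left, pl_self, hQx]; ring
  obtain ⟨-, hS⟩ := step hx'W hQx' hφx' hxA (by rw [hx'x]; exact one_ne_zero)
  intro v hv hφv
  have := add_mem (hS (v - polar ⇑Q x' v • x) (sub_mem hv (Submodule.smul_mem _ _ hx))
    (by rw [pl_sub_right, pl_smul_right, hx'x]; ring)
    (by rw [pl_sub_right, pl_smul_right, hφv, hφx]; ring)) (AV_smul H hab hq hxA (polar ⇑Q x' v))
  rwa [sub_add_cancel] at this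

/-- A vector of a block lies in at least `q` annihilators, unless its orthogonal is in this one. -/
theorem perp_or_le_kk (H : Base Q) (hab : HPair Q a b) (hq : Fintype.card F = 2 ∨ Fintype.card F = 3)
    {B : Finset X} (hB : B ∈ blocks (vact H hab)) {φ φ' : ι → F} (hφW : φ ∈ perp Q a b)
    (hφ : φ ∈ AV H hab B) (h0 : φ ≠ 0) (hφ' : φ' ∈ AV H hab B) (hne : φ' ∉ (F ∙ φ)) :
    (∀ v ∈ perp Q a b, polar ⇑Q φ v = 0 → v ∈ AV H hab B) ∨
      Fintype.card F ≤ kk (vact H hab) X ⟨φ, hφW⟩ := by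
  by_cases hk : Fintype.card F ≤ kk (vact H hab) X ⟨φ, hφW⟩
  · exact .inr hk
  refine .inl (perp_of_inv H hab hq hφ h0 hφ' hne fun x hx hQx hφx w hw hxw hφw => ?_)
  have hp : (Fintype.card F).Prime := by
    rcases hq with h | h <;> rw [h] <;> norm_num
  haveI := char_small rfl hp
  refine fix_of_lt_prime (vact H hab) hp ?_ (N := 1) ?_ (Nat.lt_of_not_le hk) hB (mem_AV.1 hφ).2
  · obtain ⟨hax, hbx⟩ := mem_perp.1 hx
    obtain ⟨haw, hbw⟩ := mem_perp.1 hw
    refine lev_fixes H hab ?_ ?_ ?_ <;>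
      simp [el_coe, eich_ap hQx hxw, pl_comm Q x a, pl_comm Q w a, pl_comm Q x b, pl_comm Q w b,
        pl_comm Q x φ, pl_comm Q w φ, hax, haw, hbx, hbw, hφx, hφw]
  · rw [pow_one, el_pow H hQx hxw, ← Nat.cast_smul_eq_nsmul F, CharP.cast_eq_zero, zero_smul,
      el_zero]

/-- Distinct images of the annihilator through `φ`. -/
theorem kk_ge_images (H : Base Q) (hab : HPair Q a b) {B : Finset X}
    (hB : B ∈ blocks (vact H hab)) {φ : ι → F} (hφW : φ ∈ perp Q a b) (hφ : φ ∈ AV H hab B)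
    {s : Finset (Submodule F (ι → F))}
    (hs : ∀ T' ∈ s, ∃ g : IsoGrp Q, g ∈ Omega F ⇑Q ∧ ap g a = a ∧ ap g b = b ∧ ap g φ = φ ∧
      (spanA H hab B).map (ap g) = T') :
    s.card ≤ kk (vact H hab) X ⟨φ, hφW⟩ := by
  classical
  refine le_trans (Finset.card_le_card (t := ((blocks (X := X) (vact H hab)).filter fun B' =>
    (⟨φ, hφW⟩ : ↥(perp Q a b)) ∈ Ab (vact H hab) B').image fun B' => spanA H hab B') ?_)
    Finset.card_image_le
  intro T hT
  obtain ⟨g, hg, ga, gb, gφ, rfl⟩ := hs T hT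
  refine Finset.mem_image.2 ⟨(⟨g, hg⟩ : ↥(Omega F ⇑Q)) • B, Finset.mem_filter.2
    ⟨move_mem_blocks H hab hab ga gb hB, ?_⟩, spanA_move H hab hab ga gb hB⟩
  have := AV_move H hab hab (g := ⟨g, hg⟩) ga gb hB hφ
  rw [show ap ((⟨g, hg⟩ : ↥(Omega F ⇑Q)) : IsoGrp Q) φ = φ from gφ] at this
  exact (mem_AV.1 this).2

/-- Distinct images of the annihilator. -/
theorem blocks_ge_images (H : Base Q) (hab : HPair Q a b) {B : Finset X}
    (hB : B ∈ blocks (vact H hab)) {s : Finset (Submodule F (ι → F))}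
    (hs : ∀ T' ∈ s, Img Q a b (spanA H hab B) T') :
    s.card ≤ (blocks (X := X) (vact H hab)).card := by
  classical
  refine le_trans (Finset.card_le_card (t := (blocks (X := X) (vact H hab)).image
    fun B' => spanA H hab B') ?_) Finset.card_image_le
  intro T hT
  obtain ⟨g, hg, ga, gb, rfl⟩ := hs T hT
  exact Finset.mem_image.2 ⟨(⟨g, hg⟩ : ↥(Omega F ⇑Q)) • B, move_mem_blocks H hab hab ga gb hB,
    spanA_move H hab hab ga gb hB⟩

/-- Images of a totally singular subspace through one of its points cover. -/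
theorem cover_images (H : Base Q) (hab : HPair Q a b) {T : Submodule F (ι → F)}
    (hle : T ≤ perp Q a b) (hT : ∀ x ∈ T, Q x = 0) (hj : 2 ≤ finrank F T) {φ φ' : ι → F}
    (hφ : φ ∈ T) (hφ' : φ' ∈ perp Q a b) (hc : HPair Q φ φ') :
    ∃ s : Finset (Submodule F (ι → F)),
      (∀ T' ∈ s, ∃ g : IsoGrp Q, g ∈ Omega F ⇑Q ∧ ap g a = a ∧ ap g b = b ∧ ap g φ = φ ∧
        T.map (ap g) = T') ∧
      cnt Q (perp Q a b ⊓ perp Q φ φ') 0 ≤
        s.card * (Fintype.card F ^ (finrank F T - 1) - 1) + 1 := by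
  classical
  haveI : Finite (Submodule F (ι → F)) := Finite.of_injective _ SetLike.coe_injective
  haveI := Fintype.ofFinite (Submodule F (ι → F))
  set W2 := perp Q a b ⊓ perp Q φ φ' with hW2
  have hT2 := finrank_inf_perp hc hle hT hφ
  rw [← hW2] at hT2
  obtain ⟨x, hx, hx0⟩ := (Submodule.ne_bot_iff (T ⊓ W2)).1
    (fun h => by rw [h, finrank_bot] at hT2; omega)
  set s := Finset.univ.filter fun T' => ∃ g : IsoGrp Q, g ∈ Omega F ⇑Q ∧ ap g a = a ∧ ap g b = b ∧
    ap g φ = φ ∧ T.map (ap g) = T'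
  have hmem : ∀ T' ∈ s, finrank F ↥(T' ⊓ W2) = finrank F T - 1 := by
    intro T' hT'
    obtain ⟨g, -, ga, gb, gφ, rfl⟩ := (Finset.mem_filter.1 hT').2
    obtain ⟨k1, k2, k3⟩ := map_facts ga gb hle hT
    have := finrank_inf_perp hc k1 k2 ⟨φ, hφ, gφ⟩
    rw [← hW2] at this
    omega
  refine ⟨s, fun T' hT' => (Finset.mem_filter.1 hT').2,
    cover_count (Q := Q) hmem fun x' hx' hQx' hx0' => ?_⟩
  obtain ⟨g, hg, ga, gb, gφ, -, t, ht, gx⟩ := exists_fix_point (good_of_base H) H.seven hab hc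
    (hle hφ) hφ' hx.2 hx' (hT x hx.1) hQx' hx0 hx0'
  refine ⟨T.map (ap g), Finset.mem_filter.2 ⟨Finset.mem_univ _, g, hg, ga, gb, gφ, rfl⟩, ?_⟩
  exact ⟨t⁻¹ • x, T.smul_mem _ hx.1, by rw [map_smul, gx, inv_smul_smul₀ ht]⟩

/-- The orbit of a totally singular subspace, from the images through one of its points. -/
theorem orbit_images (H : Base Q) (hab : HPair Q a b) {T : Submodule F (ι → F)}
    (hle : T ≤ perp Q a b) (hT : ∀ x ∈ T, Q x = 0) {φ0 : ι → F} (hφ0 : φ0 ∈ T) (hφ00 : φ0 ≠ 0)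
    {s0 : Finset (Submodule F (ι → F))}
    (hs0 : ∀ T' ∈ s0, ∃ g : IsoGrp Q, g ∈ Omega F ⇑Q ∧ ap g a = a ∧ ap g b = b ∧ ap g φ0 = φ0 ∧
      T.map (ap g) = T') :
    ∃ s : Finset (Submodule F (ι → F)), (∀ T' ∈ s, Img Q a b T T') ∧
      s0.card * (cnt Q (perp Q a b) 0 - 1) ≤
        s.card * (Fintype.card F ^ finrank F T - 1) := by
  classical
  haveI : Finite (Submodule F (ι → F)) := Finite.of_injective _ SetLike.coe_injective
  haveI := Fintype.ofFinite (Submodule F (ι → F))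
  set s := Finset.univ.filter fun T' => Img Q a b T T'
  refine ⟨s, fun T' hT' => (Finset.mem_filter.1 hT').2, ?_⟩
  set Z := Finset.univ.filter fun x : ι → F => x ∈ perp Q a b ∧ Q x = 0 ∧ x ≠ 0 with hZ
  have hZc : cnt Q (perp Q a b) 0 - 1 = Z.card := by
    rw [cnt, Nat.card_eq_fintype_card, Fintype.card_subtype,
      ← Finset.card_erase_of_mem (a := (0 : ι → F)) (by simp)]
    congr 1; ext x; simp [hZ]; tauto
  rw [hZc]
  have h1 : Z.card * s0.card ≤ ∑ T' ∈ s, (Z.filter fun x => x ∈ T').card := by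
    rw [Finset.sum_congr rfl fun T' _ => Finset.card_filter (fun x => x ∈ T') Z, Finset.sum_comm,
      ← smul_eq_mul]
    refine Finset.card_nsmul_le_sum _ _ _ fun x hx => ?_
    rw [← Finset.card_filter]
    obtain ⟨hxW, hQx, hx0⟩ := (Finset.mem_filter.1 hx).2
    obtain ⟨g, hg, ga, gb, gφ⟩ := exists_fix_omega (good_of_base H) H.seven hab (hle hφ0) hxW hφ00
      hx0 (by rw [hT φ0 hφ0, hQx])
    refine Finset.card_le_card_of_injOn (fun T' => T'.map (ap g)) ?_ ?_
    · intro T' hT'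
      obtain ⟨g', hg', ga', gb', gφ', rfl⟩ := hs0 T' hT'
      refine Finset.mem_filter.2 ⟨Finset.mem_filter.2 ⟨Finset.mem_univ _, g * g', mul_mem hg hg',
        by rw [ap_mul, ga', ga], by rw [ap_mul, gb', gb], OrthAct.map_ap_mul _ _ _⟩, ?_⟩
      exact ⟨φ0, ⟨φ0, hφ0, gφ'⟩, gφ⟩
    · exact fun T1 _ T2 _ h => Submodule.map_injective_of_injective (fun a b h => ap_inj g h) h
  have h2 : ∀ T' ∈ s, (Z.filter fun x => x ∈ T').card ≤ Fintype.card F ^ finrank F T - 1 := by
    intro T' hT'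
    obtain ⟨g, -, ga, gb, rfl⟩ := (Finset.mem_filter.1 hT').2
    rw [← (map_facts ga gb hle hT).2.2, ← card_sub, Nat.card_eq_fintype_card, Fintype.card_subtype,
      ← Finset.card_erase_of_mem (a := (0 : ι → F)) (Finset.mem_filter.2 ⟨Finset.mem_univ _, zero_mem _⟩)]
    refine Finset.card_le_card fun x hx => ?_
    obtain ⟨hxZ, hxT⟩ := Finset.mem_filter.1 hx
    obtain ⟨-, -, hx0⟩ := (Finset.mem_filter.1 hxZ).2
    exact Finset.mem_erase.2 ⟨hx0, Finset.mem_filter.2 ⟨Finset.mem_univ _, hxT⟩⟩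
  calc s0.card * Z.card = Z.card * s0.card := mul_comm _ _
    _ ≤ _ := h1
    _ ≤ _ := (Finset.sum_le_sum h2).trans (by rw [Finset.sum_const, smul_eq_mul])

end Cfsg.Agent.MinIndex
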