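import Cfsg.Agent.Lib.MinIndex.SmallFix
import Cfsg.Agent.Lib.MinIndex.SmallReg
import Cfsg.Agent.Lib.MinIndex.OrthLine

/-!
# No regular orbit of a root group, two and three elements

* `top_unique_small`, `top_only` : a regular orbit is unique, and then the only one
* `reg_false`, `small_q_false` : a transitive non-trivial small `Ω(Q)`-set does not exist
* `omega_index_small`
-/

set_option autoImplicit false
set_option linter.unusedSectionVars false
set_option linter.style.haveILetI false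

namespace Cfsg.Agent.MinIndex

open Cfsg Matrix Module Cfsg.Agent.Orth
open Cfsg.Agent.AutPOmega (NdOn ndOn_cut exists_hpair_in exists_hpair_of_three finrank_perp_eq Base)
open QuadraticMap (polar)
open scoped Pointwise

variable {ι : Type} [Fintype ι] [DecidableEq ι] {F : Type*} [Field F] [Fintype F]
variable {Q : QuadraticForm F (ι → F)} {a b : ι → F}
variable {X : Type*} [MulAction ↥(Omega F ⇑Q) X] [Fintype X] [DecidableEq X]

attribute [local instance] fintypeSub

theorem top_unique_small (H : Base Q) (hab : HPair Q a b) (hs : SmallQ Q X)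
    {B B' : Finset X} (hB : B ∈ blocks (vact H hab)) (hT : Top H hab B)
    (hB' : B' ∈ blocks (vact H hab)) (hT' : Top H hab B') : B' = B := by
  classical
  by_contra hne
  have h1 : 2 * Fintype.card F ^ finrank F (perp Q a b) ≤ Fintype.card X := by
    rw [card_eq_sum (X := X) (vact H hab), two_mul]
    conv_lhs => arg 1; rw [← top_card H hab hB' hT']
    rw [← top_card H hab hB hT, ← Finset.sum_pair (f := Finset.card) hne]
    exact Finset.sum_le_sum_of_subset (by simp [Finset.insert_subset_iff, hB, hB'])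
  obtain ⟨-, hWd, hd⟩ := dim_five H hab
  rcases hs.cases with ⟨hq, -, hn⟩ | ⟨hq, hn, -⟩ <;>
    rw [show Fintype.card ι - 1 = finrank F (perp Q a b) + 1 by omega, pow_succ] at hn <;>
    rw [hq] at h1 <;> omega

/-- Next to a regular orbit there is no other. -/
theorem top_only (H : Base Q) (hab : HPair Q a b) [Nonempty X]
    [MulAction.IsPretransitive ↥(Omega F ⇑Q) X] (hs : SmallQ Q X)
    (hnf : ∀ {c e : ι → F} (hce : HPair Q c e), ∀ B ∈ blocks (X := X) (vact H hce), AV H hce B ≠ ⊥)
    {B : Finset X} (hB : B ∈ blocks (vact H hab)) (hT : Top H hab B) :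
    ∀ C ∈ blocks (X := X) (vact H hab), C = B := by
  classical
  intro B1 hB1
  by_contra hne1
  have h7 := H.seven
  have hG := good_of_base H
  obtain ⟨hWnd, hWd, hd⟩ := dim_five H hab
  obtain ⟨x, hxB⟩ : ∃ x, x ∈ B := by
    obtain ⟨x, rfl⟩ := (mem_blocks _).1 hB
    exact ⟨x, self_mem_orb _ x⟩
  have hline : ∀ C ∈ blocks (X := X) (vact H hab), C ≠ B → Line H hab C := by
    intro C hC hne
    rcases classify_small H hab hs hC with h | h | h
    · exact absurd h (hnf hab C hC)
    · exact absurd (top_unique_small H hab hs hB hT hC h) hne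
    · exact h
  obtain ⟨v, hv, hv0⟩ : ∃ v ∈ AV H hab B1, v ≠ 0 := by
    by_contra! h
    exact hnf hab B1 hB1 ((AddSubgroup.eq_bot_iff_forall _).2 h)
  obtain ⟨hvW, hvA⟩ := mem_AV.1 hv
  have hk2 : 2 ≤ kk (vact H hab) X ⟨v, hvW⟩ := by
    rw [kk]
    refine le_of_eq_of_le (Finset.card_pair hne1).symm
      (Finset.card_le_card (s := {B1, B}) fun C hC => ?_)
    simp only [Finset.mem_insert, Finset.mem_singleton] at hC
    rcases hC with rfl | rfl
    · exact Finset.mem_filter.2 ⟨hB1, hvA⟩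
    · exact Finset.mem_filter.2 ⟨hB, (mem_AV.1 (hT v hvW)).2⟩
  have hne : (⟨v, hvW⟩ : ↥(perp Q a b)) ≠ 0 := fun h => hv0 (congrArg Subtype.val h)
  set O := Finset.univ.filter fun w : ↥(perp Q a b) => Q (w : ι → F) = Q v ∧ w ≠ 0 with hO
  have h0 : (0 : ↥(perp Q a b)) ∉ O := by simp [hO]
  have hc := line_cover H hab hB hT h0 (fun w hw => by
    obtain ⟨hQw, hw0⟩ := (Finset.mem_filter.1 hw).2
    exact hk2.trans (kk_le_norm H hab one_ne_zero hne hw0 (by
      show Q (w : ι → F) = 1 * 1 * Q v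
      rw [hQw]; ring))) hline
  by_cases hQv : Q v = 0
  swap
  · have h1 : cnt Q (perp Q a b) (Q v) ≤ O.card := class_card_ne (perp Q a b) hQv
    have h2 := hs.ns (Q v) hQv
    rw [cnt_pair hab Submodule.mem_top Submodule.mem_top, top_inf_eq, card_sub] at h2
    have := Nat.mul_le_mul_left (Fintype.card F) h1
    omega
  · have hsmall := hs.small
    rw [Small, cnt_top H hab] at hsmall
    have hOc : O.card + 1 = cnt Q (perp Q a b) 0 := by
      rw [← Finset.card_map (Function.Embedding.subtype _), cnt, Nat.card_eq_fintype_card,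
        Fintype.card_subtype, ← Finset.card_insert_of_notMem (a := (0 : ι → F)) (by simp [hO])]
      congr 1
      ext w
      by_cases hw : w = 0 <;> simp [hO, hQv, hw, and_comm]
    have hO1 : 1 ≤ O.card :=
      Finset.card_pos.2 ⟨⟨v, hvW⟩, Finset.mem_filter.2 ⟨Finset.mem_univ _, rfl, hne⟩⟩
    rw [← hOc] at hsmall
    haveI : Finite (SPt Q) := Subtype.finite
    haveI := Fintype.ofFinite (SPt Q)
    have hN := card_spt Q
    rw [Nat.card_eq_fintype_card, cnt_top H hab, ← hOc] at hN
    obtain ⟨r, hr⟩ : ∃ r, Fintype.card F = r + 2 :=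
      ⟨Fintype.card F - 2, by have := Fintype.one_lt_card (α := F); omega⟩
    rw [hr] at hc hsmall hN
    rw [show r + 2 - 1 = r + 1 by omega] at hc hsmall hN
    set n := Fintype.card X
    set q := r + 2 with hqd
    set N := Fintype.card (SPt Q)
    have hNn : N = n + 1 := Nat.eq_of_mul_eq_mul_left (show 0 < r + 1 by omega) (by linarith)
    have hlt : q ^ finrank F (perp Q a b) < n := by
      refine Nat.lt_of_mul_lt_mul_left (a := r + 1) ?_
      have := Nat.mul_le_mul_left q hO1
      omega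
    have hcol : ∀ p : SPt Q, (Finset.univ.filter fun y : X => Free H p.1.rep y).card =
        q ^ finrank F (perp Q a b) := by
      intro p
      obtain ⟨f, hf⟩ := exists_hpair_left H.nd p.2 p.1.rep_nonzero
      obtain ⟨k, hk, ka, kb⟩ := exists_pair_omega hG h7 hab hf
      set B2 := (⟨k, hk⟩ : ↥(Omega F ⇑Q)) • B
      have hB2 : B2 ∈ blocks (vact H hf) := move_mem_blocks H hab hf ka kb hB
      have hT2 : Top H hf B2 := top_move H hab hf ka kb hB hT
      have hd' := (finrank_perp_eq H.nd hf).2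
      rw [← hr, show finrank F (perp Q a b) = finrank F (perp Q p.1.rep f) by omega,
        ← top_card H hf hB2 hT2]
      congr 1
      ext y
      simp only [Finset.mem_filter, Finset.mem_univ, true_and]
      constructor
      · intro hy
        have := (free_iff_top H hf y).1 hy
        rw [← top_unique_small H hf hs hB2 hT2 ((mem_blocks _).2 ⟨y, rfl⟩) this]
        exact self_mem_orb _ y
      · intro hy
        rw [free_iff_top H hf, orb_of_mem hB2 hy]
        exact hT2
    have hrow : ∀ y y' : X, (Finset.univ.filter fun p : SPt Q => Free H p.1.rep y).card ≤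
        (Finset.univ.filter fun p : SPt Q => Free H p.1.rep y').card := by
      intro y y'
      obtain ⟨k, rfl⟩ := MulAction.exists_smul_eq ↥(Omega F ⇑Q) y y'
      refine Finset.card_le_card_of_injOn (fun p => (k : IsoGrp Q) • p) (fun p hp => ?_)
        fun p _ p' _ h => smul_left_cancel _ h
      refine Finset.mem_filter.2 ⟨Finset.mem_univ _, ?_⟩
      obtain ⟨c, hc, hrep⟩ := rep_smul_spt (k : IsoGrp Q) p
      rw [hrep]
      exact free_smul H hc (free_move H k (Finset.mem_filter.1 hp).2)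
    set c := (Finset.univ.filter fun p : SPt Q => Free H p.1.rep x).card
    have hdc : n * c = N * q ^ finrank F (perp Q a b) := by
      calc n * c = ∑ _y : X, c := by rw [Finset.sum_const, smul_eq_mul, Finset.card_univ]
        _ = ∑ y : X, (Finset.univ.filter fun p : SPt Q => Free H p.1.rep y).card :=
          Finset.sum_congr rfl fun y _ => le_antisymm (hrow x y) (hrow y x)
        _ = ∑ p : SPt Q, (Finset.univ.filter fun y : X => Free H p.1.rep y).card := by
          simp only [Finset.card_filter]; exact Finset.sum_comm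
        _ = _ := by
          rw [Finset.sum_congr rfl fun p _ => hcol p, Finset.sum_const, smul_eq_mul,
            Finset.card_univ]
    rw [hNn] at hdc
    have hdvd : n ∣ q ^ finrank F (perp Q a b) :=
      (Nat.Coprime.dvd_of_dvd_mul_left (by simp [Nat.coprime_self_add_right]) ⟨c, hdc.symm⟩)
    exact absurd (Nat.le_of_dvd (by positivity) hdvd) (by omega)

/-- Every root group is regular on `X`: impossible. -/
theorem reg_false (H : Base Q) (hab : HPair Q a b) (hs : SmallQ Q X) {x0 : X}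
    (hr : Reg H a b x0) : False := by
  obtain ⟨hWnd, hWd, hd⟩ := dim_five H hab
  obtain ⟨c, hc, c', hc', pc⟩ := exists_hpair_of_three hWnd (by omega)
  obtain ⟨k1, d1⟩ := ndOn_cut hWnd pc hc hc'
  obtain ⟨w, hw, w', hw', pw⟩ := exists_hpair_of_three k1 (by omega)
  obtain ⟨k2, d2⟩ := ndOn_cut k1 pw hw hw'
  have hfr : Frame Q a b c c' w w' := ⟨hc, hc', pc, hw, hw', pw⟩
  rcases Nat.lt_or_ge (finrank F ↥(perp Q a b ⊓ perp Q c c' ⊓ perp Q w w')) 3 with h3 | h3
  swap
  · exact refl_pair_false H hab hr hs.card hfr (.inl h3)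
  rcases Nat.lt_or_ge (finrank F ↥(perp Q a b ⊓ perp Q c c' ⊓ perp Q w w')) 2 with h2 | h2
  · rcases hs.cases with ⟨-, ⟨t, ht⟩, -⟩ | ⟨hq, -, -⟩
    · omega
    · exact three_false H hab hr hq hfr (by omega)
  by_cases hani : ∀ x ∈ perp Q a b ⊓ perp Q c c' ⊓ perp Q w w', Q x = 0 → x = 0
  · exact refl_pair_false H hab hr hs.card hfr (.inr ⟨h2, hani⟩)
  push Not at hani
  obtain ⟨e, he, hQe, he0⟩ := hani
  obtain ⟨f, hf, hef⟩ := exists_hpair_in k2 he hQe he0
  rcases hs.cases with ⟨hq, -, -⟩ | ⟨-, -, h8⟩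
  · exact two_false H hab hr hq hfr he hf hef (by omega)
  obtain ⟨hac, hbc⟩ := mem_perp.1 hc
  obtain ⟨hac', hbc'⟩ := mem_perp.1 hc'
  obtain ⟨haw, hbw⟩ := mem_perp.1 hw.1
  obtain ⟨haw', hbw'⟩ := mem_perp.1 hw'.1
  obtain ⟨hcw, hc'w⟩ := mem_perp.1 hw.2
  obtain ⟨hcw', hc'w'⟩ := mem_perp.1 hw'.2
  obtain ⟨hae, hbe⟩ := mem_perp.1 he.1.1
  obtain ⟨hce, hc'e⟩ := mem_perp.1 he.1.2
  obtain ⟨hwe, hw'e⟩ := mem_perp.1 he.2
  obtain ⟨haf, hbf⟩ := mem_perp.1 hf.1.1
  obtain ⟨hcf, hc'f⟩ := mem_perp.1 hf.1.2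
  obtain ⟨hwf, hw'f⟩ := mem_perp.1 hf.2
  have hli : LinearIndependent F ![a, c, w, e] := by
    refine li_of_dual (Q := Q) (u := ![b, c', w', f]) fun i j => ?_
    fin_cases i <;> fin_cases j <;>
      simp [hab.swap.pf, pc.swap.pf, pw.swap.pf, hef.swap.pf, hbc, hbw, hbe, hc'w, hc'e, hw'e,
        pl_comm Q c' a, hac', pl_comm Q w' a, haw', pl_comm Q w' c, hcw', pl_comm Q f a, haf,
        pl_comm Q f c, hcf, pl_comm Q f w, hwf]
  have hT : ∀ x ∈ Submodule.span F (Set.range ![a, c, w, e]), Q x = 0 := by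
    refine span_ts ?_ ?_
    · rintro _ ⟨i, rfl⟩
      fin_cases i <;> simp [hab.qe, pc.qe, pw.qe, hQe]
    · rintro _ ⟨i, rfl⟩ _ ⟨j, rfl⟩
      fin_cases i <;> fin_cases j <;>
        simp [pl_self, hab.qe, pc.qe, pw.qe, hQe, hac, haw, hae, hcw, hce, hwe, pl_comm Q c a,
          pl_comm Q w a, pl_comm Q e a, pl_comm Q w c, pl_comm Q e c, pl_comm Q e w]
  have := h8 (by omega) _ hT
  rw [finrank_span_eq_card hli, Fintype.card_fin] at this
  omega

/-- No non-trivial transitive small action. -/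
theorem small_q_false [Nontrivial X] [MulAction.IsPretransitive ↥(Omega F ⇑Q) X] (H : Base Q) :
    ¬ SmallQ Q X := by
  intro hs
  classical
  have hnf : ∀ {c e : ι → F} (hce : HPair Q c e), ∀ B ∈ blocks (X := X) (vact H hce),
      AV H hce B ≠ ⊥ := fun hce _ hB => fix_false_small H hce hs hB
  obtain ⟨a, b, hab⟩ := exists_hpair H.nd (by have := H.seven; omega)
  by_cases hline : ∀ {c e : ι → F} (hce : HPair Q c e), ∀ B ∈ blocks (X := X) (vact H hce),
      Line H hce B
  · exact line_false (X := X) H hab hnf hline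
  push Not at hline
  obtain ⟨c, e, hce, B, hB, hn⟩ := hline
  have hT : Top H hce B := by
    rcases classify_small H hce hs hB with h | h | h
    · exact absurd h (hnf hce B hB)
    · exact h
    · exact absurd h hn
  have htop : ∀ {u u' : ι → F} (hu : HPair Q u u') (y : X), Top H hu (orb (vact H hu) y) := by
    intro u u' hu y
    obtain ⟨k, hk, ka, kb⟩ := exists_pair_omega (good_of_base H) H.seven hce hu
    have hB2 := move_mem_blocks H hce hu (g := ⟨k, hk⟩) ka kb hB
    have hT2 := top_move H hce hu (g := ⟨k, hk⟩) ka kb hB hT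
    rw [top_only H hu hs hnf hB2 hT2 _ ((mem_blocks _).2 ⟨y, rfl⟩)]
    exact hT2
  obtain ⟨x0⟩ : Nonempty X := inferInstance
  refine reg_false H hab hs (x0 := x0) ⟨fun v hQ h0 y => ?_, fun g => ?_⟩
  · obtain ⟨v', hv⟩ := exists_hpair_left H.nd hQ h0
    exact (free_iff_top H hv y).2 (htop hv y)
  · have h1 := top_only H hab hs hnf ((mem_blocks _).2 ⟨x0, rfl⟩) (htop hab x0) _
      ((mem_blocks (vact H hab)).2 ⟨g • x0, rfl⟩)
    have h2 := self_mem_orb (vact H hab) (g • x0)
    rw [h1, mem_orb] at h2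
    obtain ⟨v, hv⟩ := h2
    exact ⟨v.1, v.2, hv⟩

/-- The minimal index, given a number below every orbit of points. -/
theorem omega_index_small (H : Base Q) {N : ℕ} (hN1 : N ≤ Nat.card (SPt Q))
    (hNc : ∀ c : F, c ≠ 0 → (Fintype.card F - 1) * N ≤ cnt Q ⊤ c)
    (hq : (Fintype.card F = 2 ∧ Even (Fintype.card ι) ∧ N + 8 ≤ 2 ^ (Fintype.card ι - 1)) ∨
      (Fintype.card F = 3 ∧ 2 * N + 25 ≤ 3 ^ (Fintype.card ι - 1) ∧
        (Fintype.card ι = 8 → ∀ T : Submodule F (ι → F), (∀ x ∈ T, Q x = 0) → finrank F T ≤ 3)))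
    (K : Subgroup ↥(Omega F ⇑Q)) (hK : K ≠ ⊤) : N ≤ K.index := by
  classical
  haveI := Fintype.ofFinite (↥(Omega F ⇑Q) ⧸ K)
  haveI : Nontrivial (↥(Omega F ⇑Q) ⧸ K) := by
    rw [← Finite.one_lt_card_iff_nontrivial, ← Subgroup.index_eq_card]
    have h0 : K.index ≠ 0 := Subgroup.index_ne_zero_of_finite
    have h1 : K.index ≠ 1 := fun h => hK (Subgroup.index_eq_one.1 h)
    omega
  by_contra! hlt
  have hn : Fintype.card (↥(Omega F ⇑Q) ⧸ K) = K.index := by
    rw [← Nat.card_eq_fintype_card, ← Subgroup.index_eq_card]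
  refine small_q_false (X := ↥(Omega F ⇑Q) ⧸ K) H ⟨?_, fun c hc => ?_, ?_⟩
  · rw [Small, ← card_spt Q, hn]
    have := Nat.mul_le_mul_left (Fintype.card F - 1) (show K.index + 1 ≤ Nat.card (SPt Q) by omega)
    rw [mul_add, mul_one] at this
    have := Fintype.one_lt_card (α := F)
    omega
  · rw [hn]
    refine lt_of_lt_of_le ?_ (hNc c hc)
    exact Nat.mul_lt_mul_of_pos_left hlt (by have := Fintype.one_lt_card (α := F); omega)
  · rw [hn]
    exact hq.imp (fun ⟨h1, h2, h3⟩ => ⟨h1, h2, by omega⟩) fun ⟨h1, h2, h3⟩ => ⟨h1, by omega, h3⟩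

end Cfsg.Agent.MinIndex
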